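import Cfsg.Agent.Lib.Recog.QSThree.Tables

/-! # Data for the recognition of `A8` (generated values) -/

set_option autoImplicit false

namespace CfsgLib.Recog.QSThree

open CfsgLib.InvChar.Coset

/-- An automorphism of `tabA` exchanging classes 2 and 3 and the second and third letters. -/
noncomputable def swapLT : Tr := .node (.leaf 0x767e7a72757d7971777f7b73747c7870666e6a62656d6961676f6b63646c6860565e5a52555d5951575f5b53545c5850464e4a42454d4941474f4b43444c4840363e3a32353d3931373f3b33343c3830262e2a22252d2921272f2b23242c2820161e1a12151d1911171f1b13141c1810060e0a02050d0901070f0b03040c0800) (.leaf 0xb6bebab2b5bdb9b1b7bfbbb3b4bcb8b0a6aeaaa2a5ada9a1a7afaba3a4aca8a0969e9a92959d9991979f9b93949c9890868e8a82858d8981878f8b83848c8880)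

/-- Six permutations of eight points. -/
def genPerm : List (List ℕ) := [[1, 0, 6, 7, 5, 4, 2, 3], [5, 4, 3, 2, 1, 0, 7, 6], [4, 5, 3, 2, 0, 1, 7, 6], [7, 6, 3, 2, 5, 4, 1, 0], [2, 7, 0, 4, 3, 6, 5, 1], [2, 7, 0, 5, 6, 3, 4, 1]]

/-- Words for the products of `(0 1)` with a transposition. -/
def swapWords : List ((ℕ × ℕ) × List ℕ) := [((0, 1), []), ((0, 2), [3, 4, 5, 3, 1, 2]), ((0, 3), [1, 2, 3, 0, 4, 5, 0, 3]), ((0, 4), [0, 5, 2, 3, 1, 2, 3, 4]), ((0, 5), [0, 4, 1, 3, 1, 2, 3, 5]), ((0, 6), [0, 1, 2, 3, 4, 5, 3, 0]), ((0, 7), [1, 2, 4, 3, 4, 5, 3, 5]), ((1, 2), [1, 2, 3, 4, 5, 3]), ((1, 3), [3, 0, 4, 5, 0, 3, 1, 2]), ((1, 4), [1, 2, 4, 3, 1, 2, 3, 5]), ((1, 5), [1, 2, 5, 3, 1, 2, 3, 4]), ((1, 6), [0, 3, 4, 5, 3, 0, 1, 2]), ((1, 7), [4, 3, 0, 4, 5, 3, 0, 5]), ((2, 3), [3, 0, 1, 4, 1, 4, 3]), ((2, 4), [2, 3, 0, 4, 5,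 0, 3, 2]), ((2, 5), [1, 3, 0, 4, 5, 0, 3, 1]), ((2, 6), [0, 4, 5, 3, 1, 2, 3, 4, 5]), ((2, 7), [1, 4, 1, 5]), ((3, 4), [1, 3, 4, 5, 3, 1]), ((3, 5), [2, 3, 4, 5, 3, 2]), ((3, 6), [1, 2, 4, 5]), ((3, 7), [4, 3, 0, 5, 3, 5, 2, 3, 4]), ((4, 5), [1, 2]), ((4, 6), [2, 4, 3, 4, 5, 3, 5, 2]), ((4, 7), [0, 2, 3, 4, 5, 3, 0, 2]), ((5, 6), [1, 4, 3, 4, 5, 3, 1, 5]), ((5, 7), [0, 1, 3, 4, 5, 3, 0, 1]), ((6, 7), [1, 2, 3, 1, 2, 3])]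

end CfsgLib.Recog.QSThree
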