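import Cfsg.Agent.Lib.Recog.QSThree.AltParab
import Cfsg.Agent.Lib.Recog.QSThree.AltGlueData
import Cfsg.Agent.Lib.Recog.QSThree.AltCertL
import Cfsg.Agent.Lib.Recog.QSThree.AltCertMain
import Cfsg.Agent.Lib.InvChar.CosetWordGroup
import Mathlib.GroupTheory.SpecificGroups.Alternating.Simple

/-!
# Type A8: the two parabolic pieces generate `A8`
-/

set_option autoImplicit false
set_option maxRecDepth 100000

namespace CfsgLib.Recog.QSThree.Alt

open CfsgLib.InvChar.Coset Equiv

universe u

variable {G : Type u} [Group G] {s : G} (D : Data tabA s)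

/-- The automorphism exchanging classes 2 and 3. -/
noncomputable def swapL (i : ℕ) : ℕ := field swapLT 128 8 i

theorem swapL_facts : Nat.beq (swapL 0) 0 = true ∧ Nat.beq (swapL 16) 16 = true ∧
    Tab.all192 (fun i => Nat.blt (swapL i) 192 && Nat.beq (swapL (swapL i)) i &&
      Tab.all192 fun j => Nat.beq (swapL (tabA.mul i j)) (tabA.mul (swapL i) (swapL j))) = true := by
  refine ⟨?_, ?_, ?_⟩ <;> decide +kernel

theorem swapL_get {i : ℕ} (hi : i < 192) : swapL i < 192 ∧ swapL (swapL i) = i ∧
    ∀ j < 192, swapL (tabA.mul i j) = tabA.mul (swapL i) (swapL j) := by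
  have h := Tab.all192_get swapL_facts.2.2 hi
  simp only [Bool.and_eq_true] at h
  exact ⟨by simpa [Nat.blt] using h.1.1, Nat.eq_of_beq_eq_true h.1.2,
    fun j hj => Nat.eq_of_beq_eq_true (Tab.all192_get h.2 hj)⟩

/-- The data seen through the automorphism. -/
noncomputable def swapD : Data tabA s :=
  D.relabel swapL swapL
    (fun i hi => ⟨(swapL_get hi).1, (swapL_get hi).1, (swapL_get hi).2.1, (swapL_get hi).2.1⟩)
    (fun i j hi hj => (swapL_get hi).2.2 j hj) (Nat.eq_of_beq_eq_true swapL_facts.1)
    (Nat.eq_of_beq_eq_true swapL_facts.2.1)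

theorem swapL_classes :
    ([2, 3, 4, 5, 6].map fun c => tabA.cls (swapL (tabA.rep c))) = [3, 2, 4, 5, 6] ∧
    ([2, 3, 4, 5, 6].all fun c => Nat.blt (swapL (tabA.rep c)) 192) = true := by
  constructor <;> decide +kernel

theorem fus_swapD {c c' : ℕ} (hc : c ∈ [2, 3, 4, 5, 6]) (e : tabA.cls (swapL (tabA.rep c)) = c')
    (h0 : c' ≠ 0) : Fus (swapD D) c ↔ Fus D c' := by
  have hlt : swapL (tabA.rep c) < 192 := by
    simpa [Nat.blt] using List.all_eq_true.1 swapL_classes.2 c hc
  rw [← e, fus_iff D hlt (e ▸ h0)]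
  rfl

theorem good_swapD (hg : Good D) : Good (swapD D) := by
  have h := swapL_classes.1
  simp only [List.map_cons, List.map_nil, List.cons.injEq] at h
  obtain ⟨t2, t3, t4, t5, t6, -⟩ := h
  exact ⟨(fus_swapD D (by simp) t2 (by norm_num)).2 hg.three,
    (fus_swapD D (by simp) t3 (by norm_num)).2 hg.two,
    fun h => hg.four ((fus_swapD D (by simp) t4 (by norm_num)).1 h),
    (fus_swapD D (by simp) t5 (by norm_num)).2 hg.five,
    fun h => hg.six ((fus_swapD D (by simp) t6 (by norm_num)).1 h)⟩

/-- Six letters. -/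
def six (u v : G) (x : ℕ) : G :=
  [D.el 96, D.el 101, D.el 107, D.el 128, u, v].getD x 1

/-- The action of the second extra letter on `rList`. -/
def fvR : List ℕ := [0, 96, 16, 123, 11, 107, 27, 112, 5, 101, 21, 110, 30, 126, 14, 117]

/-- The relators with the second extra letter. -/
def rels3 : List (List ℕ) :=
  [[5, 0, 5, 1, 0], [5, 1, 3, 5, 1, 3, 5, 1, 3], [5, 3, 0, 2, 3, 5, 1, 3, 2, 0, 3, 1]]

/-- The correspondence of the letters. -/
def mapTwo (x : ℕ) : ℕ := [0, 2, 1, 3, 5].getD x 0

theorem glue_facts :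
    (rList.all fun i => rList.contains (swapL i) && Nat.beq (swapL (app fuR (swapL i))) (app fvR i)) =
      true ∧
    (rList.all fun i => Nat.beq (app (comp (comp fuR fvR) (comp fuR fvR)) i) i) = true ∧
    Tab.all192 (fun k => (rList.any fun i => !Nat.beq (tabA.conj k i) i) || rList.contains k) = true ∧
    (rList.all fun i => !(Nat.beq (app fuR i) i && Nat.beq (app fvR i) i) ||
      Nat.beq i 0 || Nat.beq i 110) = true ∧
    tabA.mul (tabA.mul 101 27) 110 = 0 ∧ app fuR 27 = 101 ∧ app fvR 101 = 101 ∧
    app fuR 101 = 27 ∧ app fuR 16 = 5 ∧ app fvR 16 = 11 ∧ tabA.mul 16 11 = 27 ∧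
    swapL 96 = 96 ∧ swapL 101 = 107 ∧ swapL 107 = 101 ∧ swapL 128 = 128 ∧
    rels3 = rels2.map (List.map mapTwo) := by
  refine ⟨?_, ?_, ?_, ?_, ?_, ?_, ?_, ?_, ?_, ?_, ?_, ?_, ?_, ?_, ?_, ?_⟩ <;> decide +kernel

theorem wprod_map (t : ℕ → G) (f : ℕ → ℕ) (r : List ℕ) :
    wprod t (r.map f) = wprod (fun x => t (f x)) r := by
  simp [wprod, List.map_map, Function.comp_def]

theorem wprod_congr {t t' : ℕ → G} {r : List ℕ} (h : ∀ x ∈ r, t x = t' x) :
    wprod t r = wprod t' r :=
  congrArg List.prod (List.map_congr_left h)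

/-- The two extra letters with all relators. -/
theorem exists_pair [Finite G] (hs : orderOf s = 2) (hg : Good D) :
    ∃ u v : G, u * u = 1 ∧ v * v = 1 ∧
      (∀ r ∈ rels2 ++ rels3, wprod (six D u v) r = 1) ∧ u * v * (u * v) = 1 := by
  obtain ⟨g1, g2, g3, g4, e110, eu27, ev101, eu101, eu16, ev16, em, s96, s101, s107, s128, emap⟩ :=
    glue_facts
  obtain ⟨u, hu2, hur, hua⟩ := exists_parab D hs hg
  obtain ⟨v, hv2, hvr, hva⟩ := exists_parab (swapD D) hs (good_swapD D hg)
  have hva' : Act D v fvR := by
    intro i hi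
    have h := List.all_eq_true.1 g1 i hi
    simp only [Bool.and_eq_true] at h
    have hm : swapL i ∈ rList := by simpa using h.1
    obtain ⟨hmem, e⟩ := hva _ hm
    have hlt := (rList_get hmem).1
    change v * D.el (swapL (swapL i)) * v⁻¹ = D.el (swapL (app fuR (swapL i))) at e
    rw [(swapL_get (rList_get hi).1).2.1, Nat.eq_of_beq_eq_true h.2] at e
    refine ⟨?_, e⟩
    have h' := List.all_eq_true.1 g1 _ hmem
    simp only [Bool.and_eq_true] at h'
    rw [← Nat.eq_of_beq_eq_true h.2]
    simpa using h'.1
  have hrels : ∀ v' : G, (∀ r ∈ rels2, wprod (letters (swapD D) v') r = 1) →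
      ∀ r ∈ rels2 ++ rels3, wprod (six D u v') r = 1 := by
    intro v' hv' r hr
    have hlt : (rels2.all fun r => r.all fun x => Nat.blt x 5) = true := by decide
    rcases List.mem_append.1 hr with hr | hr
    · refine (wprod_congr fun x hx => ?_).trans (hur r hr)
      have : x < 5 := by simpa [Nat.blt] using List.all_eq_true.1 (List.all_eq_true.1 hlt r hr) x hx
      interval_cases x <;> rfl
    · rw [emap] at hr
      obtain ⟨r₀, hr₀, rfl⟩ := List.mem_map.1 hr
      rw [wprod_map]
      refine (wprod_congr fun x hx => ?_).trans (hv' r₀ hr₀)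
      have : x < 5 := by
        simpa [Nat.blt] using List.all_eq_true.1 (List.all_eq_true.1 hlt r₀ hr₀) x hx
      interval_cases x
      · show D.el 96 = D.el (swapL 96)
        rw [s96]
      · show D.el 107 = D.el (swapL 101)
        rw [s101]
      · show D.el 101 = D.el (swapL 107)
        rw [s107]
      · show D.el 128 = D.el (swapL 128)
        rw [s128]
      · rfl
  have hui : u⁻¹ = u := inv_eq_of_mul_eq_one_right hu2
  have hvi : v⁻¹ = v := inv_eq_of_mul_eq_one_right hv2
  -- the commutator acts trivially, so lies in `rList`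
  have huv := act_comp D hua hva' (by rfl)
  have hc := act_comp D huv huv (comp_length _ (by rfl))
  set c := u * v * (u * v) with hcdef
  have hfix : ∀ i ∈ rList, c * D.el i * c⁻¹ = D.el i := fun i hi => by
    have := (hc i hi).2
    rwa [Nat.eq_of_beq_eq_true (List.all_eq_true.1 g2 i hi)] at this
  have hcs : c * s = s * c := by
    have e := hfix 16 (by simp [rList])
    rw [D.el_zi] at e
    calc c * s = c * s * c⁻¹ * c := by group
      _ = s * c := by rw [e]
  obtain ⟨r, hr, hre⟩ := D.mem.1 hcs
  have hrR : r ∈ rList := by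
    rcases Bool.or_eq_true _ _ ▸ Tab.all192_get g3 hr with h | h
    · exfalso
      obtain ⟨i, hi, h⟩ := List.any_eq_true.1 h
      have e := hfix i hi
      rw [← hre, D.el_conj tabA_ok hr (rList_get hi).1] at e
      simp [D.el_inj (tabA_ok.conj_lt hr (rList_get hi).1) (rList_get hi).1 e] at h
    · simpa using h
  have hsq : D.el r * D.el r = 1 := by
    rw [D.el_mul hr hr]
    have : (rList.all fun i => Nat.beq (tabA.mul i i) 0) = true := by decide +kernel
    rw [Nat.eq_of_beq_eq_true (List.all_eq_true.1 this r hrR), D.el_zero]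
  have hru : app fuR r = r := by
    have e := (hua r hrR).2
    have hinv : (D.el r)⁻¹ = D.el r := inv_eq_of_mul_eq_one_right hsq
    have : u * D.el r * u⁻¹ = (D.el r)⁻¹ := by
      rw [hre, hcdef]; simp [mul_inv_rev, hui, hvi, mul_assoc, ← mul_assoc u u, hu2]
    rw [hinv, e] at this
    exact D.el_inj (rList_get (hua r hrR).1).1 hr this
  have hrv : app fvR r = r := by
    have e := (hva' r hrR).2
    have hinv : (D.el r)⁻¹ = D.el r := inv_eq_of_mul_eq_one_right hsq
    have : v * D.el r * v⁻¹ = (D.el r)⁻¹ := by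
      rw [hre, hcdef]; simp [mul_inv_rev, hui, hvi, mul_assoc, hv2]
    rw [hinv, e] at this
    exact D.el_inj (rList_get (hva' r hrR).1).1 hr this
  have hcase : r = 0 ∨ r = 110 := by
    have := List.all_eq_true.1 g4 r hrR
    simpa [hru, hrv] using this
  rcases hcase with rfl | rfl
  · exact ⟨u, v, hu2, hv2, hrels v hvr, by rw [← hcdef, ← hre, D.el_zero]⟩
  · have hs2 : s * s = 1 := by rw [← pow_two, ← hs, pow_orderOf_eq_one]
    have hsi : s⁻¹ = s := inv_eq_of_mul_eq_one_right hs2
    refine ⟨u, s * v * s, hu2, ?_, hrels _ ?_, ?_⟩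
    · calc s * v * s * (s * v * s) = s * v * (s * s) * v * s := by group
        _ = s * (v * v) * s := by rw [hs2]; group
        _ = 1 := by rw [hv2, mul_one, hs2]
    · intro r hr
      let φ : G →* G := (MulAut.conj s).toMonoidHom
      have hlt : (rels2.all fun r => r.all fun x => Nat.blt x 5) = true := by decide
      rw [← map_one φ, ← hvr r hr]
      refine (map_wprod φ _ _ r fun x hx => ?_).symm
      have : x < 5 := by simpa [Nat.blt] using List.all_eq_true.1 (List.all_eq_true.1 hlt r hr) x hx
      have hl : ∀ k < 192, φ ((swapD D).el k) = (swapD D).el k := fun k hk => by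
        show s * _ * s⁻¹ = _
        rw [← (swapD D).el_comm_s hk]; group
      interval_cases x
      · exact hl 96 (by norm_num)
      · exact hl 101 (by norm_num)
      · exact hl 107 (by norm_num)
      · exact hl 128 (by norm_num)
      · show s * v * s⁻¹ = s * v * s
        rw [hsi]
    · -- move `s v s` to `el 27 * v`
      have e16v : v * s * v = D.el 11 := by
        have := (hva' 16 (by simp [rList])).2
        rwa [D.el_zi, ev16, hvi] at this
      have e27 : s * v * s = D.el 27 * v := by
        rw [← em, ← D.el_mul (by norm_num) (by norm_num), D.el_zi, ← e16v]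
        simp [mul_assoc, hv2]
      have eu : u * D.el 27 = D.el 101 * u := by
        have := (hua 27 (by simp [rList])).2
        rw [eu27] at this
        rw [← this]; group
      have ec : u * v * D.el 101 = D.el 27 * (u * v) := by
        have h1 := (huv 101 (by simp [rList])).2
        rw [app_comp (by rfl) (by simp [rList]), ev101, eu101] at h1
        rw [← h1]; group
      calc u * (s * v * s) * (u * (s * v * s)) = u * D.el 27 * v * (u * D.el 27 * v) := by
            rw [e27]; group
        _ = D.el 101 * (u * v * D.el 101) * (u * v) := by rw [eu]; group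
        _ = D.el 101 * D.el 27 * c := by rw [ec, hcdef]; group
        _ = 1 := by
          rw [← hre, D.el_mul (by norm_num) (by norm_num),
            D.el_mul (tabA_ok.mul_lt (by norm_num) (by norm_num)) (by norm_num), e110, D.el_zero]

/-! ### The presented group -/

/-- A generator as a map of eight points. -/
def pMap (x : ℕ) (k : Fin 8) : Fin 8 := Fin.ofNat 8 ((genPerm.getD x []).getD k.val k.val)

theorem pMap_inv (x : ℕ) (k : Fin 8) : pMap x (pMap x k) = k := by
  rcases Nat.lt_or_ge x 6 with h | h
  · have : ∀ y : Fin 6, ∀ k : Fin 8, pMap y (pMap y k) = k := by decide +kernel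
    exact this ⟨x, h⟩ k
  · have : genPerm.getD x [] = [] := List.getD_eq_default _ _ (by simpa [genPerm] using h)
    simp only [pMap, this]
    simp

/-- A generator as a permutation. -/
def pPerm (x : ℕ) : Perm (Fin 8) := (show Function.Involutive (pMap x) from pMap_inv x).toPerm

theorem pPerm_sign (x : ℕ) : Perm.sign (pPerm x) = 1 := by
  rcases Nat.lt_or_ge x 6 with h | h
  · have : ∀ y : Fin 6, Perm.sign (pPerm y) = 1 := by decide +kernel
    exact this ⟨x, h⟩
  · have : pPerm x = 1 := by
      ext k
      have : genPerm.getD x [] = [] := List.getD_eq_default _ _ (by simpa [genPerm] using h)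
      show ((pMap x k : Fin 8) : ℕ) = _
      simp only [pMap, this]
      simp
    simp [this]

/-- A generator of `A8`. -/
def gA (x : ℕ) : alternatingGroup (Fin 8) :=
  ⟨pPerm x, Perm.mem_alternatingGroup.2 (pPerm_sign x)⟩

/-- The composite of some generators at a point. -/
def follow (L : List ℕ) (k : Fin 8) : Fin 8 := L.foldr pMap k

theorem coe_wprod : ∀ (L : List ℕ) (k : Fin 8),
    ((wprod gA L : alternatingGroup (Fin 8)) : Perm (Fin 8)) k = follow L k := by
  intro L
  induction L with
  | nil => intro k; simp [wprod, follow]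
  | cons x L ih =>
    intro k
    have e : wprod gA (x :: L) = gA x * wprod gA L := by simp [wprod]
    rw [e, Subgroup.coe_mul, Perm.mul_apply, ih k]
    rfl

/-- The presentation of `A8`. -/
def pres : WordPres where
  g := 6
  rels := AltCertMain.rels
  pos := by norm_num
  lt := by decide +kernel
  sq := by decide +kernel

theorem pres_embed : (∀ r ∈ AltCertL.rels, (∀ x ∈ r, x < 4) ∧ r ∈ AltCertMain.rels) ∧
    AltCertL.cert.subs = [] ∧
    (∀ r ∈ AltCertMain.subs, r.map (fun x => (List.range 6).getD x 0) ∈
      (List.range 4).map (fun x => [x]) ∧ ∀ x ∈ r, x < (List.range 6).length) := by decide +kernel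

theorem subGen_range {K : Type*} [Monoid K] (t : ℕ → K) (n : ℕ) (r : List ℕ) (h : ∀ x ∈ r, x < n) :
    wprod (subGen t (List.range n)) r = wprod t r := by
  simp only [wprod]
  refine congrArg List.prod (List.map_congr_left fun x hx => ?_)
  simp [subGen, h x hx]

theorem card_pres_le : Finite pres.Grp ∧ Nat.card pres.Grp ≤ 105 * (192 * 1) := by
  obtain ⟨e1, e2, e3⟩ := pres_embed
  obtain ⟨f0, n0⟩ := card_lettersClosure_nil pres.gen
  obtain ⟨f1, n1⟩ := AltCertL.covered.chain_step pres.gen pres.gen_mul_self (List.range 4) []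
    rfl (fun r hr => by
      rw [subGen_range _ _ _ (e1 r hr).1]; exact pres.gen_rel r (e1 r hr).2)
    (fun x hx => by simp at hx) (fun r hr => by rw [e2] at hr; simp at hr)
    f0 n0
  exact pres.card_le_of_lettersClosure (emb := List.range 6) rfl
    (AltCertMain.covered.chain_step pres.gen pres.gen_mul_self (List.range 6) (List.range 4)
      rfl (fun r hr => by
        rw [subGen_range _ _ _ (show ∀ x ∈ r, x < 6 from pres.lt r hr)]; exact pres.gen_rel r hr)
      (fun x hx => List.mem_range.2 (lt_trans (List.mem_range.1 hx) (by norm_num))) e3 f1 n1)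

theorem swapWords_facts : (swapWords.all fun p =>
    (List.finRange 8).all fun k => decide (follow p.2 k =
      (swap (0 : Fin 8) 1 * swap (Fin.ofNat 8 p.1.1) (Fin.ofNat 8 p.1.2)) k) &&
      p.2.all fun x => Nat.blt x 6) = true ∧
    ((List.finRange 8).all fun a => (List.finRange 8).all fun b =>
      decide (a = b) || swapWords.any fun p =>
        (Nat.beq p.1.1 a && Nat.beq p.1.2 b) || (Nat.beq p.1.1 b && Nat.beq p.1.2 a)) = true := by
  constructor <;> decide +kernel

theorem closure_gA : Subgroup.closure (gA '' Set.Iio 6) = ⊤ := by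
  set H := Subgroup.closure (gA '' Set.Iio 6)
  set τ : Perm (Fin 8) := swap 0 1 with hτ
  have hτ2 : τ * τ = 1 := swap_mul_self 0 1
  have hmemW : ∀ L : List ℕ, (∀ x ∈ L, x < 6) → wprod gA L ∈ H := fun L hL =>
    H.list_prod_mem fun y hy => by
      obtain ⟨x, hx, rfl⟩ := List.mem_map.1 hy
      exact Subgroup.subset_closure ⟨x, hL x hx, rfl⟩
  have hsw : ∀ a b : Fin 8, a ≠ b → τ * swap a b ∈ H.map (alternatingGroup (Fin 8)).subtype := by
    intro a b hab
    have h := List.all_eq_true.1 (List.all_eq_true.1 swapWords_facts.2 a (List.mem_finRange a)) b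
      (List.mem_finRange b)
    simp only [hab, decide_false, Bool.false_or] at h
    obtain ⟨p, hp, h⟩ := List.any_eq_true.1 h
    have hw := List.all_eq_true.1 swapWords_facts.1 p hp
    have hlt : ∀ x ∈ p.2, x < 6 := fun x hx => by
      have h2 := List.all_eq_true.1 hw 0 (List.mem_finRange 0)
      simp only [Bool.and_eq_true] at h2
      simpa [Nat.blt] using List.all_eq_true.1 h2.2 x hx
    refine ⟨wprod gA p.2, hmemW _ hlt, Equiv.ext fun k => ?_⟩
    have h2 := List.all_eq_true.1 hw k (List.mem_finRange k)
    simp only [Bool.and_eq_true, decide_eq_true_eq] at h2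
    rw [Subgroup.subtype_apply, coe_wprod, h2.1]
    simp only [Bool.or_eq_true, Bool.and_eq_true] at h
    rcases h with ⟨h1, h3⟩ | ⟨h1, h3⟩ <;>
      rw [Nat.eq_of_beq_eq_true h1, Nat.eq_of_beq_eq_true h3]
    · simp [hτ]
    · simp [hτ, swap_comm]
  set M := H.map (alternatingGroup (Fin 8)).subtype
  have hall : ∀ σ : Perm (Fin 8), (Perm.sign σ = 1 → σ ∈ M) ∧ (Perm.sign σ = -1 → τ * σ ∈ M) := by
    intro σ
    induction σ using Perm.swap_induction_on with
    | one => exact ⟨fun _ => M.one_mem, fun h => by simp at h⟩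
    | swap_mul f a b hab ih =>
      have hs : Perm.sign (swap a b * f) = - Perm.sign f := by
        rw [map_mul, Perm.sign_swap hab, neg_one_mul]
      constructor <;> intro h <;> rw [hs] at h
      · have hf : Perm.sign f = -1 := by rw [← h, neg_neg]
        have e : swap a b * f = (τ * swap a b)⁻¹ * (τ * f) := by
          rw [mul_inv_rev, swap_inv, mul_assoc (swap a b), inv_mul_cancel_left]
        rw [e]
        exact mul_mem (inv_mem (hsw a b hab)) (ih.2 hf)
      · have hf : Perm.sign f = 1 := neg_inj.1 h
        rw [← mul_assoc]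
        exact mul_mem (hsw a b hab) (ih.1 hf)
  refine top_le_iff.1 fun x _ => ?_
  obtain ⟨y, hy, hyx⟩ := (hall x).1 (Perm.mem_alternatingGroup.1 x.2)
  rwa [← Subtype.ext hyx]

theorem six_facts : AltCertMain.rels =
    [[1, 2, 1, 2], [0, 1, 0, 1], [0, 2, 0, 2], [2, 3, 2, 3, 2, 3], [0, 3, 0, 3, 0, 3],
      [1, 3, 1, 3, 1, 3]] ++ (rels2 ++ rels3) ++ [[4, 5, 4, 5], [], [0, 0], [1, 1], [2, 2], [3, 3],
      [4, 4], [5, 5]] ∧
    (AltCertMain.rels.all fun r => !(r.all fun x => Nat.blt x 4) || Nat.beq (tWord r) 0) = true := by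
  constructor <;> decide +kernel

/-- The embedding of `A8` sending the generators to the six letters. -/
theorem exists_alt_eight [Finite G] (hs : orderOf s = 2) (hg : Good D) :
    ∃ (u v : G) (α : alternatingGroup (Fin 8) →* G), Function.Injective α ∧
      ∀ x < 6, α (gA x) = six D u v x := by
  obtain ⟨u, v, hu2, hv2, hr, huv⟩ := exists_pair D hs hg
  refine ⟨u, v, ?_⟩
  obtain ⟨φ, hφ⟩ := pres.exists_hom gA fun r hr => Subtype.ext (Equiv.ext fun k => by
    have : (AltCertMain.rels.all fun r => (List.finRange 8).all fun k =>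
        decide (follow r k = k)) = true := by decide +kernel
    have h := List.all_eq_true.1 (List.all_eq_true.1 this r hr) k (List.mem_finRange k)
    simp only [decide_eq_true_eq] at h
    rw [coe_wprod, h]; rfl)
  have hsur : φ.range = ⊤ := by
    refine top_le_iff.1 ?_
    rw [← closure_gA, Subgroup.closure_le]
    rintro _ ⟨x, hx, rfl⟩
    exact ⟨pres.gen x, hφ x hx⟩
  have hcard : Nat.card (alternatingGroup (Fin 8)) = 20160 := by
    rw [nat_card_alternatingGroup, Nat.card_fin]; rfl
  have hb : Function.Bijective φ :=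
    ⟨(card_eq_and_injective φ (N := 20160) (by norm_num) card_pres_le
      (by rw [hsur, Subgroup.card_top, hcard])).2, MonoidHom.range_eq_top.1 hsur⟩
  let ι := MulEquiv.ofBijective φ hb
  obtain ⟨β, hβ⟩ := pres.exists_hom (six D u v) fun r hr' => by
    have hcases : (∀ x ∈ r, x < 4) ∨ r ∈ rels2 ++ rels3 ∨ r = [4, 5, 4, 5] ∨ r = [4, 4] ∨
        r = [5, 5] := by
      have hm : r ∈ AltCertMain.rels := hr'
      rw [six_facts.1] at hm
      simp only [List.mem_append, List.mem_cons, List.not_mem_nil, or_false] at hm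
      rcases hm with (h | h) | h
      · left; rcases h with rfl | rfl | rfl | rfl | rfl | rfl <;> simp
      · exact Or.inr (Or.inl (List.mem_append.2 h))
      · rcases h with rfl | rfl | rfl | rfl | rfl | rfl | rfl | rfl <;> simp
    rcases hcases with h | h | rfl | rfl | rfl
    · have ht : tWord r = 0 := by
        have := List.all_eq_true.1 six_facts.2 r hr'
        have hb : (r.all fun x => Nat.blt x 4) = true :=
          List.all_eq_true.2 fun x hx => by simpa [Nat.blt] using h x hx
        simp only [hb, Bool.not_true, Bool.false_or] at this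
        exact Nat.eq_of_beq_eq_true this
      have e : wprod (six D u v) r = wprod (letters D u) r := wprod_congr fun x hx => by
        have := h x hx; interval_cases x <;> rfl
      rw [e, (wprod_tab D u r h).1, ht, D.el_zero]
    · exact hr r h
    · simpa [wprod, six, mul_assoc] using huv
    · simpa [wprod, six] using hu2
    · simpa [wprod, six] using hv2
  refine ⟨β.comp ι.symm.toMonoidHom, ?_, fun x hx => ?_⟩
  · haveI : IsSimpleGroup (alternatingGroup (Fin 8)) := alternatingGroup.isSimpleGroup (by simp)
    rcases (β.comp ι.symm.toMonoidHom).normal_ker.eq_bot_or_eq_top with h | h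
    · exact (MonoidHom.ker_eq_bot_iff _).1 h
    · exfalso
      have hm : ι (pres.gen 0) ∈ (β.comp ι.symm.toMonoidHom).ker := by
        rw [h]; exact Subgroup.mem_top _
      rw [MonoidHom.mem_ker] at hm
      have h96 : D.el 96 = 1 := by simpa [hβ 0 (by decide : 0 < pres.g), six] using hm
      rw [← D.el_zero] at h96
      exact absurd (D.el_inj (by norm_num) (by norm_num) h96) (by norm_num)
  · have : ι.symm (gA x) = pres.gen x := by rw [← hφ x hx]; exact ι.symm_apply_apply _
    simp only [MonoidHom.coe_comp, MulEquiv.coe_toMonoidHom, Function.comp_apply, this]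
    exact hβ x hx

end CfsgLib.Recog.QSThree.Alt
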