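/-! # Words for the centraliser in type A8 (generated values) -/

set_option autoImplicit false

namespace CfsgLib.Recog.QSThree.Alt

/-- A word in the first four letters for each number. -/
def lWords : List (List Nat) := [
  [], [2,3,1,0,3,1], [3,2,1,3,1,0], [3,2,0,3,2,1], [3,1,0,3,2,1], [1,0],
  [3,2,0,3,2,0], [0,3,2,1,3,2,1,0], [1,3,2,0,3,2], [3,2,1,3,2,1], [3,1,0,3], [2,0],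
  [3,2,1,3,2,0], [3,2,0,3], [3,2,1,0,3,2,1,0,3,0], [3,1,0,3,1,0], [3,2,1,0,3,2,1,0,3,2,1,0], [3,1,0,3,2,0],
  [0,3,2,1,3,2], [1,3,2,0,3,0], [2,3,1,0,3,0], [3,2,1,0,3,2,1,0,3,2], [1,3,2,0,3,1], [3,2,1,3],
  [3,2,0,3,1,0], [0,3,2,1,3,0], [2,3,1,0,3,2,1,0], [3,2,1,0,3,2,1,0,3,1], [0,3,2,1,3,1], [1,3,2,0,3,2,1,0],
  [2,1], [2,3,1,0,3,2], [3,0], [2,0,3,1], [2,3,2,1,0,3], [0,3,2,1,0,3,1,0],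
  [0,3,2,1,0,3,2,0], [1,0,3,0], [2,0,3,2], [2,1,0,3,2,1,0,3], [1,0,3,2], [2,1,3,2,1,0],
  [3,1], [2,0,3,0], [1,3,2,1,0,3], [3,2], [0,3,2,1,0,3,2,1], [1,0,3,1],
  [2,1,0,3,2,1,0,3,2,1], [1,3,2,1,0,3,2,0], [1,0,3,2,1,0], [2,1,3,2], [2,1,3,1], [2,3,2,1,0,3,2,1],
  [1,3,2,1,0,3,1,0], [3,2,1,0], [2,3,2,1,0,3,1,0], [0,3,2,1,0,3], [2,1,0,3,2,1,0,3,2,0], [1,3,2,1,0,3,2,1],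
  [2,0,3,2,1,0], [2,1,0,3,2,1,0,3,1,0], [2,1,3,0], [2,3,2,1,0,3,2,0], [0,3], [2,1,0,3,1,0],
  [2,3,2,1], [2,0,3,2,1,0,3,1], [1,0,3,2,1,0,3,2], [1,3], [0,3,2,0], [2,1,0,3,2,1],
  [2,1,0,3,2,0], [2,1,3,2,1,0,3,0], [1,3,1,0], [2,3], [1,3,2,1], [2,3,2,0],
  [3,2,1,0,3,2,1,0], [0,3,1,0], [2,1,3,2,1,0,3,2,1,0], [3,2,1,0,3,2], [1,0,3,2,1,0,3,0], [1,3,2,0],
  [2,3,1,0], [2,0,3,2,1,0,3,2,1,0], [2,1,3,2,1,0,3,1], [3,2,1,0,3,0], [3,2,1,0,3,1], [0,3,2,1],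
  [2,0,3,2,1,0,3,2], [1,0,3,2,1,0,3,2,1,0], [2,0,3,2,1,0,3,0], [1,0,3,2,1,0,3,1], [2,1,0,3], [2,1,3,2,1,0,3,2],
  [0], [2,3,1,0,3,1,0], [3,2,1,3,1], [3,2,0,3,2,1,0], [3,1,0,3,2,1,0], [1],
  [3,2,0,3,2], [0,3,2,1,3,2,1], [1,3,2,0,3,2,0], [3,2,1,3,2,1,0], [3,1,0,3,0], [2],
  [3,2,1,3,2], [3,2,0,3,0], [3,2,1,0,3,2,1,0,3], [3,1,0,3,1], [3,2,1,0,3,2,1,0,3,2,1], [3,1,0,3,2],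
  [0,3,2,1,3,2,0], [1,3,2,0,3], [2,3,1,0,3], [3,2,1,0,3,2,1,0,3,2,0], [1,3,2,0,3,1,0], [3,2,1,3,0],
  [3,2,0,3,1], [0,3,2,1,3], [2,3,1,0,3,2,1], [3,2,1,0,3,2,1,0,3,1,0], [0,3,2,1,3,1,0], [1,3,2,0,3,2,1],
  [2,1,0], [2,3,1,0,3,2,0], [3], [2,0,3,1,0], [2,3,2,1,0,3,0], [0,3,2,1,0,3,1],
  [0,3,2,1,0,3,2], [1,0,3], [2,0,3,2,0], [2,1,0,3,2,1,0,3,0], [1,0,3,2,0], [2,1,3,2,1],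
  [3,1,0], [2,0,3], [1,3,2,1,0,3,0], [3,2,0], [0,3,2,1,0,3,2,1,0], [1,0,3,1,0],
  [2,1,0,3,2,1,0,3,2,1,0], [1,3,2,1,0,3,2], [1,0,3,2,1], [2,1,3,2,0], [2,1,3,1,0], [2,3,2,1,0,3,2,1,0],
  [1,3,2,1,0,3,1], [3,2,1], [2,3,2,1,0,3,1], [0,3,2,1,0,3,0], [2,1,0,3,2,1,0,3,2], [1,3,2,1,0,3,2,1,0],
  [2,0,3,2,1], [2,1,0,3,2,1,0,3,1], [2,1,3], [2,3,2,1,0,3,2], [0,3,0], [2,1,0,3,1],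
  [2,3,2,1,0], [2,0,3,2,1,0,3,1,0], [1,0,3,2,1,0,3,2,0], [1,3,0], [0,3,2], [2,1,0,3,2,1,0],
  [2,1,0,3,2], [2,1,3,2,1,0,3], [1,3,1], [2,3,0], [1,3,2,1,0], [2,3,2],
  [3,2,1,0,3,2,1], [0,3,1], [2,1,3,2,1,0,3,2,1], [3,2,1,0,3,2,0], [1,0,3,2,1,0,3], [1,3,2],
  [2,3,1], [2,0,3,2,1,0,3,2,1], [2,1,3,2,1,0,3,1,0], [3,2,1,0,3], [3,2,1,0,3,1,0], [0,3,2,1,0],
  [2,0,3,2,1,0,3,2,0], [1,0,3,2,1,0,3,2,1], [2,0,3,2,1,0,3], [1,0,3,2,1,0,3,1,0], [2,1,0,3,0], [2,1,3,2,1,0,3,2,0]]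

end CfsgLib.Recog.QSThree.Alt
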