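import Cfsg.Agent.Lib.Clifford.AltSchur
import Cfsg.Agent.Lib.Recog.QSThree.AltGlue
import Cfsg.Agent.Lib.Recog.QSThree.AltWords

/-!
# Type A8: facts on permutations

The three cycles `(a b i)` define homomorphisms out of an alternating group; involutions of `A₈`
and `A₉` fall into two classes; facts on `A₅`, `A₈` and `A₉` used in the recognition.
-/

set_option autoImplicit false
set_option maxRecDepth 100000

namespace CfsgLib.Recog.QSThree.Alt

open CfsgLib.InvChar.Coset CfsgLib.Clifford.AltSchur Equiv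

universe u

/-- A homomorphism from Carmichael's relations. -/
theorem exists_hom_carmichael {K : Type u} [Group K] [Finite K] (m : ℕ)
    (a : Fin m → alternatingGroup (Fin (m + 2))) (ha3 : ∀ i, a i ^ 3 = 1)
    (ha2 : ∀ i j, i ≠ j → a i * a j * (a i * a j) = 1)
    (hgen : Subgroup.closure (Set.range a) = ⊤) (x : Fin m → K) (hx3 : ∀ i, x i ^ 3 = 1)
    (hx2 : ∀ i j, i ≠ j → x i * x j * (x i * x j) = 1) :
    ∃ ψ : alternatingGroup (Fin (m + 2)) →* K, ∀ i, ψ (a i) = x i := by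
  let z : Fin m → alternatingGroup (Fin (m + 2)) × K := fun i => (a i, x i)
  have hle := carmichael_bound m z (fun i => Prod.ext (ha3 i) (hx3 i))
    (fun i j hij => Prod.ext (ha2 i j hij) (hx2 i j hij))
  set P := Subgroup.closure (Set.range z) with hP
  let f : P →* alternatingGroup (Fin (m + 2)) := (MonoidHom.fst _ K).comp P.subtype
  have hsur : Function.Surjective f := by
    rw [← MonoidHom.range_eq_top, eq_top_iff, ← hgen, Subgroup.closure_le]
    rintro _ ⟨i, rfl⟩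
    exact ⟨⟨z i, Subgroup.subset_closure ⟨i, rfl⟩⟩, rfl⟩
  haveI : Nontrivial (Fin (m + 2)) := Fin.nontrivial_iff_two_le.mpr (by omega)
  have hcard : 2 * Nat.card (alternatingGroup (Fin (m + 2))) = (m + 2).factorial := by
    rw [two_mul_nat_card_alternatingGroup, Nat.card_perm, Nat.card_fin]
  have hb : Function.Bijective f := by
    refine ⟨?_, hsur⟩
    have hge := Nat.card_le_card_of_surjective f hsur
    exact (hsur.bijective_of_nat_card_le (by omega)).1
  let e := MulEquiv.ofBijective f hb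
  refine ⟨((MonoidHom.snd _ K).comp P.subtype).comp e.symm.toMonoidHom, fun i => ?_⟩
  have : e.symm (a i) = ⟨z i, Subgroup.subset_closure ⟨i, rfl⟩⟩ := e.symm_apply_eq.2 rfl
  simp [this, z]

/-- Generation by three cycles through two points. -/
theorem closure_c3_eq_top {n : ℕ} {a b : Fin n} (hab : a ≠ b) {ι : Type*}
    (t : ι → alternatingGroup (Fin n))
    (h : ∀ i, i ≠ a → i ≠ b → ∃ j, (t j : Perm (Fin n)) = c3 a b i) :
    Subgroup.closure (Set.range t) = ⊤ := by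
  set H := Subgroup.closure (Set.range t)
  refine top_le_iff.1 fun x _ => ?_
  obtain ⟨y, hy, hyx⟩ := three_cycle_mem_of_gens hab
    (T := H.map (alternatingGroup (Fin n)).subtype)
    (fun i h1 h2 => by
      obtain ⟨j, hj⟩ := h i h1 h2
      exact ⟨t j, Subgroup.subset_closure ⟨j, rfl⟩, hj⟩) x.2
  rwa [← Subtype.ext hyx]

/-! ### The generators -/

/-- Generators of `A₅`. -/
def g5 (i : Fin 3) : alternatingGroup (Fin 5) :=
  ⟨c3 0 1 (![2, 3, 4] i), by
    fin_cases i <;> exact c3_mem (by decide) (by decide)⟩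

/-- Generators of `A₈`. -/
def g8 (i : Fin 6) : alternatingGroup (Fin 8) :=
  ⟨c3 6 7 (![0, 1, 2, 3, 4, 5] i), by
    fin_cases i <;> exact c3_mem (by decide) (by decide)⟩

/-- Generators of `A₉`. -/
def g9 (i : Fin 7) : alternatingGroup (Fin 9) :=
  ⟨c3 6 7 (![0, 1, 2, 3, 4, 5, 8] i), by
    fin_cases i <;> exact c3_mem (by decide) (by decide)⟩

theorem g5_rel : (∀ i, g5 i ^ 3 = 1) ∧ ∀ i j, i ≠ j → g5 i * g5 j * (g5 i * g5 j) = 1 := by
  refine ⟨?_, ?_⟩ <;> decide +kernel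

theorem g8_rel : (∀ i, g8 i ^ 3 = 1) ∧ ∀ i j, i ≠ j → g8 i * g8 j * (g8 i * g8 j) = 1 := by
  refine ⟨?_, ?_⟩ <;> decide +kernel

theorem g9_rel : (∀ i, g9 i ^ 3 = 1) ∧ ∀ i j, i ≠ j → g9 i * g9 j * (g9 i * g9 j) = 1 := by
  refine ⟨?_, ?_⟩ <;> decide +kernel

theorem closure_g5 : Subgroup.closure (Set.range g5) = ⊤ :=
  closure_c3_eq_top (a := 0) (b := 1) (by decide) g5 fun i h1 h2 => by
    have : ∀ i : Fin 5, i ≠ 0 → i ≠ 1 → ∃ j : Fin 3, (![2, 3, 4] j : Fin 5) = i := by decide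
    obtain ⟨j, hj⟩ := this i h1 h2
    exact ⟨j, by show c3 0 1 _ = _; rw [hj]⟩

theorem closure_g8 : Subgroup.closure (Set.range g8) = ⊤ :=
  closure_c3_eq_top (a := 6) (b := 7) (by decide) g8 fun i h1 h2 => by
    have : ∀ i : Fin 8, i ≠ 6 → i ≠ 7 → ∃ j : Fin 6, (![0, 1, 2, 3, 4, 5] j : Fin 8) = i := by
      decide
    obtain ⟨j, hj⟩ := this i h1 h2
    exact ⟨j, by show c3 6 7 _ = _; rw [hj]⟩

theorem closure_g9 : Subgroup.closure (Set.range g9) = ⊤ :=
  closure_c3_eq_top (a := 6) (b := 7) (by decide) g9 fun i h1 h2 => by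
    have : ∀ i : Fin 9, i ≠ 6 → i ≠ 7 →
        ∃ j : Fin 7, (![0, 1, 2, 3, 4, 5, 8] j : Fin 9) = i := by
      decide
    obtain ⟨j, hj⟩ := this i h1 h2
    exact ⟨j, by show c3 6 7 _ = _; rw [hj]⟩

/-! ### Named elements of `A₈` -/

/-- An element of `A₈` from two transpositions. -/
def two (a b c d : Fin 8) (h : Perm.sign (swap a b * swap c d) = 1 := by decide) :
    alternatingGroup (Fin 8) :=
  ⟨swap a b * swap c d, Perm.mem_alternatingGroup.2 h⟩

/-- An involution moving four points. -/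
def eT : alternatingGroup (Fin 8) := two 0 1 2 3
/-- A second one. -/
def eP : alternatingGroup (Fin 8) := two 0 2 1 3
/-- A third one. -/
def eW : alternatingGroup (Fin 8) := two 4 5 6 7
/-- A fourth one. -/
def eW' : alternatingGroup (Fin 8) := two 4 6 5 7
/-- A fifth one. -/
def eR : alternatingGroup (Fin 8) := two 0 1 4 5
/-- A sixth one. -/
def eU : alternatingGroup (Fin 8) := two 0 1 6 7
/-- An involution moving all points. -/
def eS : alternatingGroup (Fin 8) := eT * eW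
/-- An element of order three fixing `6` and `7`. -/
def eH : alternatingGroup (Fin 8) :=
  ⟨c3 0 2 4 * c3 1 3 5, mul_mem (c3_mem (by decide) (by decide)) (c3_mem (by decide) (by decide))⟩
/-- An element of order three on the last four points. -/
def eC : alternatingGroup (Fin 8) := ⟨c3 4 5 6, c3_mem (by decide) (by decide)⟩

/-- The element of `A₈` with a number. -/
def nm (i : ℕ) : alternatingGroup (Fin 8) := wprod gA (lWords.getD i [])

/-- The word of `eS` in the three cycles. -/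
def wordS : List ℕ := [4, 2, 5, 3, 4, 2, 0, 1, 1, 0]
/-- The word of `eT` in the three cycles. -/
def wordT : List ℕ := [2, 0, 3, 1, 2, 0]

theorem c3word_facts :
    wprod (fun i => g8 (Fin.ofNat 6 i)) wordS = eS ∧ wprod (fun i => g8 (Fin.ofNat 6 i)) wordT = eT ∧
      ((wprod (fun i => g9 (Fin.ofNat 7 i)) wordS : alternatingGroup (Fin 9)) : Perm (Fin 9)) =
        swap 0 1 * swap 2 3 * swap 4 5 * swap 6 7 ∧
      ((wprod (fun i => g9 (Fin.ofNat 7 i)) wordT : alternatingGroup (Fin 9)) : Perm (Fin 9)) =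
        swap 0 1 * swap 2 3 := by
  refine ⟨?_, ?_, ?_, ?_⟩ <;> decide +kernel

/-! ### Involutions of small alternating groups -/

theorem isConj_of_cycleType {n : ℕ} {u v : alternatingGroup (Fin n)} {τ : Perm (Fin n)}
    (hτ : Perm.sign τ = -1) (hc : τ * v = v * τ)
    (h : (u : Perm (Fin n)).cycleType = (v : Perm (Fin n)).cycleType) : IsConj u v := by
  obtain ⟨g, hg⟩ := isConj_iff.1 (Perm.isConj_iff_cycleType_eq.2 h)
  rcases Int.units_eq_one_or (Perm.sign g) with hs | hs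
  · exact isConj_iff.2 ⟨⟨g, Perm.mem_alternatingGroup.2 hs⟩, Subtype.ext hg⟩
  · refine isConj_iff.2 ⟨⟨τ * g, Perm.mem_alternatingGroup.2 (by rw [map_mul, hτ, hs]; rfl)⟩,
      Subtype.ext ?_⟩
    show τ * g * u * (τ * g)⁻¹ = v
    rw [show τ * g * (u : Perm (Fin n)) * (τ * g)⁻¹ = τ * (g * u * g⁻¹) * τ⁻¹ by group, hg, hc,
      mul_inv_cancel_right]

theorem cycleType_cases {n : ℕ} (hn : n ≤ 9) {u : alternatingGroup (Fin n)} (hu : orderOf u = 2) :
    (u : Perm (Fin n)).cycleType = Multiset.replicate 4 2 ∨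
      (u : Perm (Fin n)).cycleType = Multiset.replicate 2 2 := by
  haveI : Fact (Nat.Prime 2) := ⟨Nat.prime_two⟩
  have h2 : orderOf (u : Perm (Fin n)) = 2 := by rw [Subgroup.orderOf_coe, hu]
  obtain ⟨k, hk⟩ := Perm.cycleType_prime_order (h2.symm ▸ Nat.prime_two)
  rw [h2] at hk
  have hsum : (u : Perm (Fin n)).cycleType.sum ≤ n := by
    rw [Perm.sum_cycleType]
    simpa using Finset.card_le_univ (u : Perm (Fin n)).support
  have hsign : Perm.sign (u : Perm (Fin n)) = 1 := Perm.mem_alternatingGroup.1 u.2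
  rw [Perm.sign_of_cycleType, hk, Multiset.sum_replicate, Multiset.card_replicate] at hsign
  rw [hk, Multiset.sum_replicate, smul_eq_mul] at hsum
  have hk4 : k < 4 := by omega
  interval_cases k
  · exact absurd hsign (by decide)
  · exact Or.inr hk
  · exact absurd hsign (by decide)
  · exact Or.inl hk

theorem invol_classes {n : ℕ} (hn : n ≤ 9) {v₁ v₂ u : alternatingGroup (Fin n)} (τ : Perm (Fin n))
    (hτ : Perm.sign τ = -1) (h₁ : τ * v₁ = v₁ * τ) (h₂ : τ * v₂ = v₂ * τ)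
    (c₁ : (v₁ : Perm (Fin n)).cycleType = Multiset.replicate 4 2)
    (c₂ : (v₂ : Perm (Fin n)).cycleType = Multiset.replicate 2 2)
    (hu : orderOf u = 2) : IsConj u v₁ ∨ IsConj u v₂ := by
  rcases cycleType_cases hn hu with h | h
  · exact Or.inl (isConj_of_cycleType hτ h₁ (h.trans c₁.symm))
  · exact Or.inr (isConj_of_cycleType hτ h₂ (h.trans c₂.symm))

theorem cycleType_pairs_four {n : ℕ} {σ : Perm (Fin n)} (h : σ * σ = 1)
    (hc : σ.support.card = 8) : σ.cycleType = Multiset.replicate 4 2 := by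
  have hne : σ ≠ 1 := fun e => by simp [e] at hc
  have h2 : orderOf σ = 2 := orderOf_eq_prime (by rw [pow_two]; exact h) hne
  obtain ⟨k, hk⟩ := Perm.cycleType_prime_order (h2.symm ▸ Nat.prime_two)
  rw [h2] at hk
  have hs := σ.sum_cycleType
  rw [hk, Multiset.sum_replicate, smul_eq_mul, hc] at hs
  rw [hk]; congr 1; omega

theorem cycleType_pairs_two {n : ℕ} {σ : Perm (Fin n)} (h : σ * σ = 1)
    (hc : σ.support.card = 4) : σ.cycleType = Multiset.replicate 2 2 := by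
  have hne : σ ≠ 1 := fun e => by simp [e] at hc
  have h2 : orderOf σ = 2 := orderOf_eq_prime (by rw [pow_two]; exact h) hne
  obtain ⟨k, hk⟩ := Perm.cycleType_prime_order (h2.symm ▸ Nat.prime_two)
  rw [h2] at hk
  have hs := σ.sum_cycleType
  rw [hk, Multiset.sum_replicate, smul_eq_mul, hc] at hs
  rw [hk]; congr 1; omega

theorem invol_eight {u : alternatingGroup (Fin 8)} (hu : orderOf u = 2) :
    IsConj u eS ∨ IsConj u eT :=
  invol_classes (by norm_num) (swap 0 1) (Perm.sign_swap (by decide)) (by decide +kernel)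
    (by decide +kernel) (cycleType_pairs_four (by decide +kernel) (by decide +kernel))
    (cycleType_pairs_two (by decide +kernel) (by decide +kernel)) hu

theorem invol_nine {u : alternatingGroup (Fin 9)} (hu : orderOf u = 2) :
    IsConj u (wprod (fun i => g9 (Fin.ofNat 7 i)) wordS) ∨
      IsConj u (wprod (fun i => g9 (Fin.ofNat 7 i)) wordT) := by
  obtain ⟨-, -, hS, hT⟩ := c3word_facts
  refine invol_classes (by norm_num) (swap 0 1) (Perm.sign_swap (by decide)) ?_ ?_ ?_ ?_ hu <;>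
    simp only [hS, hT]
  · decide +kernel
  · decide +kernel
  · exact cycleType_pairs_four (by decide +kernel) (by decide +kernel)
  · exact cycleType_pairs_two (by decide +kernel) (by decide +kernel)

/-! ### The numbered elements -/

theorem nm_facts : nm 16 = eS ∧ nm 7 = eT ∧ nm 183 = eP ∧ nm 23 = eW ∧ nm 186 = eW' ∧
    nm 30 = eR ∧ nm 9 = eU := by
  refine ⟨?_, ?_, ?_, ?_, ?_, ?_, ?_⟩ <;> decide +kernel

theorem lWords_facts : Tab.all192 (fun i => Nat.beq (tWord (lWords.getD i [])) i &&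
    (lWords.getD i []).all fun x => Nat.blt x 4) = true := by
  decide +kernel

/-- The eighth power of a number. -/
noncomputable def pow8 (i : ℕ) : ℕ :=
  tabA.mul (tabA.mul (tabA.mul i i) (tabA.mul i i)) (tabA.mul (tabA.mul i i) (tabA.mul i i))

/-- The classes not fused with `s`. -/
noncomputable def tType (i : ℕ) : Bool := Nat.beq (tabA.cls i) 4 || Nat.beq (tabA.cls i) 6

/-- The centraliser of `16` and `7`: exponent, classes, centre; the group on `7`, `183`, `23`. -/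
theorem num_facts :
    Tab.all192 (fun i => !tabA.comm i 7 || Nat.beq (pow8 i) 0) = true ∧
    Tab.all192 (fun i => !(tabA.comm i 7 && tType i && tType (tabA.mul i 7)) ||
      [7, 183, 176, 30, 25, 9, 14].any (Nat.beq i)) = true ∧
    Tab.all192 (fun i => !tabA.comm i 7 || [0, 7, 16, 23].any (Nat.beq i) ||
      !Tab.all192 fun j => !tabA.comm j 7 || tabA.comm i j) = true ∧
    Tab.all192 (fun i => !(tabA.comm i 7 && tabA.comm i 183 && tabA.comm i 23) ||
      [0, 7, 183, tabA.mul 7 183].any fun v => [0, 23, 186, tabA.mul 23 186].any fun w =>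
        Nat.beq i (tabA.mul v w)) = true ∧
    tabA.cls 7 = 4 ∧ tabA.cls 23 = 4 ∧ tabA.mul 183 7 = 176 ∧ tabA.mul 30 7 = 25 ∧
      tabA.mul 9 7 = 14 := by
  refine ⟨?_, ?_, ?_, ?_, ?_, ?_, ?_, ?_, ?_⟩ <;> decide +kernel

theorem named_facts :
    eT * eT = 1 ∧ eP * eP = 1 ∧ eW * eW = 1 ∧ eW' * eW' = 1 ∧ eS * eS = 1 ∧ eR * eR = 1 ∧
    eT * eP = eP * eT ∧ eW * eW' = eW' * eW ∧ eT * eW = eW * eT ∧ eT * eW' = eW' * eT ∧
    eP * eW = eW * eP ∧ eP * eW' = eW' * eP ∧ eS * eT = eT * eS ∧ eS * eP = eP * eS ∧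
    eR * eT = eT * eR ∧ eU * eT = eT * eU ∧ eU * eR = eR * eU ∧ eU * (eT * eR) = eS ∧
    eC * eT = eT * eC ∧ eC * eP = eP * eC ∧
    eC * eW * eC⁻¹ ∈ [eW', eW * eW'] ∧ eC * (eC * eW * eC⁻¹) * eC⁻¹ ∈ [eW', eW * eW'] ∧
    eC * eW * eC⁻¹ ≠ eC * (eC * eW * eC⁻¹) * eC⁻¹ ∧
    eR * eP * eR⁻¹ = eP * eT ∧ eR ^ 2 = 1 ∧
    eR * g8 4 * eR⁻¹ = g8 5 ∧ eR * g8 5 * eR⁻¹ = g8 4 ∧
    g8 4 * eT = eT * g8 4 ∧ g8 4 * eP = eP * g8 4 ∧ g8 5 * eT = eT * g8 5 ∧
    g8 5 * eP = eP * g8 5 ∧ g8 4 ≠ 1 := by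
  refine ⟨?_, ?_, ?_, ?_, ?_, ?_, ?_, ?_, ?_, ?_, ?_, ?_, ?_, ?_, ?_, ?_, ?_, ?_, ?_, ?_, ?_, ?_,
    ?_, ?_, ?_, ?_, ?_, ?_, ?_, ?_, ?_, ?_⟩ <;> decide +kernel

theorem eH_facts :
    eH ^ 3 = 1 ∧ eH * eT * eH⁻¹ = eT * eR ∧ eH * eR * eH⁻¹ = eT ∧
    eH * g8 4 * eH⁻¹ = g8 0 ∧ eH * g8 5 * eH⁻¹ = g8 1 ∧ eH * g8 0 * eH⁻¹ = g8 2 ∧
    eH * g8 1 * eH⁻¹ = g8 3 := by
  refine ⟨?_, ?_, ?_, ?_, ?_, ?_, ?_⟩ <;> decide +kernel

/-! ### Facts on `A₅` -/

theorem five_third : ∀ a b : alternatingGroup (Fin 5), a ^ 3 = 1 → b ^ 3 = 1 → a ≠ 1 → b ≠ 1 →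
    a ≠ b → a * b ≠ 1 → a * b * (a * b) = 1 → ∃ c : alternatingGroup (Fin 5), c ^ 3 = 1 ∧
      a * c * (a * c) = 1 ∧ b * c * (b * c) = 1 := by
  decide +kernel

theorem five_unique : ∀ c : alternatingGroup (Fin 5), c ^ 3 = 1 → g5 0 * c * (g5 0 * c) = 1 →
    g5 1 * c * (g5 1 * c) = 1 → c = g5 2 := by
  decide +kernel

theorem five_fixed : ∀ c : alternatingGroup (Fin 5), c ^ 3 = 1 →
    (swap (2 : Fin 5) 3) * (c : Perm (Fin 5)) = (c : Perm (Fin 5)) * swap (2 : Fin 5) 3 →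
      c = 1 ∨ c = g5 2 ∨ c = (g5 2)⁻¹ := by
  decide +kernel

end CfsgLib.Recog.QSThree.Alt
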