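import Cfsg.Agent.Lib.Recog.QSThree.Basic
import Cfsg.Agent.Lib.Invol.BrauerSuzuki
import Cfsg.Agent.Lib.Coprime.Generation
import Cfsg.Agent.Lib.PLocal.SLTwoInvolve
import Mathlib.LinearAlgebra.Matrix.ToLin
import Mathlib.LinearAlgebra.Matrix.ProjectiveSpecialLinearGroup

/-!
# When the conjugates of `s` in its centraliser fill an elementary subgroup of order 8

Then that subgroup is normal and the quotient is `GL₃(2)`.
-/

set_option autoImplicit false

namespace CfsgLib.Recog.QSThree

open Subgroup CfsgLib.Invol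

universe u

/-- Two involutions that are not conjugate commute with a common involution. -/
theorem exists_common {G : Type u} [Group G] [Finite G] {x y : G} (hx : orderOf x = 2)
    (hy : orderOf y = 2) (hne : ¬ IsConj x y) :
    ∃ k : G, orderOf k = 2 ∧ k * x = x * k ∧ k * y = y * k := by
  rcases Nat.even_or_odd (orderOf (x * y)) with ⟨m, hm⟩ | ⟨m, hm⟩
  · have hpos := orderOf_pos (x * y)
    have hzz : (x * y) ^ m * (x * y) ^ m = 1 := by rw [← pow_add, ← hm, pow_orderOf_eq_one]
    have hz1 : (x * y) ^ m ≠ 1 := fun h => by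
      have := orderOf_dvd_of_pow_eq_one h
      have := Nat.le_of_dvd (by omega) this
      omega
    have hz := invol_of_mul_self hzz hz1
    refine ⟨_, hz, ?_, ?_⟩
    · have e := conj_pow_inv (conj_left_mul hx hy) m
      rw [invol_inv hz, mul_inv_eq_iff_eq_mul] at e
      exact e.symm
    · have e := conj_pow_inv (conj_right_mul hx hy) m
      rw [invol_inv hz, mul_inv_eq_iff_eq_mul] at e
      exact e.symm
  · refine absurd (isConj_iff.2 ⟨(x * y) ^ (m : ℤ), ?_⟩) hne
    have e : x * ((x * y) ^ (m : ℤ))⁻¹ = (x * y) ^ (m : ℤ) * x := by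
      rw [← zpow_neg, left_mul_zpow hx hy (-(m : ℤ)), neg_neg]
    rw [mul_assoc, e, ← mul_assoc, ← zpow_add]
    have h2 : (x * y) ^ ((m : ℤ) + m) = (x * y) ^ (-1 : ℤ) := by
      rw [zpow_eq_zpow_iff_modEq, hm, Int.modEq_iff_dvd]
      exact ⟨-1, by push_cast; ring⟩
    rw [h2, right_eq hx hy]

/-- Automorphisms of an elementary abelian group of order 8 as invertible matrices. -/
theorem aut_eight {P : Type u} [Group P] [Finite P] (hab : ∀ a b : P, a * b = b * a)
    (hexp : ∀ a : P, a ^ 2 = 1) (hcard : Nat.card P = 8) :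
    Nonempty (MulAut P ≃* GL (Fin 3) (ZMod 2)) := by
  classical
  haveI : Fact (Nat.Prime 2) := ⟨Nat.prime_two⟩
  letI : CommGroup P := { (inferInstance : Group P) with mul_comm := hab }
  have hexp' : ∀ x : Additive P, 2 • x = 0 := fun x => by
    show Additive.ofMul ((Additive.toMul x) ^ 2) = 0
    rw [hexp, ofMul_one]
  letI : Module (ZMod 2) (Additive P) := AddCommGroup.zmodModule (n := 2) hexp'
  haveI : Finite (Additive P) := inferInstanceAs (Finite P)
  haveI : Module.Finite (ZMod 2) (Additive P) := Module.Finite.of_finite (R := ZMod 2) (M := Additive P)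
  have hfr : Module.finrank (ZMod 2) (Additive P) = 3 := by
    have h := Module.natCard_eq_pow_finrank (K := ZMod 2) (V := Additive P)
    rw [Nat.card_zmod, show Nat.card (Additive P) = 2 ^ 3 from hcard] at h
    exact (Nat.pow_right_injective le_rfl h).symm
  let b : Module.Basis (Fin 3) (ZMod 2) (Additive P) :=
    @Module.finBasisOfFinrankEq (ZMod 2) (Additive P) _ _ _ _ _ _ 3 hfr
  let e₁ : MulAut P ≃* (Module.End (ZMod 2) (Additive P))ˣ :=
    { toFun := fun α => ⟨CfsgLib.PLocal.autRep 2 P α, CfsgLib.PLocal.autRep 2 P α⁻¹,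
        by rw [← map_mul, mul_inv_cancel, map_one], by rw [← map_mul, inv_mul_cancel, map_one]⟩
      invFun := fun L =>
        { toFun := fun x => Additive.toMul ((L : Module.End (ZMod 2) (Additive P)) (Additive.ofMul x))
          invFun := fun x =>
            Additive.toMul ((↑L⁻¹ : Module.End (ZMod 2) (Additive P)) (Additive.ofMul x))
          left_inv := fun x => by
            show Additive.toMul (((↑L⁻¹ : Module.End (ZMod 2) (Additive P)) * ↑L) (Additive.ofMul x)) = x
            rw [Units.inv_mul]; rfl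
          right_inv := fun x => by
            show Additive.toMul (((↑L : Module.End (ZMod 2) (Additive P)) * ↑L⁻¹) (Additive.ofMul x)) = x
            rw [Units.mul_inv]; rfl
          map_mul' := fun x y => by
            rw [ofMul_mul, map_add, toMul_add] }
      left_inv := fun α => MulEquiv.ext fun x => rfl
      right_inv := fun L => Units.ext (LinearMap.ext fun x => rfl)
      map_mul' := fun α β => Units.ext (map_mul (CfsgLib.PLocal.autRep 2 P) α β) }
  exact ⟨e₁.trans (Units.mapEquiv (LinearMap.toMatrixAlgEquiv b).toMulEquiv)⟩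

/-- `GL₃(2) = PSL₃(2)`. -/
theorem gl_psl : Nat.card (GL (Fin 3) (ZMod 2)) = 168 ∧
    Nonempty (GL (Fin 3) (ZMod 2) ≃* Matrix.ProjectiveSpecialLinearGroup (Fin 3) (ZMod 2)) := by
  have hdet : ∀ g : GL (Fin 3) (ZMod 2), (g : Matrix (Fin 3) (Fin 3) (ZMod 2)).det = 1 := fun g => by
    have hne : (g : Matrix (Fin 3) (Fin 3) (ZMod 2)).det ≠ 0 :=
      ((Matrix.isUnit_iff_isUnit_det _).1 g.isUnit).ne_zero
    revert hne
    generalize (g : Matrix (Fin 3) (Fin 3) (ZMod 2)).det = d
    revert d
    decide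
  let c0 : GL (Fin 3) (ZMod 2) →* Matrix.SpecialLinearGroup (Fin 3) (ZMod 2) :=
      { toFun := fun g => ⟨g, hdet g⟩
        map_one' := rfl
        map_mul' := fun _ _ => rfl }
  let c : GL (Fin 3) (ZMod 2) →* Matrix.ProjectiveSpecialLinearGroup (Fin 3) (ZMod 2) :=
    (QuotientGroup.mk' _).comp c0
  have hc : Function.Bijective c := by
    refine ⟨?_, ?_⟩
    · rw [← MonoidHom.ker_eq_bot_iff, Subgroup.eq_bot_iff_forall]
      intro g hg
      have hg' : c0 g ∈ Subgroup.center (Matrix.SpecialLinearGroup (Fin 3) (ZMod 2)) :=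
        (QuotientGroup.eq_one_iff _).1 hg
      obtain ⟨r, hr, hA⟩ := Matrix.SpecialLinearGroup.mem_center_iff.1 hg'
      refine Units.ext ?_
      have hA' : Matrix.scalar (Fin 3) r = (g : Matrix (Fin 3) (Fin 3) (ZMod 2)) := hA
      rw [← hA']
      have : ∀ r : ZMod 2, r ^ 3 = 1 → r = 1 := by decide
      rw [this r (by simpa using hr)]
      simp
    · intro y
      obtain ⟨v, rfl⟩ := QuotientGroup.mk'_surjective _ y
      exact ⟨Matrix.SpecialLinearGroup.toGL v, congrArg (QuotientGroup.mk' _) (Subtype.ext rfl)⟩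
  exact ⟨by rw [Matrix.card_GL_field]; simp [Fin.prod_univ_three], ⟨MulEquiv.ofBijective c hc⟩⟩

/-- An involution of a group of order 8 moved by an involution fixes four elements. -/
theorem four_fixed {G : Type u} [Group G] [Finite G] {W : Subgroup G} (hW : Nat.card W = 8)
    (hab : ∀ a ∈ W, ∀ b ∈ W, a * b = b * a) (hexp : ∀ a ∈ W, a * a = 1) {i : G} (hi : i * i = 1)
    (hn : ∀ w ∈ W, i * w * i ∈ W) (hmove : ∃ w ∈ W, i * w * i ≠ w) :
    Nat.card ↥(W ⊓ centralizer ({i} : Set G)) = 4 ∧
      ∃ v ∈ W, v ≠ 1 ∧ i * v = v * i ∧ ∀ w ∈ W, w * (i * w * i) = 1 ∨ w * (i * w * i) = v := by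
  classical
  let φ : ↥W →* ↥W := MonoidHom.mk' (fun w => ⟨(w : G) * (i * w * i), mul_mem w.2 (hn _ w.2)⟩)
    fun a b => Subtype.ext (by
      show (a : G) * b * (i * ((a : G) * b) * i) = a * (i * a * i) * (b * (i * b * i))
      have e : i * ((a : G) * b) * i = i * a * i * (i * b * i) := by
        calc i * ((a : G) * b) * i = i * a * (i * i) * b * i := by rw [hi]; group
          _ = _ := by group
      rw [e, ← mul_assoc, mul_assoc (a : G) b, hab _ b.2 _ (hn _ a.2)]
      group)
  have hfix : ∀ w : ↥W, φ w = 1 ↔ i * (w : G) = w * i := fun w => by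
    constructor
    · intro h
      have h' : (w : G) * (i * w * i) = 1 := congrArg Subtype.val h
      have e : i * (w : G) * i = w :=
        (eq_inv_of_mul_eq_one_right h').trans (inv_eq_of_mul_eq_one_right (hexp _ w.2))
      calc i * (w : G) = i * w * (i * i) := by rw [hi, mul_one]
        _ = i * w * i * i := by group
        _ = w * i := by rw [e]
    · intro h
      refine Subtype.ext ?_
      show (w : G) * (i * w * i) = 1
      rw [h, mul_assoc (w : G) i i, hi, mul_one]
      exact hexp _ w.2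
  have hle : φ.range ≤ φ.ker := by
    rintro _ ⟨w, rfl⟩
    rw [MonoidHom.mem_ker, hfix]
    show i * ((w : G) * (i * w * i)) = (w : G) * (i * w * i) * i
    rw [hab _ w.2 _ (hn _ w.2)]
    calc i * (i * (w : G) * i * w) = i * i * w * i * w := by group
      _ = (w : G) * i * w * (i * i) := by rw [hi]; group
      _ = (w : G) * (i * w * i) * i := by group
      _ = _ := by rw [hab _ w.2 _ (hn _ w.2)]
  have hprod : Nat.card φ.range * Nat.card φ.ker = 8 := by
    rw [← hW, φ.ker.card_eq_card_quotient_mul_card_subgroup,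
      Nat.card_congr (QuotientGroup.quotientKerEquivRange φ).toEquiv]
  have hd := Subgroup.card_le_of_le (H := φ.range) (K := φ.ker) hle
  have hr1 : Nat.card φ.range ≠ 1 := fun h => by
    obtain ⟨w, hw, hne⟩ := hmove
    have : φ ⟨w, hw⟩ = 1 := by
      have hb := Subgroup.card_eq_one.1 h
      exact (Subgroup.eq_bot_iff_forall _).1 hb _ ⟨_, rfl⟩
    exact hne (by rw [(hfix _).1 this, mul_assoc, hi, mul_one])
  have hr : Nat.card φ.range = 2 := by
    have h2 : Nat.card φ.range ∈ Nat.divisors 8 := Nat.mem_divisors.2 ⟨Dvd.intro _ hprod, by norm_num⟩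
    rw [show Nat.divisors 8 = {1, 2, 4, 8} from by decide] at h2
    simp only [Finset.mem_insert, Finset.mem_singleton] at h2
    have : Nat.card φ.ker ≤ 8 := by rw [← hW]; exact Subgroup.card_le_card_group _
    rcases h2 with h | h | h | h <;> rw [h] at hprod hd hr1 ⊢ <;> omega
  have hk : Nat.card φ.ker = 4 := by rw [hr] at hprod; omega
  obtain ⟨v, hv, hv1⟩ : ∃ v ∈ φ.range, v ≠ 1 := by
    by_contra h
    push Not at h
    rw [(Subgroup.eq_bot_iff_forall _).2 h, Subgroup.card_bot] at hr
    omega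
  refine ⟨?_, v, v.2, fun h => hv1 (Subtype.ext h), (hfix v).1 (hle hv), fun w hw => ?_⟩
  · rw [← hk]
    refine Nat.card_congr
      { toFun := fun g => ⟨⟨g, g.2.1⟩,
          (hfix _).2 (mem_centralizer_singleton_iff.1 g.2.2).symm⟩
        invFun := fun g => ⟨(g : ↥W),
          mem_inf.2 ⟨(g : ↥W).2, mem_centralizer_singleton_iff.2 ((hfix _).1 g.2).symm⟩⟩
        left_inv := fun _ => rfl
        right_inv := fun _ => rfl }
  · have hu : ∀ g ∈ φ.range, g = 1 ∨ g = v := by
      intro g hg
      by_contra hne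
      push Not at hne
      have : ({(⟨1, one_mem _⟩ : φ.range), ⟨v, hv⟩, ⟨g, hg⟩} : Set φ.range).ncard = 3 := by
        rw [Set.ncard_eq_three]
        exact ⟨_, _, _, fun h => hv1 (congrArg Subtype.val h).symm,
          fun h => hne.1 (congrArg Subtype.val h).symm, fun h => hne.2 (congrArg Subtype.val h).symm, rfl⟩
      have h3 := Set.ncard_le_card ({(⟨1, one_mem _⟩ : φ.range), ⟨v, hv⟩, ⟨g, hg⟩} : Set φ.range)
      omega
    rcases hu _ ⟨⟨w, hw⟩, rfl⟩ with h | h
    · exact Or.inl (congrArg Subtype.val h)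
    · exact Or.inr (congrArg Subtype.val h)

/-- **The affine leg.** -/
theorem psl_of_closed {G : Type u} [Group G] [Finite G] {s : G} (hs : orderOf s = 2)
    (h : Closed s) (hc : Nat.card (centralizer ({s} : Set G)) = 192)
    (hinv : ∃ S : Finset G, 7 < S.card ∧ ∀ i ∈ S, orderOf i = 2 ∧ i * s = s * i) :
    ∃ (N : Subgroup G) (hN : N.Normal), IsMulCommutative N ∧ (∀ n ∈ N, n ^ 2 = 1) ∧ Nat.card N = 8 ∧
      Nonempty (G ⧸ N ≃* Matrix.ProjectiveSpecialLinearGroup (Fin 3) (ZMod 2)) := by
  classical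
  obtain ⟨W, hW, hexp, hsW, hLW, hCW, hcl, hfus⟩ := h
  have hexp' : ∀ a ∈ W, a * a = 1 := fun a ha => by rw [← pow_two]; exact hexp a ha
  have hab : ∀ a ∈ W, ∀ b ∈ W, a * b = b * a := fun a ha b hb => by
    have e := inv_eq_of_mul_eq_one_right (hexp' _ (mul_mem ha hb))
    rw [mul_inv_rev, inv_eq_of_mul_eq_one_right (hexp' a ha),
      inv_eq_of_mul_eq_one_right (hexp' b hb)] at e
    exact e.symm
  haveI hWc : IsMulCommutative ↥W := ⟨⟨fun a b => Subtype.ext (hab a a.2 b b.2)⟩⟩
  have hs1 : s ≠ 1 := invol_ne_one hs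
  -- the elements carrying `s` into `W` normalise it
  have hback : ∀ g : G, g * s * g⁻¹ ∈ W → ∀ w ∈ W, g⁻¹ * w * g ∈ W := by
    intro g hg w hw
    rcases eq_or_ne w 1 with rfl | h1
    · simp [one_mem]
    obtain ⟨k, hk⟩ := isConj_iff.1 (hfus w hw h1)
    have e : g⁻¹ * k * s * (g⁻¹ * k)⁻¹ = g⁻¹ * w * g := by rw [← hk]; group
    rw [← e]
    refine hcl _ ?_
    rw [e]
    calc g⁻¹ * w * g * s = g⁻¹ * (w * (g * s * g⁻¹)) * g := by group
      _ = g⁻¹ * (g * s * g⁻¹ * w) * g := by rw [hab _ hw _ hg]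
      _ = _ := by group
  have hfw : ∀ g : G, g * s * g⁻¹ ∈ W → ∀ w ∈ W, g * w * g⁻¹ ∈ W := by
    intro g hg w hw
    let f : ↥W → ↥W := fun v => ⟨g⁻¹ * v * g, hback g hg _ v.2⟩
    have hf : Function.Injective f := fun a b hab' => Subtype.ext
      (mul_left_cancel (mul_right_cancel (congrArg Subtype.val hab')))
    obtain ⟨v, hv⟩ := Finite.injective_iff_surjective.1 hf ⟨w, hw⟩
    rw [← show g⁻¹ * (v : G) * g = w from congrArg Subtype.val hv,
      show g * (g⁻¹ * (v : G) * g) * g⁻¹ = v by group]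
    exact v.2
  set M : Subgroup G := normalizer (W : Set G) with hM
  have memM : ∀ g : G, g ∈ M ↔ g * s * g⁻¹ ∈ W := by
    refine fun g => ⟨fun h => ((mem_normalizer_iff.1 h) s).1 hsW, fun h => ?_⟩
    refine mem_normalizer_iff.2 fun w => ⟨hfw g h w, fun hw => ?_⟩
    have := hback g h _ hw
    rwa [show g⁻¹ * (g * w * g⁻¹) * g = w by group] at this
  have hCs : ∀ g : G, g * s = s * g → g ∈ M := fun g hg => (memM g).2 (hLW g hg s hsW)
  -- centralisers of the nontrivial elements of `W`
  have hCx : ∀ x ∈ W, x ≠ 1 → ∀ g : G, g * x = x * g → g ∈ M := by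
    intro x hx h1 g hg
    obtain ⟨k, hk⟩ := isConj_iff.1 (hfus x hx h1)
    have hkM : k ∈ M := (memM k).2 (hk ▸ hx)
    have h2 : k⁻¹ * g * k ∈ M := hCs _ (by
      rw [← hk] at hg
      calc k⁻¹ * g * k * s = k⁻¹ * (g * (k * s * k⁻¹)) * k := by group
        _ = k⁻¹ * (k * s * k⁻¹ * g) * k := by rw [hg]
        _ = _ := by group)
    have := mul_mem (mul_mem hkM h2) (inv_mem hkM)
    rwa [show k * (k⁻¹ * g * k) * k⁻¹ = g by group] at this
  -- the conjugates of `s` in `M` lie in `W`
  have hsM : ∀ g : G, g * s * g⁻¹ ∈ M → g * s * g⁻¹ ∈ W := by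
    intro g hg
    set u := g * s * g⁻¹ with hu
    have hu2 : orderOf u = 2 := (orderOf_conj_eq g s).trans hs
    by_cases hus : u * s = s * u
    · exact hcl g hus
    have hsu : u * s * u⁻¹ ∈ W := (memM u).1 hg
    rw [invol_inv hu2] at hsu
    set w := s * (u * s * u) with hw
    have hwW : w ∈ W := mul_mem hsW hsu
    have hw1 : w ≠ 1 := by
      intro h
      have e : u * s * u = s := (eq_inv_of_mul_eq_one_right h).trans (invol_inv hs)
      apply hus
      calc u * s = u * s * (u * u) := by rw [invol_mul_self hu2, mul_one]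
        _ = u * s * u * u := by group
        _ = s * u := by rw [e]
    have hwu : u * w = w * u := by
      have e1 : w = u * s * u * s := hab _ hsW _ hsu
      calc u * w = u * (u * s * u * s) := by rw [← e1]
        _ = s * u * s * (u * u) := by
          rw [invol_mul_self hu2, mul_one]
          calc u * (u * s * u * s) = u * u * (s * u * s) := by group
            _ = _ := by rw [invol_mul_self hu2, one_mul]
        _ = s * (u * s * u) * u := by group
    obtain ⟨k, hk⟩ := isConj_iff.1 (hfus w hwW hw1)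
    have hkM : k ∈ M := (memM k).2 (hk ▸ hwW)
    have h2 : k⁻¹ * g * s * (k⁻¹ * g)⁻¹ ∈ W := hcl _ (by
      have e : k⁻¹ * g * s * (k⁻¹ * g)⁻¹ = k⁻¹ * u * k := by rw [hu]; group
      rw [e]
      rw [← hk] at hwu
      calc k⁻¹ * u * k * s = k⁻¹ * (u * (k * s * k⁻¹)) * k := by group
        _ = k⁻¹ * (k * s * k⁻¹ * u) * k := by rw [hwu]
        _ = _ := by group)
    have h3 := (mem_normalizer_iff.1 hkM _).1 h2
    rwa [show k * (k⁻¹ * g * s * (k⁻¹ * g)⁻¹) * k⁻¹ = g * s * g⁻¹ by group] at h3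
  -- the centralisers of the other involutions of `M`
  have hCi : ∀ i ∈ M, orderOf i = 2 → i ∉ W → ∀ g : G, g * i = i * g → g ∈ M := by
    intro i hiM hi2 hiW g hgi
    have hn : ∀ w ∈ W, i * w * i ∈ W := fun w hw => by
      have := (mem_normalizer_iff.1 hiM w).1 hw
      rwa [invol_inv hi2] at this
    have hmove : ∃ w ∈ W, i * w * i ≠ w := by
      by_contra h
      push Not at h
      have hc' : ∀ w ∈ W, i * w = w * i := fun w hw => by
        calc i * w = i * w * (i * i) := by rw [invol_mul_self hi2, mul_one]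
          _ = i * w * i * i := by group
          _ = w * i := by rw [h w hw]
      exact hiW (hCW i (hc' s hsW) hc')
    obtain ⟨hU4, v, hv, hv1, hiv, hdich⟩ := four_fixed hW hab hexp' (invol_mul_self hi2) hn hmove
    -- `v` is fixed by `C_M(i)`
    have hMv : ∀ h ∈ M, h * i = i * h → h * v = v * h := by
      intro h hhM hhi
      obtain ⟨w, hw, hwne⟩ := hmove
      have hval : w * (i * w * i) = v := (hdich w hw).resolve_left fun e =>
        hwne ((eq_inv_of_mul_eq_one_right e).trans (inv_eq_of_mul_eq_one_right (hexp' w hw)))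
      have hw' := (mem_normalizer_iff.1 hhM w).1 hw
      have hhi' : h⁻¹ * i = i * h⁻¹ := (show Commute h i from hhi).inv_left.eq
      have e : h * w * h⁻¹ * (i * (h * w * h⁻¹) * i) = h * (w * (i * w * i)) * h⁻¹ := by
        calc h * w * h⁻¹ * (i * (h * w * h⁻¹) * i) = h * w * (h⁻¹ * i) * h * w * (h⁻¹ * i) := by group
          _ = h * w * (i * h⁻¹) * h * w * (i * h⁻¹) := by rw [hhi']
          _ = _ := by group
      rw [hval] at e
      rcases hdich _ hw' with e' | e' <;> rw [e] at e'
      · exact absurd (conj_eq_one_iff.1 e') hv1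
      · exact mul_inv_eq_iff_eq_mul.1 e'
    -- `v` is isolated in `C(i)`
    set C := centralizer ({i} : Set G) with hC
    set vC : ↥C := ⟨v, mem_centralizer_singleton_iff.2 hiv.symm⟩ with hvC
    obtain ⟨kv, hkv⟩ := isConj_iff.1 (hfus v hv hv1)
    have hkvM : kv ∈ M := (memM kv).2 (hkv ▸ hv)
    have hback' : ∀ h : G, h * v * h⁻¹ ∈ M → h ∈ M := fun h hh => by
      have e : h * v * h⁻¹ = h * kv * s * (h * kv)⁻¹ := by rw [← hkv]; group
      rw [e] at hh
      have := (memM _).2 (hsM _ hh)
      simpa using mul_mem this (inv_mem hkvM)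
    have hiso : Cfsg.IsIsolatedInvolution vC := by
      refine ⟨?_, fun h hh => Subtype.ext ?_⟩
      · rw [← Subgroup.orderOf_coe]
        exact invol_of_mul_self (hexp' v hv) hv1
      have e : v * ((h : G) * v * (h : G)⁻¹) = (h : G) * v * (h : G)⁻¹ * v := congrArg Subtype.val hh.eq
      show (h : G) * v * (h : G)⁻¹ = v
      have hwM : (h : G) * v * (h : G)⁻¹ ∈ M := hCx v hv hv1 _ e.symm
      rw [hMv _ (hback' _ hwM) (mem_centralizer_singleton_iff.1 h.2), mul_inv_cancel_right]
    -- the odd core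
    set O : Subgroup G := (Cfsg.oddCore ↥C).map C.subtype with hO
    have hOM : O ≤ M := by
      set U := W ⊓ C with hU
      haveI : (Cfsg.oddCore ↥C).Normal := CfsgLib.Solvable.pPrimeCore_normal 2 _
      have hUab : IsMulCommutative ↥U := ⟨⟨fun a b => Subtype.ext (hab a a.2.1 b b.2.1)⟩⟩
      have hnc : ¬ IsCyclic ↥U := fun hcyc => by
        obtain ⟨y, hy⟩ := hcyc.exists_ofOrder_eq_natCard (α := ↥U)
        rw [show Nat.card ↥U = 4 from hU4] at hy
        have := orderOf_dvd_of_pow_eq_one (show y ^ 2 = 1 from Subtype.ext (hexp _ y.2.1))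
        rw [hy] at this
        norm_num at this
      have hUN : U ≤ normalizer (O : Set G) := by
        intro a ha
        have key : ∀ b ∈ C, ∀ x ∈ O, b * x * b⁻¹ ∈ O := by
          rintro b hb _ ⟨x, hx, rfl⟩
          exact ⟨⟨b, hb⟩ * x * (⟨b, hb⟩)⁻¹, Normal.conj_mem inferInstance x hx _, rfl⟩
        refine mem_normalizer_iff.2 fun x => ⟨key a (mem_inf.1 ha).2 x, fun hx => ?_⟩
        have := key a⁻¹ (inv_mem (mem_inf.1 ha).2) _ hx
        rwa [show a⁻¹ * (a * x * a⁻¹) * a⁻¹⁻¹ = x by group] at this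
      have hcop : (Nat.card ↥U).Coprime (Nat.card ↥O) := by
        rw [show Nat.card ↥U = 4 from hU4, show (4 : ℕ) = 2 ^ 2 from rfl, hO,
          ← Nat.card_congr ((Cfsg.oddCore ↥C).equivMapOfInjective _ C.subtype_injective).toEquiv]
        exact Nat.Coprime.pow_left _ (Nat.coprime_two_left.2 (odd_card_oddCore _))
      rw [← CfsgLib.Coprime.iSup_centralizer_eq hUab hnc hUN hcop]
      refine iSup_le fun a => fun x hx => ?_
      exact hCx _ (mem_inf.1 a.2.1).1 a.2.2 x (mem_centralizer_singleton_iff.1 (mem_inf.1 hx).2)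
    have hz := zstar (↥C) hiso ⟨g, mem_centralizer_singleton_iff.2 hgi⟩
    have hzO : v * g * v⁻¹ * g⁻¹ ∈ M := hOM ⟨_, hz, rfl⟩
    have hvM : v ∈ M := le_normalizer hv
    refine hback' g ?_
    have e : g * v * g⁻¹ = (v * g * v⁻¹ * g⁻¹)⁻¹ * v := by group
    rw [e]
    exact mul_mem (inv_mem hzO) hvM
  -- `W` is normal
  obtain ⟨S, hS, hS'⟩ := hinv
  obtain ⟨i, hiS, hiW⟩ : ∃ i ∈ S, i ∉ W := by
    by_contra h
    push Not at h
    let f : {x // x ∈ S} → {x : ↥W // x ≠ 1} := fun x =>
      ⟨⟨x.1, h _ x.2⟩, fun e => invol_ne_one (hS' _ x.2).1 (congrArg Subtype.val e)⟩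
    have hf : Function.Injective f := fun a b e =>
      Subtype.ext (congrArg (fun z : {x : ↥W // x ≠ 1} => ((z.1 : ↥W) : G)) e)
    have := Nat.card_le_card_of_injective f hf
    have h7 : Nat.card {x : ↥W // x ≠ 1} = 7 := by
      haveI := Fintype.ofFinite ↥W
      rw [Nat.card_eq_fintype_card, Fintype.card_subtype_compl, Fintype.card_subtype_eq,
        ← Nat.card_eq_fintype_card, hW]
    rw [Nat.card_eq_fintype_card, Fintype.card_coe, h7] at this
    omega
  have hiM : i ∈ M := hCs i (hS' i hiS).2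
  have hall : ∀ g : G, g ∈ M := by
    intro g
    refine (memM g).2 (hsM g ?_)
    have hu2 : orderOf (g * s * g⁻¹) = 2 := (orderOf_conj_eq g s).trans hs
    have hne : ¬ IsConj i (g * s * g⁻¹) := by
      intro hc'
      have h1 : IsConj s (g * s * g⁻¹) := isConj_iff.2 ⟨g, rfl⟩
      obtain ⟨k, hk⟩ := isConj_iff.1 (h1.trans hc'.symm)
      exact hiW (hk ▸ hsM k (hk.symm ▸ hiM))
    obtain ⟨k, hk2, hki, hku⟩ := exists_common (hS' i hiS).1 hu2 hne
    have hkM : k ∈ M := hCi i hiM (hS' i hiS).1 hiW k hki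
    by_cases hkW : k ∈ W
    · exact hCx k hkW (invol_ne_one hk2) _ hku.symm
    · exact hCi k hkM hk2 hkW _ hku.symm
  haveI hWn : W.Normal := ⟨fun w hw g => (mem_normalizer_iff.1 (hall g) w).1 hw⟩
  -- the quotient
  obtain ⟨eA⟩ := aut_eight (P := ↥W) (fun a b => Subtype.ext (hab a a.2 b b.2))
    (fun a => Subtype.ext (hexp a a.2)) hW
  obtain ⟨hGL, ⟨eP⟩⟩ := gl_psl
  let ρ : G →* MulAut ↥W := MulAut.conjNormal
  have hker : ρ.ker = W := by
    ext g
    rw [MonoidHom.mem_ker]
    constructor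
    · intro h
      have hc' : ∀ w ∈ W, g * w = w * g := fun w hw => by
        have := congrArg (fun a : MulAut ↥W => (a ⟨w, hw⟩ : G)) h
        simp only [ρ, MulAut.conjNormal_apply, MulAut.one_apply] at this
        exact mul_inv_eq_iff_eq_mul.1 this
      exact hCW g (hc' s hsW) hc'
    · intro hg
      ext w
      simp only [ρ, MulAut.conjNormal_apply, MulAut.one_apply]
      rw [hab g hg _ w.2, mul_inv_cancel_right]
  -- the conjugates of `s` are the seven elements of `W#`
  have horb : Nat.card G = 7 * 192 := by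
    have horbit : MulAction.orbit (ConjAct G) s = {w | w ∈ W ∧ w ≠ 1} := by
      ext w
      rw [ConjAct.mem_orbit_conjAct]
      constructor
      · intro hw
        obtain ⟨g, hg⟩ := isConj_iff.1 hw.symm
        subst hg
        exact ⟨hWn.conj_mem s hsW g, fun e => hs1 (conj_eq_one_iff.1 e)⟩
      · intro hw
        exact (hfus w hw.1 hw.2).symm
    have hst := MulAction.index_stabilizer (ConjAct G) s
    rw [horbit, ConjAct.stabilizer_eq_centralizer] at hst
    have h7 : Set.ncard {w : G | w ∈ W ∧ w ≠ 1} = 7 := by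
      have : {w : G | w ∈ W ∧ w ≠ 1} = (W : Set G) \ {1} := rfl
      rw [this, Set.ncard_sdiff (by simp [one_mem]), Set.ncard_singleton,
        ← Nat.card_coe_set_eq]
      simp [hW]
    rw [h7] at hst
    have hcm := Subgroup.card_mul_index (centralizer ({ConjAct.toConjAct s} : Set (ConjAct G)))
    rw [hst] at hcm
    have e1 : Nat.card ↥(centralizer ({ConjAct.toConjAct s} : Set (ConjAct G))) = 192 := by
      rw [← hc]; rfl
    rw [e1] at hcm
    rw [show Nat.card G = Nat.card (ConjAct G) from rfl, ← hcm]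
  have hquot : Nat.card (G ⧸ W) = 168 := by
    have := W.card_eq_card_quotient_mul_card_subgroup
    rw [hW, horb] at this
    omega
  have hbij : Function.Bijective (QuotientGroup.lift W ρ hker.ge) := by
    refine Function.Injective.bijective_of_nat_card_le ?_ ?_
    · rw [← MonoidHom.ker_eq_bot_iff, QuotientGroup.ker_lift, hker, QuotientGroup.map_mk'_self]
    · rw [hquot, Nat.card_congr eA.toEquiv, hGL]
  exact ⟨W, hWn, hWc, hexp, hW, ⟨((MulEquiv.ofBijective _ hbij).trans eA).trans eP⟩⟩

end CfsgLib.Recog.QSThree
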