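import Cfsg.Agent.Lib.Recog.QSThree.AltSplit

/-!
# Type A8: normalising the fused classes
-/

set_option autoImplicit false
set_option maxRecDepth 100000

namespace CfsgLib.Recog.QSThree.Alt

open CfsgLib.InvChar.Coset

universe u

variable {G : Type u} [Group G] {s : G} (D : Data tabA s)

/-- The four automorphisms. -/
noncomputable def autT (n : ℕ) : Tr :=
  if n = 0 then sw23T else if n = 1 then sw24T else if n = 2 then sw34T else twistT

/-- An automorphism as a map. -/
noncomputable def aut (n i : ℕ) : ℕ := field (autT n) 128 8 i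

/-- Its inverse as a map. -/
noncomputable def autInv (n i : ℕ) : ℕ :=
  (List.range 192).findIdx fun j => Nat.beq (aut n j) i

theorem aut_facts : ([0, 1, 2, 3].all fun n => Nat.beq (aut n 0) 0 && Nat.beq (aut n 16) 16 &&
    Tab.all192 fun i => Nat.blt (aut n i) 192 && Nat.blt (autInv n i) 192 &&
      Nat.beq (autInv n (aut n i)) i && Nat.beq (aut n (autInv n i)) i) = true := by
  decide +kernel

theorem aut_mul : ([0, 1, 2, 3].all fun n => Tab.all192 fun i => Tab.all192 fun j =>
    Nat.beq (aut n (tabA.mul i j)) (tabA.mul (aut n i) (aut n j))) = true := by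
  decide +kernel

/-- Relabelled data. -/
noncomputable def relab (n : ℕ) (hn : n ∈ [0, 1, 2, 3]) : Data tabA s :=
  D.relabel (aut n) (autInv n)
    (fun i hi => by
      have h := List.all_eq_true.1 aut_facts n hn
      simp only [Bool.and_eq_true] at h
      have := Tab.all192_get h.2 hi
      simp only [Bool.and_eq_true] at this
      exact ⟨by simpa [Nat.blt] using this.1.1.1, by simpa [Nat.blt] using this.1.1.2,
        Nat.eq_of_beq_eq_true this.1.2, Nat.eq_of_beq_eq_true this.2⟩)
    (fun i j hi hj => Nat.eq_of_beq_eq_true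
      (Tab.all192_get (Tab.all192_get (List.all_eq_true.1 aut_mul n hn) hi) hj))
    (by
      have h := List.all_eq_true.1 aut_facts n hn
      simp only [Bool.and_eq_true] at h
      exact Nat.eq_of_beq_eq_true h.1.1)
    (by
      have h := List.all_eq_true.1 aut_facts n hn
      simp only [Bool.and_eq_true] at h
      exact Nat.eq_of_beq_eq_true h.1.2)

theorem fus_relab (n : ℕ) (hn : n ∈ [0, 1, 2, 3]) {c : ℕ} (hr : aut n (tabA.rep c) < 192)
    (h : tabA.cls (aut n (tabA.rep c)) ≠ 0) :
    Fus (relab D n hn) c ↔ Fus D (tabA.cls (aut n (tabA.rep c))) := by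
  rw [fus_iff D hr h]
  rfl

theorem aut_classes :
    ([0, 1, 2, 3].map fun n => [2, 3, 4, 5, 6].map fun c => tabA.cls (aut n (tabA.rep c))) =
      [[3, 2, 4, 5, 6], [4, 3, 2, 5, 6], [2, 4, 3, 5, 6], [2, 3, 4, 6, 5]] := by
  decide +kernel

theorem aut_rep_lt : ([0, 1, 2, 3].all fun n => [2, 3, 4, 5, 6].all fun c =>
    Nat.blt (aut n (tabA.rep c)) 192) = true := by
  decide +kernel

theorem fus_map {n : ℕ} (hn : n ∈ [0, 1, 2, 3]) {c c' : ℕ} (hc : c ∈ [2, 3, 4, 5, 6])
    (e : tabA.cls (aut n (tabA.rep c)) = c') (h0 : c' ≠ 0) :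
    Fus (relab D n hn) c ↔ Fus D c' := by
  have hlt : aut n (tabA.rep c) < 192 := by
    simpa [Nat.blt] using List.all_eq_true.1 (List.all_eq_true.1 aut_rep_lt n hn) c hc
  rw [fus_relab D n hn hlt (e ▸ h0), e]

/-- The normalised pattern of fusion. -/
structure Good : Prop where
  /-- fused -/
  two : Fus D 2
  /-- fused -/
  three : Fus D 3
  /-- not fused -/
  four : ¬ Fus D 4
  /-- fused -/
  five : Fus D 5
  /-- not fused -/
  six : ¬ Fus D 6

theorem good_of_two_three (hs : orderOf s = 2) (h2 : Fus D 2) (h3 : Fus D 3) :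
    ∃ D' : Data tabA s, Good D' := by
  have h4 : ¬ Fus D 4 := fun h => not_all_fused D hs ⟨h2, h3, h⟩
  obtain ⟨c', c'', h', h'', hne', hne'', hne, e5, e6⟩ := outer_step D hs (c := 2) (by simp [Six]) h2
  have hcl := aut_classes
  simp only [List.map_cons, List.map_nil, List.cons.injEq] at hcl
  obtain ⟨-, -, -, ⟨t2, t3, t4, t5, t6, -⟩, -⟩ := hcl
  rcases h' with rfl | rfl | rfl
  · exact absurd rfl hne'
  · have : c'' = 4 := by rcases h'' with rfl | rfl | rfl <;> omega
    exact ⟨D, ⟨h2, h3, h4, e5.2 h3, fun h => h4 (this ▸ e6.1 h)⟩⟩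
  · have : c'' = 3 := by rcases h'' with rfl | rfl | rfl <;> omega
    subst this
    have hn : (3 : ℕ) ∈ [0, 1, 2, 3] := by simp
    refine ⟨relab D 3 hn, ?_, ?_, ?_, ?_, ?_⟩
    · exact (fus_map D hn (by simp) t2 (by norm_num)).2 h2
    · exact (fus_map D hn (by simp) t3 (by norm_num)).2 h3
    · exact fun h => h4 ((fus_map D hn (by simp) t4 (by norm_num)).1 h)
    · exact (fus_map D hn (by simp) t5 (by norm_num)).2 (e6.2 h3)
    · exact fun h => h4 (e5.1 ((fus_map D hn (by simp) t6 (by norm_num)).1 h))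

/-- Either one class of size six is fused and `Closed` holds, or the pattern can be normalised. -/
theorem closed_or_good (hs : orderOf s = 2)
    (h : ∃ (g : G) (i : ℕ), i < 32 ∧ D.el i = g * s * g⁻¹ ∧ g * s * g⁻¹ ≠ s) :
    Closed s ∨ ∃ D' : Data tabA s, Good D' := by
  obtain ⟨c, hc, hF⟩ := exists_fus D hs h
  by_cases hone : ∀ c', Six c' → Fus D c' → c' = c
  · exact Or.inl (closed_of_one D hs hc hF hone)
  refine Or.inr ?_
  push Not at hone
  obtain ⟨c', hc', hF', hne⟩ := hone
  have hcl := aut_classes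
  simp only [List.map_cons, List.map_nil, List.cons.injEq] at hcl
  obtain ⟨⟨-, -, -, -, -, -⟩, ⟨u2, u3, u4, -, -, -⟩, ⟨v2, v3, v4, -, -, -⟩, -⟩ := hcl
  have h1 : (1 : ℕ) ∈ [0, 1, 2, 3] := by simp
  have h2 : (2 : ℕ) ∈ [0, 1, 2, 3] := by simp
  rcases hc with rfl | rfl | rfl <;> rcases hc' with rfl | rfl | rfl
  · exact absurd rfl hne
  · exact good_of_two_three D hs hF hF'
  · exact good_of_two_three (relab D 2 h2) hs ((fus_map D h2 (by simp) v2 (by norm_num)).2 hF)
      ((fus_map D h2 (by simp) v3 (by norm_num)).2 hF')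
  · exact good_of_two_three D hs hF' hF
  · exact absurd rfl hne
  · exact good_of_two_three (relab D 1 h1) hs ((fus_map D h1 (by simp) u2 (by norm_num)).2 hF')
      ((fus_map D h1 (by simp) u3 (by norm_num)).2 hF)
  · exact good_of_two_three (relab D 2 h2) hs ((fus_map D h2 (by simp) v2 (by norm_num)).2 hF')
      ((fus_map D h2 (by simp) v3 (by norm_num)).2 hF)
  · exact good_of_two_three (relab D 1 h1) hs ((fus_map D h1 (by simp) u2 (by norm_num)).2 hF)
      ((fus_map D h1 (by simp) u3 (by norm_num)).2 hF')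
  · exact absurd rfl hne

end CfsgLib.Recog.QSThree.Alt
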