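import Cfsg.Agent.Lib.Recog.QSThree.AltNinth

/-!
# Type A8: the conclusion
-/

set_option autoImplicit false

namespace CfsgLib.Recog.QSThree

universe u

variable {G : Type u} [Group G] {s : G}

/-- A group with centraliser of type A8 and `s` not weakly closed in the normal subgroup of index 6
either satisfies `Closed` or is `A8` or `A9`. -/
theorem alt_or_closed [Finite G] (D : Data tabA s) (hs : orderOf s = 2)
    (hnwc : ∃ g : G, (∃ i < 32, D.el i = g * s * g⁻¹) ∧ g * s * g⁻¹ ≠ s) :
    Closed s ∨ Nonempty (G ≃* alternatingGroup (Fin 8)) ∨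
      Nonempty (G ≃* alternatingGroup (Fin 9)) := by
  obtain ⟨g, ⟨i, hi, he⟩, hne⟩ := hnwc
  rcases Alt.closed_or_good D hs ⟨g, i, hi, he, hne⟩ with h | ⟨D', hg⟩
  · exact Or.inl h
  · obtain ⟨E⟩ := Alt.exists_emb D' hs hg
    exact Or.inr E.alt_of_emb

end CfsgLib.Recog.QSThree
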