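import Cfsg.Agent.Lib.Recog.QSThree.QGroup
import Cfsg.Agent.Lib.Recog.QSThree.Tables

/-!
# The products of the four tables, from the relations
-/

set_option autoImplicit false
set_option maxRecDepth 100000
set_option Elab.async false

namespace CfsgLib.Recog.QSThree

/-- `c` on numbers. -/
def cimg : ℕ → ℕ := qimg 2 3 8 12

/-- `t` on numbers, first case. -/
def timgP : ℕ → ℕ := qimg 17 19 20 28

/-- `t` on numbers, second case. -/
def timgS : ℕ → ℕ := qimg 20 28 17 19

/-- Product of two numbers below 192. -/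
def mulG (timg : ℕ → ℕ) (e : Bool) (i j : ℕ) : ℕ :=
  let a := (i / 32) % 3
  let b := Nat.beq (i / 96) 1
  let a' := (j / 32) % 3
  let d := Nat.beq (j / 96) 1
  let q₀ := cond b (timg (j % 32)) (j % 32)
  let q₁ := cond (Nat.beq a 1) (cimg q₀) (cond (Nat.beq a 2) (cimg (cimg q₀)) q₀)
  qmul (qmul (i % 32) q₁) (cond (b && d && e) 16 0) +
    32 * ((a + cond b (2 * a') a') % 3 + 3 * cond (b != d) 1 0)

/-- A list of 32 bytes packed into a number. -/
def byteAt (X q : ℕ) : ℕ := (X >>> (8 * q)) % 256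

/-- The images under `c`, packed. -/
def cPack : ℕ := 0x151716141d1f1e1c191b1a1811131210050706040d0f0e0c090b0a0801030200

/-- The images under `t` in the first case, packed. -/
def tPackP : ℕ := 0x1a1b19081e1f1d0c16171504020301100a0b09180e0f0d1c0607051412131100

/-- The images under `t` in the second case, packed. -/
def tPackS : ℕ := 0x1a1e16021b1f1703191d1501080c04100a0e06120b0f0713090d0511181c1400

/-- The same product through the products of the table `tabM` on the first 32 numbers. -/
noncomputable def mulF (X : ℕ) (e : Bool) (i j : ℕ) : ℕ :=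
  let a := (i / 32) % 3
  let b := Nat.beq (i / 96) 1
  let a' := (j / 32) % 3
  let d := Nat.beq (j / 96) 1
  let q₀ := cond b (byteAt X (j % 32)) (j % 32)
  let q₁ := cond (Nat.beq a 1) (byteAt cPack q₀)
    (cond (Nat.beq a 2) (byteAt cPack (byteAt cPack q₀)) q₀)
  tabM.mul (tabM.mul (i % 32) q₁) (cond (b && d && e) 16 0) +
    32 * ((a + cond b (2 * a') a') % 3 + 3 * cond (b != d) 1 0)

theorem qmul_tab : ((List.range 32).all fun i => (List.range 32).all fun j =>
    Nat.beq (qmul i j) (tabM.mul i j) && Nat.blt (tabM.mul i j) 32) = true := by decide +kernel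

theorem pack_chk : ((List.range 32).all fun q =>
    Nat.beq (cimg q) (byteAt cPack q) && Nat.blt (byteAt cPack q) 32 &&
    (Nat.beq (timgP q) (byteAt tPackP q) && Nat.blt (byteAt tPackP q) 32) &&
    (Nat.beq (timgS q) (byteAt tPackS q) && Nat.blt (byteAt tPackS q) 32)) = true := by
  decide +kernel

theorem mulG_eq_mulF {timg : ℕ → ℕ} {X : ℕ} (hX : ∀ q < 32, timg q = byteAt X q ∧ byteAt X q < 32)
    (e : Bool) (i j : ℕ) : mulG timg e i j = mulF X e i j := by
  have hq : ∀ a b, a < 32 → b < 32 → qmul a b = tabM.mul a b ∧ tabM.mul a b < 32 := fun a b ha hb => by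
    have h := List.all_eq_true.1 (List.all_eq_true.1 qmul_tab a (List.mem_range.2 ha)) b
      (List.mem_range.2 hb)
    rw [Bool.and_eq_true] at h
    exact ⟨Nat.eq_of_beq_eq_true h.1, by simpa [Nat.blt] using h.2⟩
  have hc : ∀ q < 32, cimg q = byteAt cPack q ∧ byteAt cPack q < 32 := fun q hq => by
    have h := List.all_eq_true.1 pack_chk q (List.mem_range.2 hq)
    simp only [Bool.and_eq_true] at h
    exact ⟨Nat.eq_of_beq_eq_true h.1.1.1, by simpa [Nat.blt] using h.1.1.2⟩
  have hj : j % 32 < 32 := Nat.mod_lt _ (by norm_num)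
  have hi : i % 32 < 32 := Nat.mod_lt _ (by norm_num)
  simp only [mulG, mulF]
  set b := Nat.beq (i / 96) 1
  have h0 : cond b (timg (j % 32)) (j % 32) = cond b (byteAt X (j % 32)) (j % 32) ∧
      cond b (byteAt X (j % 32)) (j % 32) < 32 := by
    cases b
    · exact ⟨rfl, hj⟩
    · exact hX _ hj
  rw [h0.1]
  set q₀ := cond b (byteAt X (j % 32)) (j % 32)
  have h1 : cond (Nat.beq (i / 32 % 3) 1) (cimg q₀)
        (cond (Nat.beq (i / 32 % 3) 2) (cimg (cimg q₀)) q₀) =
      cond (Nat.beq (i / 32 % 3) 1) (byteAt cPack q₀)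
        (cond (Nat.beq (i / 32 % 3) 2) (byteAt cPack (byteAt cPack q₀)) q₀) ∧
      cond (Nat.beq (i / 32 % 3) 1) (byteAt cPack q₀)
        (cond (Nat.beq (i / 32 % 3) 2) (byteAt cPack (byteAt cPack q₀)) q₀) < 32 := by
    obtain ⟨e1, l1⟩ := hc q₀ h0.2
    obtain ⟨e2, l2⟩ := hc _ l1
    rw [e1, e2]
    refine ⟨rfl, ?_⟩
    cases Nat.beq (i / 32 % 3) 1 <;> cases Nat.beq (i / 32 % 3) 2 <;>
      first | exact l1 | exact l2 | exact h0.2
  rw [h1.1]
  obtain ⟨e3, l3⟩ := hq _ _ hi h1.2
  rw [e3, (hq _ _ l3 (by cases (b && Nat.beq (j / 96) 1 && e) <;> norm_num)).1]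

theorem chk_transfer {timg : ℕ → ℕ} {X : ℕ} {T : Tab} {e : Bool}
    (hX : ∀ q < 32, timg q = byteAt X q ∧ byteAt X q < 32)
    (h : Tab.all192 (fun i => Tab.all192 fun j => Nat.beq (mulF X e i j) (T.mul i j)) = true) :
    Tab.all192 (fun i => Tab.all192 fun j => Nat.beq (mulG timg e i j) (T.mul i j)) = true := by
  simp only [mulG_eq_mulF hX]
  exact h

theorem packP_get : ∀ q < 32, timgP q = byteAt tPackP q ∧ byteAt tPackP q < 32 := fun q hq => by
  have h := List.all_eq_true.1 pack_chk q (List.mem_range.2 hq)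
  simp only [Bool.and_eq_true] at h
  exact ⟨Nat.eq_of_beq_eq_true h.1.2.1, by simpa [Nat.blt] using h.1.2.2⟩

theorem packS_get : ∀ q < 32, timgS q = byteAt tPackS q ∧ byteAt tPackS q < 32 := fun q hq => by
  have h := List.all_eq_true.1 pack_chk q (List.mem_range.2 hq)
  simp only [Bool.and_eq_true] at h
  exact ⟨Nat.eq_of_beq_eq_true h.2.1, by simpa [Nat.blt] using h.2.2⟩

theorem mulG_tabM : Tab.all192 (fun i => Tab.all192 fun j =>
    Nat.beq (mulG timgP false i j) (tabM.mul i j)) = true :=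
  chk_transfer packP_get (by decide +kernel)

theorem mulG_tabP : Tab.all192 (fun i => Tab.all192 fun j =>
    Nat.beq (mulG timgP true i j) (tabP.mul i j)) = true :=
  chk_transfer packP_get (by decide +kernel)

theorem mulG_tabA : Tab.all192 (fun i => Tab.all192 fun j =>
    Nat.beq (mulG timgS false i j) (tabA.mul i j)) = true :=
  chk_transfer packS_get (by decide +kernel)

theorem mulG_tabS : Tab.all192 (fun i => Tab.all192 fun j =>
    Nat.beq (mulG timgS true i j) (tabS.mul i j)) = true :=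
  chk_transfer packS_get (by decide +kernel)

end CfsgLib.Recog.QSThree
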