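import Cfsg.Agent.Lib.Recog.QSThree.Pairs
import Cfsg.Agent.Lib.Recog.QSThree.MulCheck

/-!
# An involution centraliser `2^(1+4).S₃` is numbered by one of the four tables
-/

set_option autoImplicit false
set_option maxRecDepth 100000
set_option Elab.async false

namespace CfsgLib.Recog.QSThree

open Subgroup

universe u

variable {G : Type u} [Group G] {s c t : G} {Q : Subgroup G}

/-- Element with a number below 192. -/
def gel (s x x' y y' c t : G) (i : ℕ) : G :=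
  qel s x x' y y' (i % 32) * c ^ ((i / 32) % 3) * t ^ (i / 96)

theorem gel_mk {x x' y y' : G} {q a : ℕ} {b : Bool} (hq : q < 32) (ha : a < 3) :
    gel s x x' y y' c t (q + 32 * (a + 3 * cond b 1 0)) =
      qel s x x' y y' q * c ^ a * pw t b := by
  have h1 : (q + 32 * (a + 3 * cond b 1 0)) % 32 = q := by omega
  have h2 : (q + 32 * (a + 3 * cond b 1 0)) / 32 % 3 = a := by omega
  have h3 : (q + 32 * (a + 3 * cond b 1 0)) / 96 = cond b 1 0 := by omega
  rw [gel, h1, h2, h3]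
  cases b <;> simp [pw]

namespace Setup

variable (S : Setup s Q c t)
include S

theorem qel_mem {x x' y y' : G} (hx : x ∈ Q) (hx' : x' ∈ Q) (hy : y ∈ Q) (hy' : y' ∈ Q)
    (q : ℕ) : qel s x x' y y' q ∈ Q := by
  have h : ∀ g ∈ Q, ∀ b, pw g b ∈ Q := fun g hg b => by cases b <;> simp [pw, hg, one_mem]
  exact mul_mem (mul_mem (mul_mem (mul_mem (h s S.sQ _) (h x hx _)) (h x' hx' _)) (h y hy _))
    (h y' hy' _)

theorem qel_inj {x x' y y' : G} (R : QRel s x x' y y') {i j : ℕ} (hi : i < 32) (hj : j < 32)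
    (h : qel s x x' y y' i = qel s x x' y y' j) : i = j := by
  obtain ⟨c1, c2, c3, -⟩ := q_chk
  have ker : ∀ n < 32, qel s x x' y y' n = 1 → n = 0 := by
    intro n hn h1
    have := List.all_eq_true.1 c1 n (List.mem_range.2 hn)
    simp only [Bool.or_eq_true, beq_iff_eq, List.any_eq_true] at this
    rcases this with (h0 | h16) | ⟨g, -, hg⟩
    · exact h0
    · rw [h16, qel_consts.2.2.2.2.2.2.1] at h1
      exact absurd h1 S.s1
    · exfalso
      have := congrArg (qel s x x' y y') hg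
      rw [R.step_s, ← R.qel_mul, ← R.qel_mul, h1, one_mul, mul_one] at this
      exact S.s1 (left_eq_mul.1 this)
  obtain ⟨k, hk, hki⟩ := List.any_eq_true.1 (List.all_eq_true.1 c2 i (List.mem_range.2 hi))
  rw [beq_iff_eq] at hki
  have hkj : qmul k j = 0 := ker _ (qmul_lt k j (List.mem_range.1 hk)) (by
    rw [← R.qel_mul, ← h, R.qel_mul, hki, qel_zero])
  have hf := List.all_eq_true.1 c3 k hk
  simp only [decide_eq_true_eq] at hf
  by_contra hne
  have : ({i, j} : Finset ℕ).card ≤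
      ((List.range 32).filter fun i => qmul k i == 0).toFinset.card :=
    Finset.card_le_card fun n hn => by
      rcases Finset.mem_insert.1 hn with rfl | hn
      · simp [hi, hki]
      · rw [Finset.mem_singleton.1 hn]; simp [hj, hkj]
  rw [Finset.card_pair hne] at this
  have := this.trans (List.toFinset_card_le _)
  omega

theorem qel_surj {x x' y y' : G} (R : QRel s x x' y y') (hx : x ∈ Q) (hx' : x' ∈ Q) (hy : y ∈ Q)
    (hy' : y' ∈ Q) {g : G} (hg : g ∈ Q) : ∃ i < 32, qel s x x' y y' i = g := by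
  haveI : Finite ↥Q := Nat.finite_of_card_ne_zero (by rw [S.card]; norm_num)
  let f : Fin 32 → ↥Q := fun i => ⟨_, S.qel_mem hx hx' hy hy' i⟩
  have hf : Function.Injective f := fun i j h =>
    Fin.ext (S.qel_inj R i.2 j.2 (congrArg Subtype.val h))
  obtain ⟨i, hi⟩ := (hf.bijective_of_nat_card_le (by rw [S.card, Nat.card_fin])).2 ⟨g, hg⟩
  exact ⟨i, i.2, congrArg Subtype.val hi⟩

/-- The numbering satisfies the product rule. -/
theorem gel_mul {x x' y y' : G} (R : QRel s x x' y y')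
    (hc : c * x * c⁻¹ = qel s x x' y y' 2 ∧ c * x' * c⁻¹ = qel s x x' y y' 3 ∧
      c * y * c⁻¹ = qel s x x' y y' 8 ∧ c * y' * c⁻¹ = qel s x x' y y' 12)
    {ix ix' iy iy' : ℕ}
    (ht : t * x * t⁻¹ = qel s x x' y y' ix ∧ t * x' * t⁻¹ = qel s x x' y y' ix' ∧
      t * y * t⁻¹ = qel s x x' y y' iy ∧ t * y' * t⁻¹ = qel s x x' y y' iy')
    {e : Bool} (he : t * t = pw s e) (i j : ℕ) (hi : i < 192) (hj : j < 192) :
    gel s x x' y y' c t i * gel s x x' y y' c t j =
      gel s x x' y y' c t (mulG (qimg ix ix' iy iy') e i j) := by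
  set a := i / 32 % 3 with ha
  set b := Nat.beq (i / 96) 1 with hb
  set a' := j / 32 % 3 with ha'
  set d := Nat.beq (j / 96) 1 with hd
  set q₀ := cond b (qimg ix ix' iy iy' (j % 32)) (j % 32) with hq₀
  set q₁ := cond (Nat.beq a 1) (cimg q₀) (cond (Nat.beq a 2) (cimg (cimg q₀)) q₀) with hq₁
  have e1 : pw t b * qel s x x' y y' (j % 32) = qel s x x' y y' q₀ * pw t b := by
    rw [hq₀]
    cases b
    · simp [pw]
    · rw [cond_true, ← R.qel_conj S.ts ht.1 ht.2.1 ht.2.2.1 ht.2.2.2]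
      show t * _ = _ * t
      group
  have ec : ∀ q, c * qel s x x' y y' q * c⁻¹ = qel s x x' y y' (cimg q) := fun q =>
    R.qel_conj S.cs hc.1 hc.2.1 hc.2.2.1 hc.2.2.2 q
  have e2 : c ^ a * qel s x x' y y' q₀ = qel s x x' y y' q₁ * c ^ a := by
    rw [hq₁]
    rcases (show a = 0 ∨ a = 1 ∨ a = 2 by omega) with h | h | h <;> rw [h]
    · rw [show Nat.beq 0 1 = false from rfl, show Nat.beq 0 2 = false from rfl]
      simp
    · rw [show Nat.beq 1 1 = true from rfl, cond_true, ← ec, pow_one]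
      group
    · rw [show Nat.beq 2 1 = false from rfl, show Nat.beq 2 2 = true from rfl, cond_false,
        cond_true, ← ec, ← ec, pow_two]
      group
  have htc : t * c = c * c * t := mul_inv_eq_iff_eq_mul.1 S.tc
  have e3 : pw t b * c ^ a' = c ^ cond b (2 * a') a' * pw t b := by
    cases b
    · simp [pw]
    · rw [cond_true, pow_mul, pow_two]
      show t * c ^ a' = (c * c) ^ a' * t
      exact (SemiconjBy.pow_right (show SemiconjBy t c (c * c) from htc) a').eq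
  have e4 : pw t b * pw t d = pw s (b && d && e) * pw t (b != d) := by
    cases b <;> cases d <;> cases e <;> simp_all [pw]
  have e5 : ∀ n, c ^ n = c ^ (n % 3) := fun n => by
    conv_lhs => rw [← Nat.div_add_mod n 3, pow_add, pow_mul, pow_succ, pow_two, S.c3, one_pow,
      one_mul]
  have e6 : ∀ n v, c ^ n * pw s v = pw s v * c ^ n := fun n v => by
    cases v
    · simp [pw]
    · exact (Commute.pow_left S.cs n).eq
  have l : ∀ k, k / 96 < 2 → t ^ (k / 96) = pw t (Nat.beq (k / 96) 1) := fun k hk => by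
    rcases (show k / 96 = 0 ∨ k / 96 = 1 by omega) with h | h <;> rw [h]
    · rw [show Nat.beq 0 1 = false from rfl]; simp [pw]
    · rw [show Nat.beq 1 1 = true from rfl]; simp [pw]
  have hs16 : ∀ v, qel s x x' y y' (cond v 16 0) = pw s v := fun v => by
    cases v
    · exact qel_zero
    · exact qel_consts.2.2.2.2.2.2.1
  have hlt : qmul (qmul (i % 32) q₁) (cond (b && d && e) 16 0) < 32 :=
    qmul_lt _ _ (qmul_lt _ _ (by omega))
  show _ = gel s x x' y y' c t (qmul (qmul (i % 32) q₁) (cond (b && d && e) 16 0) +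
    32 * ((a + cond b (2 * a') a') % 3 + 3 * cond (b != d) 1 0))
  rw [gel_mk hlt (Nat.mod_lt _ (by norm_num)), gel, gel, l i (by omega), l j (by omega), ← hb, ← hd,
    ← R.qel_mul, ← R.qel_mul, hs16]
  calc qel s x x' y y' (i % 32) * c ^ a * pw t b * (qel s x x' y y' (j % 32) * c ^ a' * pw t d)
      = qel s x x' y y' (i % 32) * (c ^ a * (pw t b * qel s x x' y y' (j % 32))) * c ^ a' * pw t d := by group
    _ = qel s x x' y y' (i % 32) * ((c ^ a * qel s x x' y y' q₀) * pw t b) * c ^ a' * pw t d := by rw [e1]; group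
    _ = qel s x x' y y' (i % 32) * qel s x x' y y' q₁ * c ^ a * (pw t b * c ^ a') * pw t d := by rw [e2]; group
    _ = qel s x x' y y' (i % 32) * qel s x x' y y' q₁ * (c ^ a * c ^ cond b (2 * a') a') * (pw t b * pw t d) := by
      rw [e3]; group
    _ = _ := by
      rw [e4, ← pow_add, e5 (a + _), ← mul_assoc, mul_assoc _ (c ^ _) (pw s _), e6, ← mul_assoc]

/-- The numbering is a `Data`. -/
theorem data_of {x x' y y' : G} (R : QRel s x x' y y') (hx : x ∈ Q) (hx' : x' ∈ Q) (hy : y ∈ Q)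
    (hy' : y' ∈ Q) (T : Tab)
    (hmul : ∀ i j, i < 192 → j < 192 →
      gel s x x' y y' c t i * gel s x x' y y' c t j = gel s x x' y y' c t (T.mul i j)) :
    ∃ D : Data T s, ∀ q ∈ Q, ∃ i < 32, D.el i = q := by
  haveI : Finite (centralizer ({s} : Set G)) :=
    Nat.finite_of_card_ne_zero (by rw [S.card192]; norm_num)
  set el := gel s x x' y y' c t with hel
  have hcs : ∀ i, el i * s = s * el i := fun i => by
    have h1 : Commute (qel s x x' y y' (i % 32)) s := S.cen _ (S.qel_mem hx hx' hy hy' _)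
    exact ((h1.mul_left (Commute.pow_left S.cs _)).mul_left (Commute.pow_left S.ts _)).eq
  have hq : ∀ q < 32, el q = qel s x x' y y' q := fun q h => by
    rw [hel, gel, Nat.mod_eq_of_lt h, Nat.div_eq_of_lt h, Nat.div_eq_of_lt (by omega)]
    simp
  have hmem : ∀ g : G, g * s = s * g → ∃ i < 192, el i = g := fun g hg => by
    obtain ⟨q, hqQ, a, ha, b, hb, rfl⟩ := S.cover g hg
    obtain ⟨n, hn, rfl⟩ := S.qel_surj R hx hx' hy hy' hqQ
    refine ⟨n + 32 * (a + 3 * b), by omega, ?_⟩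
    rw [hel, gel, show (n + 32 * (a + 3 * b)) % 32 = n by omega,
      show (n + 32 * (a + 3 * b)) / 32 % 3 = a by omega,
      show (n + 32 * (a + 3 * b)) / 96 = b by omega]
  let f : Fin 192 → centralizer ({s} : Set G) :=
    fun i => ⟨el i, mem_centralizer_singleton_iff.2 (hcs i)⟩
  have hf : Function.Surjective f := fun g => by
    obtain ⟨i, hi, he⟩ := hmem g.1 (mem_centralizer_singleton_iff.1 g.2)
    exact ⟨⟨i, hi⟩, Subtype.ext he⟩
  have hinj := (hf.bijective_of_nat_card_le (by rw [S.card192, Nat.card_fin])).1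
  refine ⟨{ el := el
            el_mul := fun hi hj => hmul _ _ hi hj
            el_inj := fun hi hj h =>
              congrArg Fin.val (hinj (a₁ := ⟨_, hi⟩) (a₂ := ⟨_, hj⟩) (Subtype.ext h))
            mem := fun {g} => ⟨hmem g, fun ⟨i, _, h⟩ => h ▸ hcs i⟩
            el_zero := by rw [hq 0 (by norm_num), qel_zero]
            el_zi := by rw [hq 16 (by norm_num), qel_consts.2.2.2.2.2.2.1] }, fun q hqQ => ?_⟩
  obtain ⟨n, hn, rfl⟩ := S.qel_surj R hx hx' hy hy' hqQ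
  exact ⟨n, hn, hq n hn⟩

theorem t_c (g : G) : t * (c * g * c⁻¹) * t⁻¹ = c * (c * (t * g * t⁻¹) * c⁻¹) * c⁻¹ := by
  have htc : t * c = c * c * t := mul_inv_eq_iff_eq_mul.1 S.tc
  calc t * (c * g * c⁻¹) * t⁻¹ = t * c * g * (t * c)⁻¹ := by group
    _ = _ := by rw [htc]; group

theorem t_cc (g : G) : t * (c * (c * g * c⁻¹) * c⁻¹) * t⁻¹ = c * (t * g * t⁻¹) * c⁻¹ := by
  rw [S.t_c, S.t_c]
  exact congrArg (fun z => c * z * c⁻¹) (S.conj_c_pow _)

theorem conj_ts {g : G} : t * (g * s) * t⁻¹ = t * g * t⁻¹ * s := by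
  rw [show t * (g * s) * t⁻¹ = t * g * (s * t⁻¹) by group, ← (Commute.inv_left S.ts).eq]
  group

theorem conj_cs {g : G} : c * (g * s) * c⁻¹ = c * g * c⁻¹ * s := by
  rw [show c * (g * s) * c⁻¹ = c * g * (s * c⁻¹) by group, ← (Commute.inv_left S.cs).eq]
  group

/-- In a fixed pair, `t` inverts a generator. -/
theorem inverted {x : G} (hx : x ∈ Q) (hp : CPair s c x) (h : t * x * t⁻¹ = x ∨ t * x * t⁻¹ = x * s) :
    t * x * t⁻¹ = x * s ∧ t * (c * x * c⁻¹) * t⁻¹ = x * (c * x * c⁻¹) * s := by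
  set x' := c * x * c⁻¹ with hx'
  have hx'Q : x' ∈ Q := S.conj_c hx
  rcases h with h | h
  · exfalso
    have h1 : t * x' * t⁻¹ = x * x' := by rw [hx', S.t_c, h, ← hx', hp.rot]
    have h2 : t * (x * x') * t⁻¹ = x' * (x * x') * 1 → False := fun _ => S.s1 (by
      have e1 : t * (x * x') * t⁻¹ = x * (x * x') := by
        rw [show t * (x * x') * t⁻¹ = t * x * t⁻¹ * (t * x' * t⁻¹) by group, h, h1]
      have e2 : t * (x * x') * t⁻¹ = x' := by
        rw [← hp.rot, hx', S.t_cc, h]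
      rw [e2, ← mul_assoc, hp.pair.sq] at e1
      exact mul_eq_right.1 e1.symm)
    refine h2 ?_
    rw [mul_one]
    have e1 : t * (x * x') * t⁻¹ = x * (x * x') := by
      rw [show t * (x * x') * t⁻¹ = t * x * t⁻¹ * (t * x' * t⁻¹) by group, h, h1]
    have e2 : t * (x * x') * t⁻¹ = x' := by rw [← hp.rot, hx', S.t_cc, h]
    rw [e2, ← mul_assoc, hp.pair.sq] at e1
    exact absurd (mul_eq_right.1 e1.symm) S.s1
  · refine ⟨h, ?_⟩
    rw [hx', S.t_c, h, S.conj_cs, ← hx', S.conj_cs, hp.rot]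

/-- A pair fixed by `t`, normalised. -/
theorem fix_pair {x : G} (hx : x ∈ Q) (hp : CPair s c x)
    (h : t * x * t⁻¹ ∈ [x, x * s, c * x * c⁻¹, c * x * c⁻¹ * s, x * (c * x * c⁻¹),
      x * (c * x * c⁻¹) * s]) :
    ∃ x₀, x₀ ∈ [x, c * x * c⁻¹, x * (c * x * c⁻¹)] ∧ x₀ ∈ Q ∧ CPair s c x₀ ∧
      t * x₀ * t⁻¹ = x₀ * s ∧ t * (c * x₀ * c⁻¹) * t⁻¹ = x₀ * (c * x₀ * c⁻¹) * s := by
  set x' := c * x * c⁻¹ with hx'
  have hx'Q : x' ∈ Q := S.conj_c hx
  have hxxQ : x * x' ∈ Q := mul_mem hx hx'Q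
  have cp : CPair s c x' := by
    have r' : c * x' * c⁻¹ = x * x' := hp.rot
    refine S.cpair_of hx'Q hp.pair.sq' ?_ ?_
    · rw [r', hp.rot']
      calc x = x * s * s := by rw [mul_assoc, S.ss, mul_one]
        _ = x' * x * x' := by rw [hp.pair.comm, mul_assoc (x * x') s x', ← S.cen x' hx'Q,
            ← mul_assoc, mul_assoc x x' x', hp.pair.sq']
        _ = x' * (x * x') := mul_assoc _ _ _
    · rw [r', show c * (x' * (x * x')) * c⁻¹ = c * x' * c⁻¹ * (c * (x * x') * c⁻¹) by group, r',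
        hp.rot']
      calc x * x' * x = x * (x' * x) := mul_assoc _ _ _
        _ = x * x * (x' * s) := by rw [show x' * x = x * x' * s from hp.pair.comm]; simp only [mul_assoc]
        _ = x' := by rw [hp.pair.sq, ← mul_assoc, ← S.cen x' hx'Q, mul_assoc, S.ss, mul_one]
  simp only [List.mem_cons, List.not_mem_nil, or_false] at h
  rcases h with h | h | h | h | h | h
  · exact ⟨x, by simp, hx, hp, S.inverted hx hp (Or.inl h)⟩
  · exact ⟨x, by simp, hx, hp, S.inverted hx hp (Or.inr h)⟩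
  · refine ⟨x * x', by simp, hxxQ, ?_⟩
    have cp' : CPair s c (x * x') := by
      refine S.cpair_of hxxQ (by rw [← hp.rot, show c * x' * c⁻¹ * (c * x' * c⁻¹) =
        c * (x' * x') * c⁻¹ by group, hp.pair.sq', S.cs, mul_inv_cancel_right]) ?_ ?_
      · rw [hp.rot']
        calc c * x * c⁻¹ = x' := rfl
          _ = x' * s * s := by rw [mul_assoc, S.ss, mul_one]
          _ = x * x * (x' * s) := by rw [hp.pair.sq, ← mul_assoc, ← S.cen x' hx'Q]
          _ = x * (x' * x) := by rw [show x' * x = x * x' * s from hp.pair.comm]; simp only [mul_assoc]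
          _ = x * x' * x := (mul_assoc _ _ _).symm
      · rw [hp.rot', show c * (x * x' * x) * c⁻¹ = c * (x * x') * c⁻¹ * (c * x * c⁻¹) by group,
          hp.rot']
    refine ⟨cp', S.inverted hxxQ cp' (Or.inl ?_)⟩
    exact (congrArg (fun g => t * g * t⁻¹) hp.rot.symm).trans ((S.t_cc x).trans (by rw [h]; exact hp.rot))
  · refine ⟨x * x', by simp, hxxQ, ?_⟩
    have cp' : CPair s c (x * x') := by
      refine S.cpair_of hxxQ (by rw [← hp.rot, show c * x' * c⁻¹ * (c * x' * c⁻¹) =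
        c * (x' * x') * c⁻¹ by group, hp.pair.sq', S.cs, mul_inv_cancel_right]) ?_ ?_
      · rw [hp.rot']
        calc c * x * c⁻¹ = x' := rfl
          _ = x' * s * s := by rw [mul_assoc, S.ss, mul_one]
          _ = x * x * (x' * s) := by rw [hp.pair.sq, ← mul_assoc, ← S.cen x' hx'Q]
          _ = x * (x' * x) := by rw [show x' * x = x * x' * s from hp.pair.comm]; simp only [mul_assoc]
          _ = x * x' * x := (mul_assoc _ _ _).symm
      · rw [hp.rot', show c * (x * x' * x) * c⁻¹ = c * (x * x') * c⁻¹ * (c * x * c⁻¹) by group,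
          hp.rot']
    refine ⟨cp', S.inverted hxxQ cp' (Or.inr ?_)⟩
    exact (congrArg (fun g => t * g * t⁻¹) hp.rot.symm).trans ((S.t_cc x).trans (by
      rw [h, S.conj_cs, hp.rot]))
  · refine ⟨x', by simp, hx'Q, cp, S.inverted hx'Q cp (Or.inl ?_)⟩
    rw [hx', S.t_c, h, hp.rot']
  · refine ⟨x', by simp, hx'Q, cp, S.inverted hx'Q cp (Or.inr ?_)⟩
    rw [hx', S.t_c, h, S.conj_cs, hp.rot', S.conj_cs]

theorem sq_class {x x' y y' : G} (R : QRel s x x' y y') {n : ℕ} (hn : n < 32)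
    (h : qel s x x' y y' n * qel s x x' y y' n = s) :
    n ∈ [1, 17, 2, 18, 3, 19] ∨ n ∈ [4, 20, 8, 24, 12, 28] := by
  have h16 : qmul n n = 16 := S.qel_inj R (qmul_lt n n hn) (by norm_num)
    (by rw [← R.qel_mul, h, qel_consts.2.2.2.2.2.2.1])
  have := List.all_eq_true.1 q_chk.2.2.2.1 n (List.mem_range.2 hn)
  simpa [h16] using this

theorem qel_list {x y : G} (hx : x ∈ Q) (hy : y ∈ Q) :
    let P := qel s x (c * x * c⁻¹) y (c * y * c⁻¹)
    P 17 = x * s ∧ P 18 = c * x * c⁻¹ * s ∧ P 19 = x * (c * x * c⁻¹) * s ∧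
    P 20 = y * s ∧ P 24 = c * y * c⁻¹ * s ∧ P 28 = y * (c * y * c⁻¹) * s := by
  obtain ⟨-, -, -, -, -, -, -, h17, h19, h20, h28⟩ :=
    qel_consts (s := s) (x := x) (x' := c * x * c⁻¹) (y := y) (y' := c * y * c⁻¹)
  have e : ∀ g ∈ Q, s * g = g * s := fun g hg => (S.cen g hg).symm
  refine ⟨h17.trans (e x hx), ?_, h19.trans (e _ (mul_mem hx (S.conj_c hx))), h20.trans (e y hy), ?_,
    h28.trans (e _ (mul_mem hy (S.conj_c hy)))⟩
  · rw [← e _ (S.conj_c hx)]
    simp [qel, pw, show ∀ k, k < 5 → bt 18 k = decide (k = 1 ∨ k = 4) from by decide]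
  · rw [← e _ (S.conj_c hy)]
    simp [qel, pw, show ∀ k, k < 5 → bt 24 k = decide (k = 3 ∨ k = 4) from by decide]

/-- **The numbering.** -/
theorem exists_data : (∃ D : Data tabM s, ∀ q ∈ Q, ∃ i < 32, D.el i = q) ∨
    (∃ D : Data tabA s, ∀ q ∈ Q, ∃ i < 32, D.el i = q) ∨
    (∃ D : Data tabP s, ∀ q ∈ Q, ∃ i < 32, D.el i = q) ∨
    (∃ D : Data tabS s, ∀ q ∈ Q, ∃ i < 32, D.el i = q) := by
  obtain ⟨x, hx, hp⟩ := S.exists_first
  obtain ⟨z, hz, hzz, hzx, hzx'⟩ := S.exists_second hx hp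
  obtain ⟨z₀, hz₀, hq⟩ := S.triple hz hzz
  have hz₀Q : z₀ ∈ Q := by rcases hz₀ with rfl | rfl; exacts [hz, mul_mem hz S.sQ]
  have R0 : QRel s x (c * x * c⁻¹) z₀ (c * z₀ * c⁻¹) := by
    refine S.qrel hx hz₀Q hp hq ?_ ?_ <;> rcases hz₀ with rfl | rfl
    · exact hzx
    · exact (Commute.mul_left hzx (S.cen x hx).symm).eq
    · exact hzx'
    · exact (Commute.mul_left hzx' (S.cen _ (S.conj_c hx)).symm).eq
  have hsq : t * x * t⁻¹ * (t * x * t⁻¹) = s := by
    rw [show t * x * t⁻¹ * (t * x * t⁻¹) = t * (x * x) * t⁻¹ by group, hp.pair.sq, S.ts,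
      mul_inv_cancel_right]
  obtain ⟨n, hn, hne⟩ := S.qel_surj R0 hx (S.conj_c hx) hz₀Q (S.conj_c hz₀Q) (S.norm t S.ts x hx)
  obtain ⟨c1, c2, c3, c4, c8, c12, -⟩ :=
    qel_consts (s := s) (x := x) (x' := c * x * c⁻¹) (y := z₀) (y' := c * z₀ * c⁻¹)
  obtain ⟨l17, l18, l19, l20, l24, l28⟩ := S.qel_list hx hz₀Q
  have hcl := S.sq_class R0 hn (by rw [hne]; exact hsq)
  obtain ⟨e, he⟩ : ∃ e, t * t = pw s e := by
    rcases S.tt with h | h
    exacts [⟨false, h⟩, ⟨true, h⟩]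
  rcases hcl with hcl | hcl
  · obtain ⟨x₀, hx₀, hx₀Q, hp₀, ht1, ht2⟩ := S.fix_pair hx hp (by
      rw [← hne]
      simp only [List.mem_cons, List.not_mem_nil, or_false] at hcl ⊢
      rcases hcl with rfl | rfl | rfl | rfl | rfl | rfl
      exacts [Or.inl c1, Or.inr (Or.inl l17), Or.inr (Or.inr (Or.inl c2)),
        Or.inr (Or.inr (Or.inr (Or.inl l18))), Or.inr (Or.inr (Or.inr (Or.inr (Or.inl c3)))),
        Or.inr (Or.inr (Or.inr (Or.inr (Or.inr l19))))])
    have R1 : QRel s x₀ (c * x₀ * c⁻¹) z₀ (c * z₀ * c⁻¹) := by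
      have a := R0.xy
      have b := R0.x'y
      have ab := comm_prod a b
      simp only [List.mem_cons, List.not_mem_nil, or_false] at hx₀
      refine S.qrel hx₀Q hz₀Q hp₀ hq ?_ ?_ <;> rcases hx₀ with rfl | rfl | rfl
      · exact a
      · exact b
      · exact ab
      · exact b
      · rw [hp.rot]; exact ab
      · rw [hp.rot']; exact a
    obtain ⟨m, hm, hme⟩ := S.qel_surj R1 hx₀Q (S.conj_c hx₀Q) hz₀Q (S.conj_c hz₀Q)
      (S.norm t S.ts z₀ hz₀Q)
    have hm4 : m ∈ [4, 20, 8, 24, 12, 28] := by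
      obtain ⟨-, -, -, -, -, h⟩ := q_chk
      have h := List.all_eq_true.1 h m (List.mem_range.2 hm)
      obtain ⟨d1, d2, -, -, -, -, d16, -⟩ :=
        qel_consts (s := s) (x := x₀) (x' := c * x₀ * c⁻¹) (y := z₀) (y' := c * z₀ * c⁻¹)
      have f16 : qmul m m = 16 := S.qel_inj R1 (qmul_lt m m hm) (by norm_num) (by
        rw [← R1.qel_mul, hme, d16, show t * z₀ * t⁻¹ * (t * z₀ * t⁻¹) = t * (z₀ * z₀) * t⁻¹ by group,
          hq.pair.sq, S.ts, mul_inv_cancel_right])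
      have k1 : t * z₀ * t⁻¹ * x₀ = x₀ * (t * z₀ * t⁻¹) := by
        have := congrArg (fun g => t * g * t⁻¹ * s) R1.xy
        have hs2 : x₀ * s * s = x₀ := by rw [mul_assoc, S.ss, mul_one]
        calc t * z₀ * t⁻¹ * x₀ = t * z₀ * t⁻¹ * (t * x₀ * t⁻¹ * s) := by rw [ht1, hs2]
          _ = t * (z₀ * x₀) * t⁻¹ * s := by group
          _ = t * (x₀ * z₀) * t⁻¹ * s := this
          _ = t * x₀ * t⁻¹ * (t * z₀ * t⁻¹ * s) := by group
          _ = t * x₀ * t⁻¹ * s * (t * z₀ * t⁻¹) := by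
            rw [S.cen _ (S.norm t S.ts z₀ hz₀Q)]; simp only [mul_assoc]
          _ = _ := by rw [ht1, hs2]
      have k2 : t * z₀ * t⁻¹ * (c * x₀ * c⁻¹) = c * x₀ * c⁻¹ * (t * z₀ * t⁻¹) := by
        have hb : t * (x₀ * (c * x₀ * c⁻¹)) * t⁻¹ = c * x₀ * c⁻¹ * s := by
          rw [← hp₀.rot, S.t_cc, ht1, S.conj_cs]
        have hs2 : c * x₀ * c⁻¹ * s * s = c * x₀ * c⁻¹ := by rw [mul_assoc, S.ss, mul_one]
        calc t * z₀ * t⁻¹ * (c * x₀ * c⁻¹)
            = t * z₀ * t⁻¹ * (t * (x₀ * (c * x₀ * c⁻¹)) * t⁻¹ * s) := by rw [hb, hs2]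
          _ = t * (z₀ * (x₀ * (c * x₀ * c⁻¹))) * t⁻¹ * s := by group
          _ = t * (x₀ * (c * x₀ * c⁻¹) * z₀) * t⁻¹ * s := by rw [comm_prod R1.xy R1.x'y]
          _ = t * (x₀ * (c * x₀ * c⁻¹)) * t⁻¹ * (t * z₀ * t⁻¹ * s) := by group
          _ = t * (x₀ * (c * x₀ * c⁻¹)) * t⁻¹ * s * (t * z₀ * t⁻¹) := by
            rw [S.cen _ (S.norm t S.ts z₀ hz₀Q)]; simp only [mul_assoc]
          _ = _ := by rw [hb, hs2]
      have f1 : qmul m 1 = qmul 1 m := S.qel_inj R1 (qmul_lt _ _ hm) (qmul_lt _ _ (by norm_num))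
        (by rw [← R1.qel_mul, ← R1.qel_mul, hme, d1, k1])
      have f2 : qmul m 2 = qmul 2 m := S.qel_inj R1 (qmul_lt _ _ hm) (qmul_lt _ _ (by norm_num))
        (by rw [← R1.qel_mul, ← R1.qel_mul, hme, d2, k2])
      simpa [f16, f1, f2] using h
    obtain ⟨-, -, -, d4, d8, d12, -⟩ :=
      qel_consts (s := s) (x := x₀) (x' := c * x₀ * c⁻¹) (y := z₀) (y' := c * z₀ * c⁻¹)
    obtain ⟨-, -, -, m20, m24, m28⟩ := S.qel_list hx₀Q hz₀Q
    obtain ⟨y₀, hy₀, hy₀Q, hq₀, ht3, ht4⟩ := S.fix_pair hz₀Q hq (by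
      rw [← hme]
      simp only [List.mem_cons, List.not_mem_nil, or_false] at hm4 ⊢
      rcases hm4 with rfl | rfl | rfl | rfl | rfl | rfl
      exacts [Or.inl d4, Or.inr (Or.inl m20), Or.inr (Or.inr (Or.inl d8)),
        Or.inr (Or.inr (Or.inr (Or.inl m24))), Or.inr (Or.inr (Or.inr (Or.inr (Or.inl d12)))),
        Or.inr (Or.inr (Or.inr (Or.inr (Or.inr m28))))])
    have R : QRel s x₀ (c * x₀ * c⁻¹) y₀ (c * y₀ * c⁻¹) := by
      simp only [List.mem_cons, List.not_mem_nil, or_false] at hy₀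
      refine S.qrel hx₀Q hy₀Q hp₀ hq₀ ?_ ?_ <;> rcases hy₀ with rfl | rfl | rfl
      · exact R1.xy
      · exact R1.xy'
      · exact (Commute.mul_left R1.xy R1.xy').eq
      · exact R1.x'y
      · exact R1.x'y'
      · exact (Commute.mul_left R1.x'y R1.x'y').eq
    obtain ⟨k17, -, k19, k20, -, k28⟩ := S.qel_list hx₀Q hy₀Q
    obtain ⟨-, b2, b3, -, b8, b12, -⟩ :=
      qel_consts (s := s) (x := x₀) (x' := c * x₀ * c⁻¹) (y := y₀) (y' := c * y₀ * c⁻¹)
    have hmul := S.gel_mul R ⟨b2.symm, hp₀.rot.trans b3.symm, b8.symm, hq₀.rot.trans b12.symm⟩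
      (ix := 17) (ix' := 19) (iy := 20) (iy' := 28)
      ⟨ht1.trans k17.symm, ht2.trans k19.symm, ht3.trans k20.symm, ht4.trans k28.symm⟩ he
    cases e
    · left
      refine S.data_of R hx₀Q (S.conj_c hx₀Q) hy₀Q (S.conj_c hy₀Q) tabM fun i j hi hj => ?_
      rw [hmul i j hi hj]
      exact congrArg _ (Nat.eq_of_beq_eq_true (Tab.all192_get (Tab.all192_get mulG_tabM hi) hj))
    · right; right; left
      refine S.data_of R hx₀Q (S.conj_c hx₀Q) hy₀Q (S.conj_c hy₀Q) tabP fun i j hi hj => ?_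
      rw [hmul i j hi hj]
      exact congrArg _ (Nat.eq_of_beq_eq_true (Tab.all192_get (Tab.all192_get mulG_tabP hi) hj))
  · set y := t * x * t⁻¹ * s with hy
    have htx : t * x * t⁻¹ ∈ Q := S.norm t S.ts x hx
    have hyQ : y ∈ Q := mul_mem htx S.sQ
    have hys : y * s = t * x * t⁻¹ := by rw [hy, mul_assoc, S.ss, mul_one]
    have hy' : c * y * c⁻¹ = t * (x * (c * x * c⁻¹)) * t⁻¹ * s := by
      rw [hy, S.conj_cs, ← hp.rot, S.t_cc]
    have hyy : y * y = s := by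
      rw [hy, mul_assoc, ← mul_assoc s, ← S.cen _ htx, mul_assoc (t * x * t⁻¹), S.ss, mul_one, hsq]
    have hq1 : CPair s c y := by
      have e1 : c * (c * y * c⁻¹) * c⁻¹ = t * (c * x * c⁻¹) * t⁻¹ * s := by
        rw [hy', S.conj_cs, ← S.t_cc, hp.rot']
      have e2 : y * (c * y * c⁻¹) = t * (c * x * c⁻¹) * t⁻¹ * s := by
        rw [hy', hy, show t * x * t⁻¹ * s * (t * (x * (c * x * c⁻¹)) * t⁻¹ * s) =
          t * x * t⁻¹ * (s * (t * (x * (c * x * c⁻¹)) * t⁻¹)) * s by group,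
          ← S.cen _ (S.norm t S.ts _ (mul_mem hx (S.conj_c hx)))]
        calc t * x * t⁻¹ * (t * (x * (c * x * c⁻¹)) * t⁻¹ * s) * s
            = t * (x * x * (c * x * c⁻¹)) * t⁻¹ * (s * s) := by group
          _ = t * (c * x * c⁻¹ * s) * t⁻¹ := by
            rw [S.ss, mul_one, hp.pair.sq, S.cen _ (S.conj_c hx)]
          _ = _ := S.conj_ts
      refine S.cpair_of hyQ hyy (e1.trans e2.symm) ?_
      rw [← e1.trans e2.symm]
      exact S.conj_c_pow y
    obtain ⟨g1, g2⟩ : y * x = x * y ∧ y * (c * x * c⁻¹) = c * x * c⁻¹ * y := by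
      obtain ⟨-, -, -, -, h, -⟩ := q_chk
      have h := List.all_eq_true.1 h n (by simpa using hcl)
      simp only [Bool.and_eq_true, beq_iff_eq] at h
      have hP : qel s x (c * x * c⁻¹) z₀ (c * z₀ * c⁻¹) (stS n) = y := by
        rw [R0.step_s, hne]
      have h1 := congrArg (qel s x (c * x * c⁻¹) z₀ (c * z₀ * c⁻¹)) h.1
      have h2 := congrArg (qel s x (c * x * c⁻¹) z₀ (c * z₀ * c⁻¹)) h.2
      rw [← R0.qel_mul, ← R0.qel_mul, c1, hP] at h1
      rw [← R0.qel_mul, ← R0.qel_mul, c2, hP] at h2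
      exact ⟨h1, h2⟩
    have R := S.qrel hx hyQ hp hq1 g1 g2
    obtain ⟨k17, -, k19, k20, -, k28⟩ := S.qel_list hx hyQ
    obtain ⟨-, b2, b3, -, b8, b12, -⟩ :=
      qel_consts (s := s) (x := x) (x' := c * x * c⁻¹) (y := y) (y' := c * y * c⁻¹)
    have htt : ∀ g ∈ Q, t * (t * g * t⁻¹) * t⁻¹ = g := fun g hg => by
      rw [show t * (t * g * t⁻¹) * t⁻¹ = t * t * g * (t * t)⁻¹ by group]
      rcases S.tt with h | h <;> rw [h]
      · simp
      · rw [← S.cen g hg, mul_inv_cancel_right]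
    have t3 : t * y * t⁻¹ = x * s := by rw [hy, S.conj_ts, htt x hx]
    have t4 : t * (c * y * c⁻¹) * t⁻¹ = x * (c * x * c⁻¹) * s := by
      rw [hy', S.conj_ts, htt _ (mul_mem hx (S.conj_c hx))]
    have t2 : t * (c * x * c⁻¹) * t⁻¹ = y * (c * y * c⁻¹) * s := by
      rw [S.t_c, ← hys, S.conj_cs, S.conj_cs, hq1.rot]
    have hmul := S.gel_mul R ⟨b2.symm, hp.rot.trans b3.symm, b8.symm, hq1.rot.trans b12.symm⟩
      (ix := 20) (ix' := 28) (iy := 17) (iy' := 19)
      ⟨hys.symm.trans k20.symm, t2.trans k28.symm, t3.trans k17.symm, t4.trans k19.symm⟩ he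
    cases e
    · right; left
      refine S.data_of R hx (S.conj_c hx) hyQ (S.conj_c hyQ) tabA fun i j hi hj => ?_
      rw [hmul i j hi hj]
      exact congrArg _ (Nat.eq_of_beq_eq_true (Tab.all192_get (Tab.all192_get mulG_tabA hi) hj))
    · right; right; right
      refine S.data_of R hx (S.conj_c hx) hyQ (S.conj_c hyQ) tabS fun i j hi hj => ?_
      rw [hmul i j hi hj]
      exact congrArg _ (Nat.eq_of_beq_eq_true (Tab.all192_get (Tab.all192_get mulG_tabS hi) hj))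

end Setup

end CfsgLib.Recog.QSThree
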