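import Cfsg.Agent.Lib.Recog.QSThree.Tables
import Cfsg.Agent.Lib.Recog.QSThree.M12Data
import Cfsg.Agent.Lib.InvChar.M12C.Recog
import Cfsg.Agent.Lib.InvChar.M12C.Local
import Mathlib.GroupTheory.FixedPointFree

/-!
# The leg of M12 type

With a centraliser numbered by `tabM` the involution `s` is conjugate to the six non-central
involutions of the class of `X`. Either it has no further conjugates in its centraliser, and these
fill an elementary subgroup of order 8, or it is conjugate to the outer involutions; then every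
nontrivial normal subgroup contains the centraliser, so by the Frattini argument `G` is simple and
the recognition of `M12` applies.
-/

set_option autoImplicit false
set_option maxRecDepth 100000
set_option Elab.async false

namespace CfsgLib.Recog.QSThree.M12Leg

open Cfsg Subgroup CfsgLib.Invol

universe u

/-- The number in `tabM`. -/
def back (j : ℕ) : ℕ := backList.getD j 0

/-- The number in the table of `M12C`. -/
def fwd (i : ℕ) : ℕ := fwdList.getD i 0

theorem back_chk : (InvChar.M12C.all192 fun i => Nat.blt (back i) 192 && Nat.blt (fwd i) 192 &&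
    Nat.beq (fwd (back i)) i && Nat.beq (back (fwd i)) i &&
    InvChar.M12C.all192 fun j =>
      Nat.beq (tabM.mul (back i) (back j)) (back (InvChar.M12C.mul i j))) = true := by decide +kernel

theorem back_fix : back 0 = 0 ∧ back InvChar.M12C.zi = 16 := by decide +kernel

theorem q_chk : ((List.range 32).all fun i => !Nat.beq (InvChar.M12C.lab (fwd i)) 24) = true := by
  decide +kernel

/-- The numbers of `1`, `s` and the class of `X`. -/
def wList : List ℕ := [0, 1, 4, 9, 80, 93, 110, 119]

theorem w_chk : wList.Nodup ∧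
    ((wList.all fun a => Nat.blt a 192 && Nat.beq (InvChar.M12C.mul a a) 0 &&
      (Nat.beq a 0 || Nat.beq (InvChar.M12C.lab a) 1 || Nat.beq (InvChar.M12C.lab a) 6) &&
      wList.all fun b => wList.any fun c => Nat.beq (InvChar.M12C.mul a b) c) = true) ∧
    ((InvChar.M12C.all192 fun i =>
      ((!(Nat.beq (InvChar.M12C.lab i) 1 || Nat.beq (InvChar.M12C.lab i) 6)) ||
        wList.any fun a => Nat.beq i a) &&
      ((wList.any fun a => !InvChar.M12C.comm i a) || wList.any fun a => Nat.beq i a) &&
      wList.all fun a => wList.any fun c => Nat.beq (InvChar.M12C.conj i a) c) = true) ∧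
    InvChar.M12C.zi ∈ wList := by
  decide +kernel

theorem three_chk : (InvChar.M12C.all192 fun i => Nat.beq i 0 ||
    !Nat.beq (InvChar.M12C.mul (InvChar.M12C.mul i i) i) 0 ||
    InvChar.M12C.all192 (fun _ => true) &&
    (List.range 192).any fun k => !Nat.beq (InvChar.M12C.conj k i) i &&
      !Nat.beq (InvChar.M12C.conj k i) (InvChar.M12C.mul i i)) = true := by decide +kernel

theorem gen_chk : genWords.length = 192 ∧ (genWords.zipIdx.all fun p =>
    (p.1.all fun i => Nat.blt i 192 && (Nat.beq (InvChar.M12C.lab i) 1 ||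
      Nat.beq (InvChar.M12C.lab i) 6 || Nat.beq (InvChar.M12C.lab i) 24)) &&
    Nat.beq (p.1.foldr InvChar.M12C.mul 0) p.2) = true := by decide +kernel

variable {G : Type u} [Group G] {s : G}

/-- The renumbered data. -/
noncomputable def toM12C (D : Data tabM s) : InvChar.M12C.Data s where
  el j := D.el (back j)
  el_mul := fun {i j} hi hj => by
    have h := InvChar.M12C.all192_get back_chk hi
    simp only [Bool.and_eq_true] at h
    have hj' := InvChar.M12C.all192_get back_chk hj
    simp only [Bool.and_eq_true] at hj'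
    rw [D.el_mul (by simpa [Nat.blt] using h.1.1.1.1) (by simpa [Nat.blt] using hj'.1.1.1.1),
      Nat.eq_of_beq_eq_true (InvChar.M12C.all192_get h.2 hj)]
  el_inj := fun {i j} hi hj he => by
    have h := InvChar.M12C.all192_get back_chk hi
    simp only [Bool.and_eq_true] at h
    have hj' := InvChar.M12C.all192_get back_chk hj
    simp only [Bool.and_eq_true] at hj'
    have := D.el_inj (by simpa [Nat.blt] using h.1.1.1.1) (by simpa [Nat.blt] using hj'.1.1.1.1) he
    rw [← Nat.eq_of_beq_eq_true h.1.1.2, this, Nat.eq_of_beq_eq_true hj'.1.1.2]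
  mem := fun {g} => by
    constructor
    · intro hg
      obtain ⟨i, hi, rfl⟩ := D.mem.1 hg
      have h := InvChar.M12C.all192_get back_chk hi
      simp only [Bool.and_eq_true] at h
      exact ⟨fwd i, by simpa [Nat.blt] using h.1.1.1.2, by rw [Nat.eq_of_beq_eq_true h.1.2]⟩
    · rintro ⟨i, hi, rfl⟩
      have h := InvChar.M12C.all192_get back_chk hi
      simp only [Bool.and_eq_true] at h
      exact D.el_comm_s (by simpa [Nat.blt] using h.1.1.1.1)
  el_zero := by rw [back_fix.1, D.el_zero]
  el_zi := by rw [back_fix.2, D.el_zi]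

section

variable [Finite G] (E : InvChar.M12C.Data s)
include E

/-- An involution commuting with `s` and conjugate to it lies in `W` or is an outer one. -/
theorem cases_of_isConj {x : G} (hx : x * s = s * x) (hc : IsConj s x) :
    ∃ i < 192, E.el i = x ∧
      (InvChar.M12C.lab i = 1 ∨ InvChar.M12C.lab i = 6 ∨ InvChar.M12C.lab i = 24) := by
  obtain ⟨i, hi, he, hl, -⟩ := E.exists_wit
    ((CfsgLib.Invol.orderOf_eq_of_isConj hc).trans (InvChar.M12C.Data.orderOf_t E)) hx
  refine ⟨i, hi, he, ?_⟩
  rcases hl with h | h | h | h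
  · exact Or.inl h
  · exact Or.inr (Or.inl h)
  · exact absurd (hc.trans (by rw [← he]; exact (E.isConj_twelve hi h).symm)) E.not_isConj_a
  · exact Or.inr (Or.inr h)

/-- If no outer involution is conjugate to `s`, its conjugates close up. -/
theorem closed_of_not (hX : IsConj s (E.el InvChar.M12C.Xi))
    (hw : ¬ IsConj s (E.el InvChar.M12C.wi)) : Closed s := by
  classical
  obtain ⟨hnd, hA, hB, hzW⟩ := w_chk
  simp only [List.all_eq_true, Bool.and_eq_true, List.any_eq_true] at hA
  have lt : ∀ a ∈ wList, a < 192 := fun a ha => by simpa [Nat.blt] using (hA a ha).1.1.1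
  have inW : ∀ i < 192, (InvChar.M12C.lab i = 1 ∨ InvChar.M12C.lab i = 6) → i ∈ wList := by
    intro i hi hl
    have h := InvChar.M12C.all192_get hB hi
    simp only [Bool.and_eq_true, Bool.or_eq_true, List.any_eq_true] at h
    rcases h.1.1 with h' | ⟨a, ha, he⟩
    · rcases hl with e | e <;> simp [e] at h'
    · rwa [Nat.eq_of_beq_eq_true he]
  let W : Subgroup G :=
    { carrier := {g | ∃ a ∈ wList, E.el a = g}
      one_mem' := ⟨0, by decide, E.el_zero⟩
      mul_mem' := by
        rintro _ _ ⟨a, ha, rfl⟩ ⟨b, hb, rfl⟩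
        obtain ⟨c, hc, he⟩ := (hA a ha).2 b hb
        exact ⟨c, hc, by rw [E.el_mul (lt a ha) (lt b hb), Nat.eq_of_beq_eq_true he]⟩
      inv_mem' := by
        rintro _ ⟨a, ha, rfl⟩
        refine ⟨a, ha, (inv_eq_of_mul_eq_one_right ?_).symm⟩
        rw [E.el_mul (lt a ha) (lt a ha), Nat.eq_of_beq_eq_true (hA a ha).1.1.2, E.el_zero] }
  have hcard : Nat.card W = 8 := by
    have e : {a // a ∈ wList.toFinset} ≃ W := Equiv.ofBijective
      (fun a => ⟨E.el a.1, a.1, List.mem_toFinset.1 a.2, rfl⟩)
      ⟨fun a b h => Subtype.ext (E.el_inj (lt _ (List.mem_toFinset.1 a.2))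
        (lt _ (List.mem_toFinset.1 b.2)) (congrArg Subtype.val h)), fun g => by
        obtain ⟨a, ha, hg⟩ := g.2
        exact ⟨⟨a, List.mem_toFinset.2 ha⟩, Subtype.ext hg⟩⟩
    rw [← Nat.card_congr e, Nat.card_eq_fintype_card, Fintype.card_coe,
      List.toFinset_card_of_nodup hnd]
    rfl
  refine ⟨W, hcard, ?_, ⟨InvChar.M12C.zi, hzW, E.el_zi⟩, ?_, ?_, ?_, ?_⟩
  · rintro _ ⟨a, ha, rfl⟩
    rw [pow_two, E.el_mul (lt a ha) (lt a ha), Nat.eq_of_beq_eq_true (hA a ha).1.1.2, E.el_zero]
  · rintro g hg _ ⟨a, ha, rfl⟩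
    obtain ⟨i, hi, rfl⟩ := E.mem.1 hg
    have h := InvChar.M12C.all192_get hB hi
    simp only [Bool.and_eq_true, List.all_eq_true, List.any_eq_true] at h
    obtain ⟨c, hc, he⟩ := h.2 a ha
    exact ⟨c, hc, by rw [E.el_conj hi (lt a ha), Nat.eq_of_beq_eq_true he]⟩
  · intro g hg hcw
    obtain ⟨i, hi, rfl⟩ := E.mem.1 hg
    have h := InvChar.M12C.all192_get hB hi
    simp only [Bool.and_eq_true, Bool.or_eq_true, List.any_eq_true] at h
    rcases h.1.2 with ⟨a, ha, hn⟩ | ⟨a, ha, he⟩
    · rw [(E.el_commute hi (lt a ha)).1 (hcw _ ⟨a, ha, rfl⟩)] at hn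
      simp at hn
    · exact ⟨a, ha, by rw [Nat.eq_of_beq_eq_true he]⟩
  · intro g hg
    obtain ⟨i, hi, he, hl⟩ := cases_of_isConj E hg (isConj_iff.2 ⟨g, rfl⟩)
    rcases hl with h | h | h
    · exact ⟨i, inW i hi (Or.inl h), he⟩
    · exact ⟨i, inW i hi (Or.inr h), he⟩
    · exact absurd ((isConj_iff.2 ⟨g, he.symm⟩ : IsConj s (E.el i)).trans (E.isConj_w hi h).symm) hw
  · rintro _ ⟨a, ha, rfl⟩ hne
    have h := (hA a ha).1.2
    simp only [Bool.or_eq_true] at h
    rcases h with (h | h) | h
    · exact absurd (by rw [Nat.eq_of_beq_eq_true h, E.el_zero]) hne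
    · rw [E.eq_t_of_lab_one (lt a ha) (Nat.eq_of_beq_eq_true h)]
    · exact hX.trans (E.isConj_six (lt a ha) (Nat.eq_of_beq_eq_true h))

/-- If the outer involutions are conjugate to `s`, then `G` is simple and not abelian. -/
theorem simple_of_conj (hX : IsConj s (E.el InvChar.M12C.Xi))
    (hw : IsConj s (E.el InvChar.M12C.wi)) : IsSimpleGroup G ∧ ¬ IsMulCommutative G := by
  classical
  haveI : Fact (Nat.Prime 2) := ⟨Nat.prime_two⟩
  have hs : orderOf s = 2 := InvChar.M12C.Data.orderOf_t E
  have hab : ¬ IsMulCommutative G := fun h => by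
    obtain ⟨g, hg⟩ := isConj_iff.1 hX
    rw [h.is_comm.comm g s, mul_inv_cancel_right] at hg
    exact absurd (E.el_inj InvChar.M12C.idx_small.1 InvChar.M12C.idx_small.2.2.2.2.1
      (E.el_zi.trans hg)) (by decide)
  haveI : Nontrivial G := ⟨⟨s, 1, fun h => by rw [h, orderOf_one] at hs; omega⟩⟩
  refine ⟨⟨fun N hN => ?_⟩, hab⟩
  by_contra hne
  push Not at hne
  obtain ⟨hbot, htop⟩ := hne
  obtain ⟨P, hP, -⟩ := E.exists_sylow
  have hcard : 2 ∣ Nat.card N := by
    by_contra hodd
    -- a four-group `s, X, sX` of conjugates acts on `N`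
    have hCN : ∀ u : G, IsConj s u → ∀ n ∈ N, n * u = u * n → n = 1 := by
      intro u hu n hn hnu
      obtain ⟨g, hg⟩ := isConj_iff.1 hu
      set m := g⁻¹ * n * g with hm
      have hmN : m ∈ N := by simpa [hm] using hN.conj_mem n hn g⁻¹
      have hms : m * s = s * m := by
        have : s = g⁻¹ * u * g := by rw [← hg]; group
        rw [this, hm]
        calc _ = g⁻¹ * (n * u) * g := by group
          _ = g⁻¹ * (u * n) * g := by rw [hnu]
          _ = _ := by group
      suffices m = 1 by rw [hm] at this; simpa [mul_assoc, inv_mul_eq_one] using this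
      have hsub : ∀ k < 192, ∀ x ∈ N ⊓ centralizer ({s} : Set G),
          E.el k * x * (E.el k)⁻¹ ∈ N ⊓ centralizer ({s} : Set G) := fun k hk x hx =>
        ⟨hN.conj_mem x hx.1 _, mem_centralizer_singleton_iff.2 (by
          have h1 := E.el_comm_t hk
          have h2 := mem_centralizer_singleton_iff.1 hx.2
          have h3 : (E.el k)⁻¹ * s = s * (E.el k)⁻¹ := by
            rw [eq_comm, eq_inv_mul_iff_mul_eq, ← mul_assoc, h1, mul_inv_cancel_right]
          rw [mul_assoc (E.el k * x), h3, ← mul_assoc, mul_assoc (E.el k), h2, ← mul_assoc, h1,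
            mul_assoc s, mul_assoc s])⟩
      set K := N ⊓ centralizer ({s} : Set G) with hK
      have hKdvd : Nat.card K ∣ 192 := by
        rw [← E.card_centralizer]; exact card_dvd_of_le inf_le_right
      have hKodd : ¬ 2 ∣ Nat.card K := fun h => hodd (h.trans (card_dvd_of_le inf_le_left))
      have hK3 : Nat.card K ∣ 3 := by
        have hc : (Nat.card K).Coprime (2 ^ 6) :=
          Nat.Coprime.pow_right 6 ((Nat.prime_two.coprime_iff_not_dvd.2 hKodd).symm)
        exact hc.dvd_of_dvd_mul_left (by simpa using hKdvd)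
      have hmK : m ∈ K := ⟨hmN, mem_centralizer_singleton_iff.2 hms⟩
      rcases (Nat.dvd_prime Nat.prime_three).1 hK3 with h1 | h3
      · rw [card_eq_one.1 h1] at hmK; exact mem_bot.1 hmK
      by_contra hm1
      have hm3 : orderOf m = 3 := by
        have hd : orderOf m ∣ 3 := by
          rw [← h3, ← Subgroup.orderOf_mk m hmK]; exact orderOf_dvd_natCard _
        exact ((Nat.dvd_prime Nat.prime_three).1 hd).resolve_left (by rwa [orderOf_eq_one_iff])
      obtain ⟨i, hi, hie⟩ := E.mem.1 hms
      have hz : Subgroup.zpowers m = K := eq_of_le_of_card_ge (zpowers_le.2 hmK)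
        (by rw [h3, Nat.card_zpowers, hm3])
      have h := InvChar.M12C.all192_get three_chk hi
      simp only [Bool.or_eq_true, Bool.and_eq_true, List.any_eq_true, List.mem_range] at h
      rcases h with (h | h) | ⟨-, k, hk, hk1, hk2⟩
      · rw [Nat.eq_of_beq_eq_true h, E.el_zero] at hie; exact hm1 hie.symm
      · have : InvChar.M12C.mul (InvChar.M12C.mul i i) i = 0 := by
          refine E.el_inj (InvChar.M12C.mul_lt (InvChar.M12C.mul_lt hi hi) hi) (by norm_num) ?_
          rw [← E.el_mul (InvChar.M12C.mul_lt hi hi) hi, ← E.el_mul hi hi, hie, E.el_zero, ← pow_two,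
            ← pow_succ]
          have := pow_orderOf_eq_one m
          rwa [hm3] at this
        simp [this] at h
      · have hmem := hsub k hk m hmK
        have hkc := E.el_conj hk hi
        rw [hie] at hkc
        rw [← hz, hkc, mem_zpowers_iff_mem_range_orderOf, hm3] at hmem
        simp only [Finset.mem_image, Finset.mem_range] at hmem
        obtain ⟨l, hl, hle⟩ := hmem
        have hklt := InvChar.M12C.conj_lt hk hi
        interval_cases l
        · simp only [pow_zero] at hle
          have := hkc.trans hle.symm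
          rw [mul_inv_eq_one, mul_eq_left] at this
          exact hm1 this
        · rw [pow_one, ← hie] at hle
          rw [← E.el_inj hi hklt hle] at hk1
          simp at hk1
        · rw [pow_two, ← hie, E.el_mul hi hi] at hle
          rw [← E.el_inj (InvChar.M12C.mul_lt hi hi) hklt hle] at hk2
          simp at hk2
    refine hbot ((Subgroup.eq_bot_iff_forall N).2 fun n hn => ?_)
    have hXlt := InvChar.M12C.idx_small.2.2.2.2.1
    have hXs := E.el_comm_t hXlt
    have inv_of : ∀ u : G, IsConj s u → ∀ n ∈ N, u * n * u = n⁻¹ := by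
      intro u hu n hn
      haveI : N.Normal := hN
      have hu2 : u * u = 1 :=
        CfsgLib.Invol.invol_mul_self ((CfsgLib.Invol.orderOf_eq_of_isConj hu).trans hs)
      have hui : u⁻¹ = u := inv_eq_of_mul_eq_one_right hu2
      let φ : N →* N := (MulAut.conjNormal u : MulAut N).toMonoidHom
      have hφ : ∀ x : N, ((φ x : N) : G) = u * (x : G) * u := fun x => by
        show ((MulAut.conjNormal u x : N) : G) = _
        rw [MulAut.conjNormal_apply, hui]
      have hfpf : MonoidHom.FixedPointFree φ := fun x hx => by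
        have h1 : u * (x : G) * u = x := by rw [← hφ, hx]
        refine Subtype.ext (hCN u hu x x.2 ?_)
        calc (x : G) * u = u * x * u * u := by rw [h1]
          _ = u * x := by rw [mul_assoc, hu2, mul_one]
      have hinvol : Function.Involutive φ := fun x => Subtype.ext (by
        rw [hφ, hφ]; simp only [← mul_assoc, hu2, one_mul]; rw [mul_assoc, hu2, mul_one])
      have := congrFun (hfpf.coe_eq_inv_of_involutive hinvol) ⟨n, hn⟩
      have h2 := congrArg (Subtype.val (p := fun y => y ∈ N)) this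
      rw [hφ] at h2
      exact h2
    have hsX : IsConj s (s * E.el InvChar.M12C.Xi) := by
      have h : InvChar.M12C.lab (InvChar.M12C.mul InvChar.M12C.zi InvChar.M12C.Xi) = 6 := by
        decide +kernel
      have e : E.el (InvChar.M12C.mul InvChar.M12C.zi InvChar.M12C.Xi) =
          s * E.el InvChar.M12C.Xi := by
        rw [← E.el_mul InvChar.M12C.idx_small.1 hXlt]; exact congrArg (· * _) E.el_zi
      rw [← e]
      exact hX.trans (E.isConj_six (InvChar.M12C.mul_lt InvChar.M12C.idx_small.1 hXlt) h)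
    have h1 := inv_of s (IsConj.refl s) n hn
    have hX2 : E.el InvChar.M12C.Xi * E.el InvChar.M12C.Xi = 1 :=
      CfsgLib.Invol.invol_mul_self ((CfsgLib.Invol.orderOf_eq_of_isConj hX).trans hs)
    have h2 := inv_of _ hX n⁻¹ (N.inv_mem hn)
    have h3 := inv_of _ hsX n hn
    have : n = n⁻¹ := by
      have e : s * E.el InvChar.M12C.Xi * n * (s * E.el InvChar.M12C.Xi) =
          E.el InvChar.M12C.Xi * (s * n * s) * E.el InvChar.M12C.Xi := by
        conv_lhs => rw [show s * E.el InvChar.M12C.Xi = E.el InvChar.M12C.Xi * s from hXs.symm]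
        rw [show E.el InvChar.M12C.Xi * s * n * (E.el InvChar.M12C.Xi * s) =
          E.el InvChar.M12C.Xi * (s * n) * (E.el InvChar.M12C.Xi * s) by group, hXs]
        group
      rw [h3, h1, h2, inv_inv] at e
      exact e.symm
    by_contra hn1
    have h2n : orderOf (⟨n, hn⟩ : N) = 2 := by
      refine orderOf_eq_prime (Subtype.ext ?_) (fun h => hn1 (congrArg Subtype.val h))
      show n ^ 2 = 1
      rw [pow_two]; nth_rw 1 [this]; exact inv_mul_cancel n
    exact hodd (h2n ▸ orderOf_dvd_natCard _)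
  -- the centre of the Sylow subgroup lies in `N`
  have hsN : s ∈ N := by
    obtain ⟨Q⟩ : Nonempty (Sylow 2 N) := inferInstance
    obtain ⟨⟨x, hx⟩, hx2⟩ := exists_prime_orderOf_dvd_card' (G := N) 2 hcard
    rw [Subgroup.orderOf_mk] at hx2
    obtain ⟨i, hi, hci, hsy⟩ := E.exists_conj_el hx2
    have hiN : E.el i ∈ N := by
      obtain ⟨g, hg⟩ := isConj_iff.1 hci.symm
      rw [← hg]; exact hN.conj_mem x hx g
    obtain ⟨j, hj, hje, hl, hwit⟩ := E.exists_wit
      ((CfsgLib.Invol.orderOf_eq_of_isConj hci).symm.trans hx2) (E.el_comm_t hi)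
    have hrep : E.el (InvChar.M12C.rep (InvChar.M12C.lab j)) ∈ N := by
      have := hN.conj_mem _ hiN (E.el (InvChar.M12C.wit j))⁻¹
      rw [← hwit] at this
      simpa [mul_assoc] using this
    rcases hl with h | h | h | h <;> rw [h] at hrep
    · rwa [← E.el_zi]
    · obtain ⟨g, hg⟩ := isConj_iff.1 hX.symm
      rw [← hg]; exact hN.conj_mem _ hrep g
    · -- `a * (b a b⁻¹) = s` for a suitable conjugate
      obtain ⟨k, hk, hkz⟩ : ∃ k ∈ List.range 192, InvChar.M12C.mul InvChar.M12C.ai
          (InvChar.M12C.conj k InvChar.M12C.ai) = InvChar.M12C.zi := by decide +kernel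
      rw [List.mem_range] at hk
      have hka := InvChar.M12C.idx_small.2.1
      have := N.mul_mem hrep (hN.conj_mem _ hrep (E.el k))
      rw [show InvChar.M12C.rep 12 = InvChar.M12C.ai from rfl, E.el_conj hk hka,
        E.el_mul hka (InvChar.M12C.conj_lt hk hka), hkz, E.el_zi] at this
      exact this
    · obtain ⟨g, hg⟩ := isConj_iff.1 hw.symm
      rw [← hg]; exact hN.conj_mem _ hrep g
  -- so the centraliser lies in `N`
  have hzc : ∀ i < 192, (InvChar.M12C.lab i = 1 ∨ InvChar.M12C.lab i = 6 ∨
      InvChar.M12C.lab i = 24) → E.el i ∈ N := by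
    intro i hi hl
    have hc : IsConj s (E.el i) := by
      rcases hl with h | h | h
      · rw [E.eq_t_of_lab_one hi h]
      · exact hX.trans (E.isConj_six hi h)
      · exact hw.trans (E.isConj_w hi h)
    obtain ⟨g, hg⟩ := isConj_iff.1 hc
    rw [← hg]; exact hN.conj_mem s hsN g
  have hCN : ∀ j < 192, E.el j ∈ N := by
    intro j hj
    have hl : j < genWords.length := by rw [gen_chk.1]; exact hj
    have h := List.all_eq_true.1 gen_chk.2 (genWords[j], j)
      (List.mem_iff_getElem.2 ⟨j, by simpa using hl, by simp⟩)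
    simp only [Bool.and_eq_true, List.all_eq_true, Bool.or_eq_true] at h
    have key : ∀ w : List ℕ, (∀ i ∈ w, i < 192 ∧ E.el i ∈ N) →
        w.foldr InvChar.M12C.mul 0 < 192 ∧ E.el (w.foldr InvChar.M12C.mul 0) ∈ N := by
      intro w
      induction w with
      | nil => exact fun _ => ⟨by simp, by simp [E.el_zero, N.one_mem]⟩
      | cons a w ih =>
        intro hw'
        obtain ⟨h1, h2⟩ := ih fun i hi => hw' i (List.mem_cons_of_mem a hi)
        obtain ⟨ha, haN⟩ := hw' a List.mem_cons_self
        refine ⟨InvChar.M12C.mul_lt ha h1, ?_⟩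
        rw [List.foldr_cons, ← E.el_mul ha h1]
        exact N.mul_mem haN h2
    have := (key genWords[j] fun i hi => by
      obtain ⟨h1, h2⟩ := h.1 i hi
      have h1' : i < 192 := by simpa [Nat.blt] using h1
      refine ⟨h1', hzc i h1' ?_⟩
      rcases h2 with (h2 | h2) | h2 <;> simp [Nat.eq_of_beq_eq_true h2]).2
    rwa [Nat.eq_of_beq_eq_true h.2] at this
  have hPN : (P : Subgroup G) ≤ N := by
    rw [hP]
    rintro _ ⟨i, hi, rfl⟩
    exact hCN i (InvChar.M12C.syl_mem_lt hi)
  haveI : N.Normal := hN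
  have hfr := Sylow.normalizer_sup_eq_top' P hPN
  refine htop (top_le_iff.1 (hfr ▸ sup_le ?_ le_rfl))
  intro g hg
  have hsP : s ∈ (P : Subgroup G) := by
    rw [hP]; exact ⟨InvChar.M12C.zi, by decide, E.el_zi⟩
  have hgs : g * s * g⁻¹ ∈ (P : Subgroup G) := (Subgroup.mem_normalizer_iff.1 hg s).1 hsP
  have hcen : ∀ p ∈ (P : Subgroup G), p * (g * s * g⁻¹) = (g * s * g⁻¹) * p := by
    intro p hp
    have hp' : g⁻¹ * p * g ∈ (P : Subgroup G) := by
      have := (Subgroup.mem_normalizer_iff.1 (Subgroup.inv_mem _ hg) p).1 hp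
      simpa using this
    rw [hP] at hp'
    obtain ⟨i, hi, hie⟩ := hp'
    have hc := E.el_comm_t (InvChar.M12C.syl_mem_lt hi)
    rw [hie] at hc
    calc p * (g * s * g⁻¹) = g * ((g⁻¹ * p * g) * s) * g⁻¹ := by group
      _ = g * (s * (g⁻¹ * p * g)) * g⁻¹ := by rw [hc]
      _ = _ := by group
  rw [hP] at hgs hcen
  obtain ⟨i, hi, hie⟩ := hgs
  have hlt := InvChar.M12C.syl_mem_lt hi
  have hall : (InvChar.M12C.sylList.all fun j => InvChar.M12C.comm i j) = true :=
    List.all_eq_true.2 fun j hj => by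
      rw [← E.el_commute hlt (InvChar.M12C.syl_mem_lt hj), hie]
      exact (hcen _ ⟨j, hj, rfl⟩).symm
  have hz := InvChar.M12C.all192_get InvChar.M12C.fusSyl_center hlt
  simp only [hall, Bool.not_true, Bool.false_or, Bool.or_eq_true] at hz
  rcases hz with h | h
  · exfalso
    rw [Nat.eq_of_beq_eq_true h, E.el_zero] at hie
    have := congrArg orderOf hie
    rw [orderOf_one, CfsgLib.Invol.orderOf_conj_eq, hs] at this
    omega
  · rw [Nat.eq_of_beq_eq_true h, E.el_zi] at hie
    obtain ⟨k, hk, rfl⟩ := E.mem.1 (show g * s = s * g from (eq_mul_inv_iff_mul_eq.1 hie).symm)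
    exact hCN k hk

end

/-- **The leg of M12 type.** -/
theorem closed_or_m12 [Finite G] (D : Data tabM s)
    (hnwc : ∃ g : G, (∃ i < 32, D.el i = g * s * g⁻¹) ∧ g * s * g⁻¹ ≠ s) :
    Closed s ∨ Spor.IsoM12 G := by
  classical
  set E := toM12C D with hE
  obtain ⟨g, ⟨i, hi, hie⟩, hne⟩ := hnwc
  have hf := InvChar.M12C.all192_get back_chk (show i < 192 by omega)
  simp only [Bool.and_eq_true] at hf
  have hflt : fwd i < 192 := by simpa [Nat.blt] using hf.1.1.1.2
  have hel : E.el (fwd i) = g * s * g⁻¹ := by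
    show D.el (back (fwd i)) = _
    rw [Nat.eq_of_beq_eq_true hf.1.2, hie]
  have hcomm : g * s * g⁻¹ * s = s * (g * s * g⁻¹) := by rw [← hel]; exact E.el_comm_t hflt
  obtain ⟨j, hj, hje, hl⟩ := cases_of_isConj E hcomm (isConj_iff.2 ⟨g, rfl⟩)
  rw [← hel] at hje
  rw [E.el_inj hj hflt hje] at hl
  have hq := List.all_eq_true.1 q_chk i (List.mem_range.2 hi)
  have hX : IsConj s (E.el InvChar.M12C.Xi) := by
    rcases hl with h | h | h
    · exact absurd (hel.symm.trans (E.eq_t_of_lab_one hflt h)) hne
    · exact (isConj_iff.2 ⟨g, hel.symm⟩ : IsConj s (E.el (fwd i))).trans (E.isConj_six hflt h).symm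
    · simp [h] at hq
  by_cases hw : IsConj s (E.el InvChar.M12C.wi)
  · right
    obtain ⟨hsimp, hab⟩ := simple_of_conj E hX hw
    obtain ⟨ψ, h1, h2, h3, h4, h5, h6⟩ := E.exists_psi hab
    exact InvChar.M12C.isoM12_of_psi ⟨h1, h2, h3, h4, h5, h6⟩ E.not_isConj_a
  · exact Or.inl (closed_of_not E hX hw)

end CfsgLib.Recog.QSThree.M12Leg
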