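import Cfsg.Agent.Lib.Recog.QSThree.Tables

/-!
# The two tables without outer involutions are impossible

Commutators of involutions of `C(s)` lie in `⟨s⟩`. For a conjugate `u` of `s` among the first 32
numbers two involutions of `C(s, u)` do not commute, so their commutator is both `s` and `u`.
-/

set_option autoImplicit false
set_option maxRecDepth 100000
set_option Elab.async false

namespace CfsgLib.Recog.QSThree

universe u

/-- An involution of the table. -/
noncomputable def Tab.invol (T : Tab) (i : ℕ) : Bool := !Nat.beq i 0 && Nat.beq (T.mul i i) 0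

/-- The test for tables without outer involutions. -/
noncomputable def Tab.NoOut (T : Tab) : Prop :=
  Tab.all192 (fun i => !T.invol i || Tab.all192 fun k => !T.invol k ||
    (Nat.beq (T.mul (T.mul i k) (T.mul i k)) 0 || Nat.beq (T.mul (T.mul i k) (T.mul i k)) 16))
    = true ∧
  ((List.range 32).all fun j => !T.invol j || Nat.beq j 16 ||
    (List.range 192).any fun i => T.invol i && T.comm i j &&
      (List.range 192).any fun k => T.invol k && T.comm k j && !T.comm i k) = true ∧
  T.mul 16 16 = 0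

theorem tabP_noOut : tabP.NoOut := by
  refine ⟨?_, ?_, ?_⟩ <;> decide +kernel

theorem tabS_noOut : tabS.NoOut := by
  refine ⟨?_, ?_, ?_⟩ <;> decide +kernel

variable {G : Type u} [Group G] {s : G} {T : Tab}

theorem Data.false_of_noOut (D : Data T s) (hT : T.Ok) (hN : T.NoOut)
    (hnwc : ∃ g : G, (∃ i < 32, D.el i = g * s * g⁻¹) ∧ g * s * g⁻¹ ≠ s) : False := by
  obtain ⟨g, ⟨j, hj, hje⟩, hne⟩ := hnwc
  have hj' : j < 192 := by omega
  have h16 : 16 < 192 := by norm_num
  have inv_of : ∀ {i : ℕ}, i < 192 → D.el i ≠ 1 → D.el i * D.el i = 1 → T.invol i = true := by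
    intro i hi h1 h2
    have hi0 : i ≠ 0 := fun e => h1 (by rw [e, D.el_zero])
    have : T.mul i i = 0 :=
      D.el_inj (hT.mul_lt hi hi) (by norm_num) (by rw [← D.el_mul hi hi, h2, D.el_zero])
    cases hb : Nat.beq i 0 with
    | false => simp [Tab.invol, this, hb]
    | true => exact absurd (Nat.eq_of_beq_eq_true hb) hi0
  have of_inv : ∀ {i : ℕ}, i < 192 → T.invol i = true → D.el i ≠ 1 ∧ D.el i * D.el i = 1 := by
    intro i hi h
    simp only [Tab.invol, Bool.and_eq_true, Bool.not_eq_true'] at h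
    refine ⟨fun e => ?_, by rw [D.el_mul hi hi, Nat.eq_of_beq_eq_true h.2, D.el_zero]⟩
    rw [D.el_inj hi (by norm_num) (e.trans D.el_zero.symm)] at h
    simp at h
  have hs1 : s ≠ 1 := by
    intro h
    exact absurd (D.el_inj h16 (by norm_num) (D.el_zi.trans (h.trans D.el_zero.symm))) (by norm_num)
  have hs2 : s * s = 1 := by rw [← D.el_zi, D.el_mul h16 h16, hN.2.2, D.el_zero]
  have hu1 : g * s * g⁻¹ ≠ 1 := fun h => hs1 (by
    calc s = g⁻¹ * (g * s * g⁻¹) * g := by group
      _ = 1 := by rw [h]; group)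
  have hu2 : g * s * g⁻¹ * (g * s * g⁻¹) = 1 := by
    calc _ = g * (s * s) * g⁻¹ := by group
      _ = 1 := by rw [hs2]; group
  rw [← hje] at hu1 hu2
  have h := List.all_eq_true.1 hN.2.1 j (List.mem_range.2 hj)
  simp only [inv_of hj' hu1 hu2, Bool.not_true, Bool.false_or, Bool.or_eq_true,
    List.any_eq_true, List.mem_range, Bool.and_eq_true, Bool.not_eq_true'] at h
  rcases h with h | ⟨i, hi, ⟨hii, hij⟩, k, hk, ⟨hki, hkj⟩, hik⟩
  · rw [Nat.eq_of_beq_eq_true h, D.el_zi] at hje; exact hne hje.symm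
  -- pull back to the centraliser of `s`
  have back : ∀ x, x < 192 → T.invol x = true → T.comm x j = true →
      ∃ y < 192, D.el y = g⁻¹ * D.el x * g ∧ T.invol y = true := by
    intro x hx hxi hxj
    obtain ⟨h1, h2⟩ := of_inv hx hxi
    have hc := (D.el_commute hT hx hj').2 hxj
    rw [hje] at hc
    obtain ⟨y, hy, hye⟩ := D.mem.1 (show (g⁻¹ * D.el x * g) * s = s * (g⁻¹ * D.el x * g) by
      calc _ = g⁻¹ * (D.el x * (g * s * g⁻¹)) * g := by group
        _ = g⁻¹ * ((g * s * g⁻¹) * D.el x) * g := by rw [hc]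
        _ = _ := by group)
    refine ⟨y, hy, hye, inv_of hy (fun e => h1 ?_) ?_⟩
    · calc D.el x = g * (g⁻¹ * D.el x * g) * g⁻¹ := by group
        _ = 1 := by rw [← hye, e]; group
    · rw [hye]
      calc _ = g⁻¹ * (D.el x * D.el x) * g := by group
        _ = 1 := by rw [h2]; group
  have comm_sq : ∀ a c, a < 192 → c < 192 → T.invol a = true → T.invol c = true →
      D.el a * D.el c * (D.el a * D.el c) = 1 ∨ D.el a * D.el c * (D.el a * D.el c) = s := by
    intro a c ha hc hai hci
    have h := Tab.all192_get hN.1 ha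
    simp only [hai, Bool.not_true, Bool.false_or] at h
    have h := Tab.all192_get h hc
    simp only [hci, Bool.not_true, Bool.false_or, Bool.or_eq_true] at h
    rw [D.el_mul ha hc, D.el_mul (hT.mul_lt ha hc) (hT.mul_lt ha hc)]
    rcases h with h | h
    · left; rw [Nat.eq_of_beq_eq_true h, D.el_zero]
    · right; rw [Nat.eq_of_beq_eq_true h, D.el_zi]
  obtain ⟨i', hi', hie, hii'⟩ := back i hi hii hij
  obtain ⟨k', hk', hke, hki'⟩ := back k hk hki hkj
  have e1 : D.el i * D.el k * (D.el i * D.el k) = s := by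
    refine (comm_sq i k hi hk hii hki).resolve_left fun e => ?_
    have hii2 := (of_inv hi hii).2
    have hkk2 := (of_inv hk hki).2
    have : D.el i * D.el k = D.el k * D.el i := by
      calc D.el i * D.el k = D.el i * D.el k * ((D.el i * D.el k) * (D.el k * D.el i)) := by
            rw [mul_assoc (D.el i) (D.el k) (D.el k * D.el i), ← mul_assoc (D.el k) (D.el k),
              hkk2, one_mul, hii2, mul_one]
        _ = D.el k * D.el i := by rw [← mul_assoc, e, one_mul]
    rw [(D.el_commute hT hi hk).1 this] at hik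
    exact absurd hik (by simp)
  rcases comm_sq i' k' hi' hk' hii' hki' with e | e
  all_goals
    rw [hie, hke] at e
    have e' : g⁻¹ * s * g = g⁻¹ * D.el i * g * (g⁻¹ * D.el k * g) *
        (g⁻¹ * D.el i * g * (g⁻¹ * D.el k * g)) :=
      (congrArg (fun y => g⁻¹ * y * g) e1.symm).trans (by group)
    rw [e] at e'
  · exact hs1 (by
      calc s = g * (g⁻¹ * s * g) * g⁻¹ := by group
        _ = 1 := by rw [e']; group)
  · exact hne (by
      calc g * s * g⁻¹ = g * (g⁻¹ * s * g) * g⁻¹ := by rw [e']
        _ = s := by group)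

theorem no_tabP (D : Data tabP s)
    (hnwc : ∃ g : G, (∃ i < 32, D.el i = g * s * g⁻¹) ∧ g * s * g⁻¹ ≠ s) : False :=
  D.false_of_noOut tabP_ok tabP_noOut hnwc

theorem no_tabS (D : Data tabS s)
    (hnwc : ∃ g : G, (∃ i < 32, D.el i = g * s * g⁻¹) ∧ g * s * g⁻¹ ≠ s) : False :=
  D.false_of_noOut tabS_ok tabS_noOut hnwc

end CfsgLib.Recog.QSThree
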