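import Cfsg.Prelude.Def_Transfer
import Cfsg.Prelude.Def_CaseTheorems
import Cfsg.Prelude.Def_Solvable
import Cfsg.Agent.Lib.InvChar.ExtraspecialTransfer
import Mathlib.GroupTheory.Sylow
import Mathlib.GroupTheory.Perm.Fin

/-!
# An involution centraliser `2^(1+4).S₃`: generators
-/

set_option autoImplicit false

namespace CfsgLib.Recog.QSThree

open Subgroup Equiv

universe u

/-- What is used of the centraliser. -/
structure Setup {G : Type u} [Group G] (s : G) (Q : Subgroup G) (c t : G) : Prop where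
  s1 : s ≠ 1
  ss : s * s = 1
  sQ : s ∈ Q
  cen : ∀ q ∈ Q, q * s = s * q
  comm : ∀ a ∈ Q, ∀ b ∈ Q, a * b = b * a ∨ a * b = b * a * s
  sq : ∀ a ∈ Q, a * a = 1 ∨ a * a = s
  center : ∀ a ∈ Q, (∀ b ∈ Q, a * b = b * a) → a = 1 ∨ a = s
  card : Nat.card Q = 32
  norm : ∀ g : G, g * s = s * g → ∀ q ∈ Q, g * q * g⁻¹ ∈ Q
  cs : c * s = s * c
  c3 : c * c * c = 1
  fixc : ∀ q ∈ Q, c * q = q * c → q = 1 ∨ q = s
  ts : t * s = s * t
  tc : t * c * t⁻¹ = c * c
  tt : t * t = 1 ∨ t * t = s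
  cover : ∀ g : G, g * s = s * g → ∃ q ∈ Q, ∃ i < 3, ∃ j < 2, g = q * c ^ i * t ^ j
  card192 : Nat.card (centralizer ({s} : Set G)) = 192

theorem perm_three : ∀ r u : Perm (Fin 3), r * r * r = 1 → r ≠ 1 → Perm.sign u = -1 →
    Perm.sign r = 1 ∧ u * u = 1 ∧ u * r * u⁻¹ = r * r ∧
      ∀ p : Perm (Fin 3), ∃ i : Fin 3, ∃ j : Fin 2, p = r ^ (i : ℕ) * u ^ (j : ℕ) := by
  decide +kernel

variable {G : Type u} [Group G] [Finite G]

theorem exists_setup (s : G) (hs : orderOf s = 2) (L : Subgroup G)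
    (hL : L = centralizer ({s} : Set G)) (Q : Subgroup G)
    (hQ : Q = (Cfsg.pCore 2 L).map L.subtype) (hQex : Cfsg.IsExtraspecial 2 Q)
    (hQcard : Nat.card Q = 32) (e : L ⧸ Cfsg.pCore 2 L ≃* Perm (Fin 3)) (X : Sylow 3 L)
    (hCQX : Q ⊓ centralizer (((X : Subgroup L).map L.subtype : Subgroup G) : Set G) = zpowers s) :
    ∃ c t : G, Setup s Q c t := by
  classical
  haveI : Fact (Nat.Prime 3) := ⟨Nat.prime_three⟩
  have hN : (Cfsg.pCore 2 L).Normal := inferInstance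
  have hss : s * s = 1 := by rw [← pow_two, ← hs, pow_orderOf_eq_one]
  have hs1 : s ≠ 1 := fun h => by simp [h] at hs
  have memL : ∀ g : G, g ∈ L ↔ g * s = s * g := fun g => by
    rw [hL, mem_centralizer_singleton_iff]
  have hQL : Q ≤ L := hQ ▸ map_subtype_le _
  have cen : ∀ q ∈ Q, q * s = s * q := fun q hq => (memL q).1 (hQL hq)
  have hsQ : s ∈ Q := (mem_inf.1 (hCQX ▸ mem_zpowers s :
    s ∈ Q ⊓ centralizer (((X : Subgroup L).map L.subtype : Subgroup G) : Set G))).1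
  have memQ : ∀ g : ↥L, (g : G) ∈ Q ↔ g ∈ Cfsg.pCore 2 L := fun g => by
    rw [hQ]
    exact mem_map_iff_mem L.subtype_injective
  set se : ↥Q := ⟨s, hsQ⟩ with hse
  have hsec : se ∈ Subgroup.center ↥Q :=
    mem_center_iff.2 fun x => Subtype.ext (cen x.1 x.2)
  have hse1 : se ≠ 1 := fun h => hs1 (congrArg Subtype.val h)
  have hZ : ∀ a ∈ Subgroup.center ↥Q, a = 1 ∨ a = se := fun a ha => by
    by_cases h : a = 1
    · exact Or.inl h
    · exact Or.inr (CfsgLib.Transfer.es_two_central_eq hQex ha hsec h hse1)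
  have hcomm : ∀ a ∈ Q, ∀ b ∈ Q, a * b = b * a ∨ a * b = b * a * s := fun a ha b hb => by
    obtain ⟨d, hd⟩ : ∃ d : ↥Q, d = (⟨a, ha⟩ : ↥Q)⁻¹ * ⟨b, hb⟩⁻¹ * ⟨a, ha⟩ * ⟨b, hb⟩ := ⟨_, rfl⟩
    have hdc : d ∈ Subgroup.center ↥Q := by
      have h := CfsgLib.Transfer.special_commutatorElement_mem_center hQex.1
        (⟨a, ha⟩ : ↥Q)⁻¹ (⟨b, hb⟩ : ↥Q)⁻¹
      rw [commutatorElement_def, inv_inv, inv_inv] at h
      rwa [hd]
    have e : a * b = b * a * (d : G) := by
      rw [hd]; simp only [Subgroup.coe_mul, Subgroup.coe_inv]; group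
    rcases hZ d hdc with h | h
    · left; rw [e, h, OneMemClass.coe_one, mul_one]
    · right; rw [e, h]
  have hsq : ∀ a ∈ Q, a * a = 1 ∨ a * a = s := fun a ha => by
    rcases hZ _ (CfsgLib.Transfer.es_two_sq_mem hQex ⟨a, ha⟩) with h | h
    · left; simpa [pow_two] using congrArg Subtype.val h
    · right; simpa [pow_two] using congrArg Subtype.val h
  have hcenter : ∀ a ∈ Q, (∀ b ∈ Q, a * b = b * a) → a = 1 ∨ a = s := fun a ha h =>
    (hZ ⟨a, ha⟩ (mem_center_iff.2 fun b => Subtype.ext (h b b.2).symm)).imp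
      (congrArg Subtype.val) (congrArg Subtype.val)
  have hnorm : ∀ g : G, g * s = s * g → ∀ q ∈ Q, g * q * g⁻¹ ∈ Q := fun g hg q hq =>
    (memQ (⟨g, (memL g).2 hg⟩ * ⟨q, hQL hq⟩ * (⟨g, (memL g).2 hg⟩)⁻¹)).2
      (hN.conj_mem _ ((memQ ⟨q, hQL hq⟩).1 hq) _)
  -- the quotient
  set π : ↥L →* Perm (Fin 3) := e.toMonoidHom.comp (QuotientGroup.mk' (Cfsg.pCore 2 L)) with hπ
  have hπs : Function.Surjective π := e.surjective.comp (QuotientGroup.mk'_surjective _)
  have hker : ∀ g : ↥L, π g = 1 ↔ (g : G) ∈ Q := fun g => by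
    rw [memQ, ← QuotientGroup.eq_one_iff g, ← e.map_eq_one_iff]
    rfl
  have hPQ : Nat.card (Cfsg.pCore 2 L) = 32 := by
    rw [← hQcard, hQ]
    exact Nat.card_congr ((Cfsg.pCore 2 L).equivMapOfInjective _ L.subtype_injective).toEquiv
  have hcardL : Nat.card ↥L = 192 := by
    rw [(Cfsg.pCore 2 L).card_eq_card_quotient_mul_card_subgroup, Nat.card_congr e.toEquiv,
      Nat.card_perm, Nat.card_fin, hPQ]
    rfl
  have hX : Nat.card (X : Subgroup ↥L) = 3 := by
    rw [X.card_eq_multiplicity, hcardL]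
    have : (192 : ℕ).factorization 3 = 1 := by
      rw [Nat.factorization_def _ Nat.prime_three, show (192 : ℕ) = 3 ^ 1 * 64 by norm_num,
        padicValNat.mul (by norm_num) (by norm_num), padicValNat.prime_pow,
        padicValNat.eq_zero_of_not_dvd (by norm_num)]
    rw [this, pow_one]
  -- `c`
  obtain ⟨c, hcX, hc1⟩ : ∃ c ∈ (X : Subgroup ↥L), c ≠ 1 := by
    by_contra h
    push Not at h
    rw [(Subgroup.eq_bot_iff_forall _).2 h, Subgroup.card_bot] at hX
    omega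
  have hc3 : c ^ 3 = 1 := by
    have h := congrArg Subtype.val (pow_card_eq_one' (x := (⟨c, hcX⟩ : ↥(X : Subgroup ↥L))))
    rwa [hX] at h
  have hgen : ∀ g ∈ (X : Subgroup ↥L), ∃ k : ℤ, g = c ^ k := fun g hg => by
    obtain ⟨k, hk⟩ := mem_zpowers_iff.1 (mem_zpowers_of_prime_card hX
      (g := (⟨c, hcX⟩ : ↥(X : Subgroup ↥L))) (g' := ⟨g, hg⟩)
      (fun h => hc1 (congrArg Subtype.val h)))
    exact ⟨k, by simpa using (congrArg Subtype.val hk).symm⟩
  have hfix : ∀ q ∈ Q, (c : G) * q = q * c → q = 1 ∨ q = s := fun q hq hcq => by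
    have hmem : q ∈ Q ⊓ centralizer (((X : Subgroup L).map L.subtype : Subgroup G) : Set G) := by
      refine mem_inf.2 ⟨hq, mem_centralizer_iff.2 ?_⟩
      rintro _ ⟨g, hg, rfl⟩
      obtain ⟨k, rfl⟩ := hgen g hg
      show ((c ^ k : ↥L) : G) * q = q * ((c ^ k : ↥L) : G)
      rw [coe_zpow]
      exact (Commute.zpow_left hcq k)
    rw [hCQX, mem_zpowers_iff] at hmem
    obtain ⟨k, rfl⟩ := hmem
    rcases Int.even_or_odd' k with ⟨l, rfl | rfl⟩
    · left; rw [zpow_mul, zpow_two, hss, one_zpow]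
    · right; rw [zpow_add, zpow_mul, zpow_two, hss, one_zpow, one_mul, zpow_one]
  have hπc : π c ≠ 1 := fun h => by
    have hq := (hker c).1 h
    have h2 : (c : G) * c = 1 ∨ (c : G) * c = s := hsq _ hq
    have h3 : (c : G) * c * c = 1 := by
      have := congrArg Subtype.val hc3
      rwa [coe_pow, pow_succ, pow_two] at this
    rcases h2 with h2 | h2
    · rw [h2, one_mul] at h3
      exact hc1 (Subtype.ext h3)
    · rw [h2] at h3
      have hcs : (c : G) = s := mul_left_cancel (h3.trans hss.symm)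
      rw [hcs, hss] at h2
      exact hs1 h2.symm
  have hπc3 : π c * π c * π c = 1 := by rw [← map_mul, ← map_mul, ← pow_two, ← pow_succ, hc3, map_one]
  -- `t`
  set σ : ↥L →* ℤˣ := Perm.sign.comp π with hσ
  have hXker : (X : Subgroup ↥L) ≤ σ.ker := fun g hg => by
    obtain ⟨k, rfl⟩ := hgen g hg
    rw [MonoidHom.mem_ker, map_zpow, show σ c = 1 from (perm_three _ (swap 0 1) hπc3 hπc
      (Perm.sign_swap (by decide))).1, one_zpow]
  obtain ⟨w, hw⟩ := hπs (swap 0 1)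
  have htop := Sylow.normalizer_sup_eq_top' (N := σ.ker) X hXker
  obtain ⟨n, hn, k, hk, hnk⟩ : ∃ n ∈ normalizer ((X : Subgroup ↥L) : Set ↥L), ∃ k ∈ σ.ker,
      n * k = w := by
    have : w ∈ ((normalizer ((X : Subgroup ↥L) : Set ↥L) ⊔ σ.ker : Subgroup ↥L) : Set ↥L) := by
      rw [SetLike.mem_coe]
      exact (show normalizer ((X : Subgroup ↥L) : Set ↥L) ⊔ σ.ker = ⊤ from htop) ▸ mem_top w
    rw [Subgroup.mul_normal] at this
    exact Set.mem_mul.1 this
  have hsn : Perm.sign (π n) = -1 := by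
    have : σ w = -1 := by
      show Perm.sign (π w) = -1
      rw [hw]; exact Perm.sign_swap (by decide)
    rw [← hnk, map_mul, MonoidHom.mem_ker.1 hk, mul_one] at this
    exact this
  obtain ⟨-, hu2, hur, hall⟩ := perm_three (π c) (π n) hπc3 hπc hsn
  have htc : n * c * n⁻¹ = c * c := by
    obtain ⟨k, hk⟩ := hgen _ ((mem_normalizer_iff.1 hn c).1 hcX)
    have h6 : c ^ k = c ^ (k % 3) := by
      conv_lhs => rw [← Int.emod_add_mul_ediv k 3, zpow_add, zpow_mul, show c ^ (3 : ℤ) = 1 by exact_mod_cast hc3,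
        one_zpow, mul_one]
    rw [h6] at hk
    rw [hk]
    have hπk : π c ^ (k % 3) = π c * π c := by
      rw [← hur, ← map_inv, ← map_mul, ← map_mul, hk, map_zpow]
    rcases (show k % 3 = 0 ∨ k % 3 = 1 ∨ k % 3 = 2 by omega) with h | h | h <;> rw [h] at hπk ⊢
    · exfalso
      rw [zpow_zero] at hπk
      rw [← hπk, one_mul] at hπc3
      exact hπc hπc3
    · exfalso
      rw [zpow_one] at hπk
      exact hπc (mul_left_cancel (hπk.symm.trans (mul_one _).symm))
    · exact zpow_two c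
  have hnn : (n : G) * n = 1 ∨ (n : G) * n = s := by
    have hq : ((n * n : ↥L) : G) ∈ Q := (hker _).1 (by rw [map_mul, hu2])
    refine hfix _ hq ?_
    have e : n * n * c = c * (n * n) := by
      have : n * n * c * (n * n)⁻¹ = c := by
        rw [show n * n * c * (n * n)⁻¹ = n * (n * c * n⁻¹) * n⁻¹ by group, htc,
          show n * (c * c) * n⁻¹ = n * c * n⁻¹ * (n * c * n⁻¹) by group, htc,
          show c * c * (c * c) = c ^ 3 * c by simp [pow_succ, mul_assoc], hc3, one_mul]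
      calc n * n * c = n * n * c * (n * n)⁻¹ * (n * n) := by group
        _ = c * (n * n) := by rw [this]
    exact congrArg Subtype.val e.symm
  refine ⟨c, n, hs1, hss, hsQ, cen, hcomm, hsq, hcenter, hQcard, hnorm, (memL _).1 c.2, ?_, hfix,
    (memL _).1 n.2, congrArg Subtype.val htc, hnn, fun g hg => ?_, ?_⟩
  · have := congrArg Subtype.val hc3
    rwa [coe_pow, pow_succ, pow_two] at this
  · obtain ⟨i, j, hij⟩ := hall (π ⟨g, (memL g).2 hg⟩)
    set m : ↥L := c ^ (i : ℕ) * n ^ (j : ℕ) with hm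
    refine ⟨((⟨g, (memL g).2 hg⟩ * m⁻¹ : ↥L) : G), (hker _).1 ?_, i, i.2, j, j.2, ?_⟩
    · rw [map_mul, map_inv, hm, map_mul, map_pow, map_pow, ← hij, mul_inv_cancel]
    · simp only [hm, Subgroup.coe_mul, Subgroup.coe_inv, coe_pow]
      group
  · rw [← hL]; exact hcardL

end CfsgLib.Recog.QSThree
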