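import Cfsg.Agent.Lib.Recog.QSThree.Tables

/-! # Automorphisms of the table of type A8 (generated values) -/

set_option autoImplicit false

namespace CfsgLib.Recog.QSThree

open CfsgLib.InvChar.Coset

/-- An automorphism of `tabA`; classes go to [1, 3, 2, 4, 5, 6]. -/
noncomputable def sw23T : Tr := .node (.leaf 0x92968a8e9094888c8185999d83879b9f82869a9e8084989c9195898d93978b8f595d51555b5f53575a5e5256585c5054494d41454b4f43474a4e4246484c404435213d2937233f2b36223e2a34203c2825312d3927332f3b26322e3a24302c381d0905111f0b07131e0a06121c0804100d1915010f1b17030e1a16020c181400) (.leaf 0x63677b7f7175696d7074686c62667a7e73776b6f6165797d6064787c72766a6eb0b4a8aca2a6babeb3b7abafa1a5b9bda0a4b8bcb2b6aaaea3a7bbbfb1b5a9ad)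

/-- An automorphism of `tabA`; classes go to [1, 4, 3, 2, 5, 6]. -/
noncomputable def sw24T : Tr := .node (.leaf 0x91998d8590988c84838b9f97828a9e9681899d9580889c94939b8f87929a8e865f57535b5e56525a5d5551595c5450584f47434b4e46424a4d4541494c4440483b23372f3a22362e3921352d3820342c2b33273f2a32263e2931253d2830243c170f0b13160e0a12150d0911140c0810071f1b03061e1a02051d1901041c1800) (.leaf 0x626a7e76737b6f6770786c6461697d75727a6e66636b7f7760687c7471796d65b0b8aca4a1a9bdb5b2baaea6a3abbfb7a0a8bcb4b1b9ada5a2aabeb6b3bbafa7)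

/-- An automorphism of `tabA`; classes go to [1, 2, 4, 3, 5, 6]. -/
noncomputable def sw34T : Tr := .node (.leaf 0x939f878b909c8488828e969a818d9599838f979b808c9498929e868a919d8589565a525e5559515d575b535f5458505c464a424e4549414d474b434f4448404c3e223a263d2139253f233b273c2038242e322a362d3129352f332b372c3028341a060e1219050d111b070f1318040c100a161e0209151d010b171f0308141c00) (.leaf 0x616d7579727e666a707c6468636f777b717d6569626e767a606c7478737f676bb0bca4a8a3afb7bbb1bda5a9a2aeb6baa0acb4b8b3bfa7aba1adb5b9b2bea6aa)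

/-- An automorphism of `tabA`; classes go to [1, 2, 3, 4, 6, 5]. -/
noncomputable def twistT : Tr := .node (.leaf 0x8a898b88868587848e8d8f8c828183809a999b98969597949e9d9f9c929193905a595b58565557545e5d5f5c525153504a494b48464547444e4d4f4c424143403a393b38363537343e3d3f3c323133302a292b28262527242e2d2f2c222123201a191b18161517141e1d1f1c121113100a090b08060507040e0d0f0c02010300) (.leaf 0x6a696b68666567646e6d6f6c626163607a797b78767577747e7d7f7c72717370aaa9aba8a6a5a7a4aeadafaca2a1a3a0bab9bbb8b6b5b7b4bebdbfbcb2b1b3b0)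

end CfsgLib.Recog.QSThree
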