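import Cfsg.Agent.Lib.Recog.QSThree.AltAutData
import Mathlib.Data.Set.Card
import Mathlib.Algebra.Group.Conj

/-!
# Type A8: fused classes and the special elementary subgroups
-/

set_option autoImplicit false
set_option maxRecDepth 100000

namespace CfsgLib.Recog.QSThree

open CfsgLib.InvChar.Coset

universe u

theorem beq_false {a b : ℕ} (h : a ≠ b) : Nat.beq a b = false := by
  cases e : Nat.beq a b with
  | false => rfl
  | true => exact absurd (Nat.eq_of_beq_eq_true e) h

namespace Data

variable {G : Type u} [Group G] {s : G} {T : Tab}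

/-- Transport to a conjugate. -/
def conjTo (D : Data T s) (g : G) : Data T (g * s * g⁻¹) where
  el i := g * D.el i * g⁻¹
  el_mul := fun hi hj => by rw [← D.el_mul hi hj]; group
  el_inj := fun hi hj h => D.el_inj hi hj (by simpa using h)
  mem := by
    intro h
    have key : h * (g * s * g⁻¹) = g * s * g⁻¹ * h ↔ g⁻¹ * h * g * s = s * (g⁻¹ * h * g) := by
      constructor <;> intro e
      · simpa [mul_assoc] using congrArg (fun x => g⁻¹ * x * g) e
      · simpa [mul_assoc] using congrArg (fun x => g * x * g⁻¹) e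
    rw [key, D.mem]
    constructor <;> rintro ⟨i, hi, hx⟩ <;> refine ⟨i, hi, ?_⟩
    · rw [hx]; group
    · rw [← hx]; group
  el_zero := by simp [D.el_zero]
  el_zi := by rw [D.el_zi]

/-- Renumber along an automorphism of the table. -/
noncomputable def relabel (D : Data T s) (σ τ : ℕ → ℕ)
    (hlt : ∀ i, i < 192 → σ i < 192 ∧ τ i < 192 ∧ τ (σ i) = i ∧ σ (τ i) = i)
    (hmul : ∀ i j, i < 192 → j < 192 → σ (T.mul i j) = T.mul (σ i) (σ j))
    (h0 : σ 0 = 0) (h16 : σ 16 = 16) : Data T s where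
  el i := D.el (σ i)
  el_mul := fun hi hj => by
    rw [hmul _ _ hi hj, D.el_mul (hlt _ hi).1 (hlt _ hj).1]
  el_inj := fun {i j} hi hj h => by
    have := D.el_inj (hlt _ hi).1 (hlt _ hj).1 h
    rw [← (hlt _ hi).2.2.1, ← (hlt _ hj).2.2.1, this]
  mem := by
    intro h
    rw [D.mem]
    constructor
    · rintro ⟨i, hi, rfl⟩
      exact ⟨τ i, (hlt _ hi).2.1, by rw [(hlt _ hi).2.2.2]⟩
    · rintro ⟨i, hi, rfl⟩
      exact ⟨σ i, (hlt _ hi).1, rfl⟩
  el_zero := by rw [h0, D.el_zero]
  el_zi := by rw [h16, D.el_zi]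

theorem ncard_el (D : Data T s) (p : ℕ → Bool) :
    {g : G | ∃ i < 192, p i = true ∧ D.el i = g}.ncard =
      ((Finset.range 192).filter fun i => p i = true).card := by
  classical
  have e : {g : G | ∃ i < 192, p i = true ∧ D.el i = g}
      = (((Finset.range 192).filter fun i => p i = true).image D.el : Set G) := by
    ext g; simp [and_assoc]
  rw [e, Set.ncard_coe_finset, Finset.card_image_of_injOn]
  intro i hi j hj h
  simp only [Finset.coe_filter, Finset.mem_range, Set.mem_setOf_eq] at hi hj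
  exact D.el_inj hi.1 hj.1 h

end Data

namespace Alt

variable {G : Type u} [Group G] {s : G}

/-- Number of elements centralising the two numbers. -/
noncomputable def cent2 (r x : ℕ) : ℕ :=
  ((Finset.range 192).filter fun i => (tabA.comm i r && tabA.comm i x) = true).card

/-- Number of elements centralising the number. -/
noncomputable def cent1 (r : ℕ) : ℕ :=
  ((Finset.range 192).filter fun i => tabA.comm i r = true).card

/-- The classes of size six. -/
def Six (c : ℕ) : Prop := c = 2 ∨ c = 3 ∨ c = 4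

/-- Membership in the special subgroup of a class. -/
noncomputable def inW (c i : ℕ) : Bool := Nat.beq i 0 || Nat.beq i 16 || Nat.beq (tabA.cls i) c

variable (D : Data tabA s)

/-- The class is fused with `s`. -/
def Fus (c : ℕ) : Prop := IsConj s (D.el (tabA.rep c))

/-- Elements commuting with `a`, `b` and `x`. -/
def cset (a b x : G) : Set G := {h | h * a = a * h ∧ h * b = b * h ∧ h * x = x * h}

/-- The set cut out symmetrically by two commuting elements. -/
def kset (a b : G) : Set G :=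
  {x | x * x = 1 ∧ x * a = a * x ∧ x * b = b * x ∧
    (x = 1 ∨ x = a ∨ x = b ∨ x = a * b ∨ (cset a b x).ncard = 8)}

theorem kset_symm {a b : G} (h : a * b = b * a) : kset a b = kset b a := by
  have e : ∀ x, cset a b x = cset b a x := fun x => by
    ext y; simp only [cset, Set.mem_setOf_eq]; tauto
  ext x
  simp only [kset, Set.mem_setOf_eq, e, h]
  tauto

theorem comm_iff {i j : ℕ} (hi : i < 192) (hj : j < 192) :
    D.el i * D.el j = D.el j * D.el i ↔ tabA.comm i j = true :=
  D.el_commute tabA_ok hi hj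

theorem ncard_cset {r x : ℕ} (hr : r < 192) (hx : x < 192) :
    (cset s (D.el r) (D.el x)).ncard = cent2 r x := by
  have e : cset s (D.el r) (D.el x) =
      {g : G | ∃ i < 192, (tabA.comm i r && tabA.comm i x) = true ∧ D.el i = g} := by
    ext g
    simp only [cset, Set.mem_setOf_eq, Bool.and_eq_true]
    constructor
    · rintro ⟨h1, h2, h3⟩
      obtain ⟨i, hi, rfl⟩ := D.mem.1 h1
      exact ⟨i, hi, ⟨(comm_iff D hi hr).1 h2, (comm_iff D hi hx).1 h3⟩, rfl⟩
    · rintro ⟨i, hi, ⟨h2, h3⟩, rfl⟩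
      exact ⟨D.el_comm_s hi, (comm_iff D hi hr).2 h2, (comm_iff D hi hx).2 h3⟩
  rw [e, D.ncard_el, cent2]

theorem ncard_cent1 {r : ℕ} (hr : r < 192) :
    {h : G | h * s = s * h ∧ h * D.el r = D.el r * h}.ncard = cent1 r := by
  have e : {h : G | h * s = s * h ∧ h * D.el r = D.el r * h} =
      {g : G | ∃ i < 192, tabA.comm i r = true ∧ D.el i = g} := by
    ext g
    simp only [Set.mem_setOf_eq]
    constructor
    · rintro ⟨h1, h2⟩
      obtain ⟨i, hi, rfl⟩ := D.mem.1 h1
      exact ⟨i, hi, (comm_iff D hi hr).1 h2, rfl⟩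
    · rintro ⟨i, hi, h2, rfl⟩
      exact ⟨D.el_comm_s hi, (comm_iff D hi hr).2 h2⟩
  rw [e, D.ncard_el, cent1]

/-- The condition of `kset` on numbers. -/
noncomputable def kTest (r x : ℕ) : Bool :=
  Nat.beq (tabA.mul x x) 0 && tabA.comm x r &&
    (Nat.beq x 0 || Nat.beq x 16 || Nat.beq x r || Nat.beq x (tabA.mul 16 r) ||
      Nat.beq (cent2 r x) 8)

theorem kTest_eq : Tab.all192 (fun r => bif Nat.beq (tabA.cls r) 2 || Nat.beq (tabA.cls r) 3 ||
    Nat.beq (tabA.cls r) 4 then Tab.all192 (fun x => kTest r x == inW (tabA.cls r) x) &&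
      Nat.beq (cent1 r) 32 else (Nat.beq r 16 || !Nat.beq (cent1 r) 32 || Nat.beq (tabA.cls r) 0)) =
    true := by
  decide +kernel

theorem six_lt {c : ℕ} (h : Six c) : 1 ≤ c ∧ c ≤ 4 := by rcases h with rfl | rfl | rfl <;> omega

theorem kset_eq {r : ℕ} (hr : r < 192) (hc : Six (tabA.cls r)) :
    kset s (D.el r) = {g : G | ∃ i < 192, inW (tabA.cls r) i = true ∧ D.el i = g} := by
  have h := Tab.all192_get kTest_eq hr
  have hb : (Nat.beq (tabA.cls r) 2 || Nat.beq (tabA.cls r) 3 || Nat.beq (tabA.cls r) 4) = true := by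
    rcases hc with h | h | h <;> simp [h]
  simp only [hb, cond_true, Bool.and_eq_true] at h
  have key : ∀ x < 192, (D.el x ∈ kset s (D.el r) ↔ inW (tabA.cls r) x = true) := by
    intro x hx
    have hk : kTest r x = inW (tabA.cls r) x := by simpa using Tab.all192_get h.1 hx
    rw [← hk]
    have h16 : (16 : ℕ) < 192 := by norm_num
    have hmul : D.el 16 * D.el r = D.el (tabA.mul 16 r) := D.el_mul h16 hr
    simp only [kset, Set.mem_setOf_eq, kTest, Bool.and_eq_true, Bool.or_eq_true]
    rw [← pow_two, D.el_sq tabA_ok hx, ncard_cset D hr hx, comm_iff D hx hr]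
    rw [show (D.el x = 1 ↔ x = 0) by rw [← D.el_zero, D.el_eq_iff hx (by norm_num)]]
    have hs16 : D.el x = s ↔ x = 16 := by
      have := D.el_eq_iff hx h16; rwa [D.el_zi] at this
    have hsr : D.el x = s * D.el r ↔ x = tabA.mul 16 r := by
      have := D.el_eq_iff hx (tabA_ok.mul_lt h16 hr); rwa [← hmul, D.el_zi] at this
    rw [hs16, D.el_eq_iff hx hr, hsr]
    have hs : D.el x * s = s * D.el x := D.el_comm_s hx
    constructor
    · rintro ⟨h1, -, h2, h3⟩
      refine ⟨⟨by rw [h1]; rfl, h2⟩, ?_⟩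
      rcases h3 with h3 | h3 | h3 | h3 | h3 <;> simp [h3]
    · rintro ⟨⟨h1, h2⟩, h3⟩
      refine ⟨Nat.eq_of_beq_eq_true h1, hs, h2, ?_⟩
      rcases h3 with (((h3 | h3) | h3) | h3) | h3 <;> simp [Nat.eq_of_beq_eq_true h3]
  ext g
  constructor
  · intro hg
    obtain ⟨x, hx, rfl⟩ := D.mem.1 hg.2.1
    exact ⟨x, hx, (key x hx).1 hg, rfl⟩
  · rintro ⟨x, hx, hw, rfl⟩
    exact (key x hx).2 hw

theorem cent1_six {r : ℕ} (hr : r < 192) (h32 : cent1 r = 32) (h0 : tabA.cls r ≠ 0)
    (h16 : r ≠ 16) : Six (tabA.cls r) := by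
  have h := Tab.all192_get kTest_eq hr
  by_contra hn
  have hb : (Nat.beq (tabA.cls r) 2 || Nat.beq (tabA.cls r) 3 || Nat.beq (tabA.cls r) 4) = false := by
    simp only [Six, not_or] at hn
    rw [beq_false hn.1, beq_false hn.2.1, beq_false hn.2.2]; rfl
  simp [hb, h32, h0, h16] at h

theorem cent1_eq {r : ℕ} (hr : r < 192) (hc : Six (tabA.cls r)) : cent1 r = 32 := by
  have h := Tab.all192_get kTest_eq hr
  have hb : (Nat.beq (tabA.cls r) 2 || Nat.beq (tabA.cls r) 3 || Nat.beq (tabA.cls r) 4) = true := by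
    rcases hc with h | h | h <;> simp [h]
  simp only [hb, cond_true, Bool.and_eq_true] at h
  exact Nat.eq_of_beq_eq_true h.2

end Alt

end CfsgLib.Recog.QSThree
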