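import Cfsg.Agent.Lib.Recog.QSThree.AltCentV
import Cfsg.Agent.Lib.Invol.BrauerSuzuki
import Cfsg.Agent.Lib.Perm.AbelianZStar

/-!
# Type A8: the centraliser of the second involution normalises the four-group
-/

set_option autoImplicit false
set_option maxRecDepth 100000

namespace CfsgLib.Recog.QSThree.Alt

open CfsgLib.InvChar.Coset CfsgLib.Invol CfsgLib.InvChar Equiv

universe u

variable {G : Type u} [Group G] {s : G} {D : Data tabA s}

namespace Emb

variable (E : Emb D)

/-- The centraliser of the second involution. -/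
def CT : Subgroup G := Subgroup.centralizer {E.α eT}

theorem mem_CT {g : G} : g ∈ E.CT ↔ g * E.α eT = E.α eT * g := by
  rw [CT, Subgroup.mem_centralizer_singleton_iff]

theorem map_mem_CT {a : alternatingGroup (Fin 8)} (h : a * eT = eT * a) : E.α a ∈ E.CT :=
  (mem_CT E).2 (by rw [← map_mul, ← map_mul, h])

theorem el_CT {i : ℕ} (hi : i < 192) : D.el i ∈ E.CT ↔ tabA.comm i 7 = true := by
  rw [mem_CT, E.map_T, D.el_commute tabA_ok hi (by norm_num)]

include E in
/-- The odd core of the centraliser is trivial. -/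
theorem oddCore_CT [Finite G] : Cfsg.oddCore E.CT = ⊥ := by
  have hodd := odd_card_oddCore E.CT
  have hn : (Cfsg.oddCore E.CT).Normal := CfsgLib.Solvable.pPrimeCore_normal 2 _
  rw [eq_bot_iff]
  intro y hy
  have hsT : eS * eT = eT * eS := named_facts.2.2.2.2.2.2.2.2.2.2.2.2.1
  let S : E.CT := ⟨E.α eS, E.map_mem_CT hsT⟩
  have hfix : ∀ v : Cfsg.oddCore E.CT, (MulAut.conjNormal S : MulAut _) v = v → v = 1 := by
    intro v hv
    have hvs : ((v : E.CT) : G) * s = s * ((v : E.CT) : G) := by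
      have := congrArg (fun z : Cfsg.oddCore E.CT => ((z : E.CT) : G)) hv
      simp only [MulAut.conjNormal_apply, Subgroup.coe_mul, InvMemClass.coe_inv, S, E.map_S] at this
      exact (mul_inv_eq_iff_eq_mul.1 this).symm
    obtain ⟨i, hi, he⟩ := D.mem.1 hvs
    have hc : tabA.comm i 7 = true := (el_CT E hi).1 (he ▸ (v : E.CT).2)
    have h8 := Tab.all192_get num_facts.1 hi
    simp only [hc, Bool.not_true, Bool.false_or] at h8
    have e8 : ((v : E.CT) : G) ^ 8 = 1 := by
      have h2 := tabA_ok.mul_lt hi hi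
      rw [← he, show (8 : ℕ) = 2 * 2 * 2 from rfl, pow_mul, pow_mul, pow_two, pow_two, pow_two,
        D.el_mul hi hi, D.el_mul h2 h2, D.el_mul (tabA_ok.mul_lt h2 h2) (tabA_ok.mul_lt h2 h2)]
      rw [← D.el_zero]
      exact congrArg D.el (Nat.eq_of_beq_eq_true h8)
    have hord : orderOf v ∣ 8 := orderOf_dvd_of_pow_eq_one (by
      exact Subtype.ext (Subtype.ext (by simpa using e8)))
    have hov : Odd (orderOf v) := hodd.of_dvd_nat (orderOf_dvd_natCard _)
    rw [← orderOf_eq_one_iff]
    exact Nat.eq_one_of_dvd_coprimes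
      (Nat.Coprime.pow_right 3 (Nat.coprime_two_right.2 hov)) dvd_rfl hord
  have hinv : ∀ v : Cfsg.oddCore E.CT, (MulAut.conjNormal S : MulAut _) v = v⁻¹ := by
    intro v
    refine congrFun (MonoidHom.FixedPointFree.coe_eq_inv_of_involutive
      (φ := (MulAut.conjNormal S : MulAut (Cfsg.oddCore E.CT))) (fun v hv => hfix v hv)
      (fun v => ?_)) v
    apply Subtype.ext
    apply Subtype.ext
    simp only [MulAut.conjNormal_apply, Subgroup.coe_mul, InvMemClass.coe_inv, S]
    have h2 : E.α eS * E.α eS = 1 := by rw [← map_mul, named_facts.2.2.2.2.1, map_one]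
    rw [inv_eq_of_mul_eq_one_right h2]
    calc E.α eS * (E.α eS * ((v : E.CT) : G) * E.α eS) * E.α eS
        = E.α eS * E.α eS * ((v : E.CT) : G) * (E.α eS * E.α eS) := by group
      _ = _ := by rw [h2, one_mul, mul_one]
  have inverts : ∀ a : alternatingGroup (Fin 8), a * eT = eT * a → ∀ z ∈ Cfsg.oddCore E.CT,
      E.α (a * eS * a⁻¹) * (z : G) * (E.α (a * eS * a⁻¹))⁻¹ = ((z : G))⁻¹ := by
    intro a ha z hz
    let A : E.CT := ⟨E.α a, E.map_mem_CT ha⟩
    have := congrArg (fun z : Cfsg.oddCore E.CT => ((z : E.CT) : G))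
      (hinv ⟨A⁻¹ * z * A, by simpa using hn.conj_mem z hz A⁻¹⟩)
    simp only [MulAut.conjNormal_apply, Subgroup.coe_mul, InvMemClass.coe_inv, S, A] at this
    calc E.α (a * eS * a⁻¹) * (z : G) * (E.α (a * eS * a⁻¹))⁻¹
        = E.α a * (E.α eS * ((E.α a)⁻¹ * (z : G) * E.α a) * (E.α eS)⁻¹) * (E.α a)⁻¹ := by
          simp only [map_mul, map_inv]; group
      _ = _ := by rw [this]; group
  have hCT : eC * eT = eT * eC := named_facts.2.2.2.2.2.2.2.2.2.2.2.2.2.2.2.2.2.2.1
  have e1 := inverts eC hCT y hy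
  have e2 := inverts (eC * eC) (by rw [mul_assoc, hCT, ← mul_assoc, hCT, mul_assoc]) y hy
  have e0 := inverts 1 (by simp) y hy
  simp only [one_mul, inv_one, mul_one] at e0
  have hW : E.α (eC * eS * eC⁻¹) * E.α (eC * eC * eS * (eC * eC)⁻¹) = E.α eW := by
    rw [← map_mul]
    refine congrArg _ ?_
    decide +kernel
  have hyW : E.α eW * (y : G) = (y : G) * E.α eW := by
    refine mul_inv_eq_iff_eq_mul.1 ?_
    rw [← hW, mul_inv_rev]
    calc _ = E.α (eC * eS * eC⁻¹) * (E.α (eC * eC * eS * (eC * eC)⁻¹) * (y : G) *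
          (E.α (eC * eC * eS * (eC * eC)⁻¹))⁻¹) * (E.α (eC * eS * eC⁻¹))⁻¹ := by group
      _ = (E.α (eC * eS * eC⁻¹) * (y : G) * (E.α (eC * eS * eC⁻¹))⁻¹)⁻¹ := by rw [e2]; group
      _ = _ := by rw [e1, inv_inv]
  have hyT := (mem_CT E).1 y.2
  have hyS : E.α eS * (y : G) * (E.α eS)⁻¹ = (y : G) := by
    rw [show E.α eS = E.α eT * E.α eW by rw [← map_mul]; rfl, mul_assoc _ (E.α eW) (y : G), hyW,
      ← mul_assoc, ← hyT]
    group
  rw [hyS] at e0
  have hy2 : (⟨y, hy⟩ : Cfsg.oddCore E.CT) ^ 2 = 1 := by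
    refine Subtype.ext (Subtype.ext ?_)
    simp only [pow_two, Subgroup.coe_mul, OneMemClass.coe_one]
    nth_rw 1 [e0]
    exact inv_mul_cancel _
  have hov : Odd (orderOf (⟨y, hy⟩ : Cfsg.oddCore E.CT)) :=
    hodd.of_dvd_nat (orderOf_dvd_natCard _)
  have h1 : orderOf (⟨y, hy⟩ : Cfsg.oddCore E.CT) = 1 :=
    Nat.eq_one_of_dvd_coprimes (Nat.coprime_two_right.2 hov) dvd_rfl
      (orderOf_dvd_of_pow_eq_one hy2)
  simpa using congrArg Subtype.val (orderOf_eq_one_iff.1 h1)

/-- The two-group `C(s) ∩ C(t)`. -/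
def P0 : Subgroup E.CT := (Subgroup.centralizer {s}).subgroupOf E.CT

theorem mem_P0 {g : E.CT} : g ∈ E.P0 ↔ ∃ i < 192, tabA.comm i 7 = true ∧ D.el i = (g : G) := by
  rw [P0, Subgroup.mem_subgroupOf, Subgroup.mem_centralizer_singleton_iff, D.mem]
  exact ⟨fun ⟨i, hi, e⟩ => ⟨i, hi, (el_CT E hi).1 (e ▸ g.2), e⟩,
    fun ⟨i, hi, _, e⟩ => ⟨i, hi, e⟩⟩

theorem isPGroup_P0 : IsPGroup 2 E.P0 := by
  rintro ⟨g, hg⟩
  obtain ⟨i, hi, hc, he⟩ := (mem_P0 E).1 hg
  refine ⟨3, Subtype.ext (Subtype.ext ?_)⟩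
  have h8 := Tab.all192_get num_facts.1 hi
  simp only [hc, Bool.not_true, Bool.false_or] at h8
  have h2 := tabA_ok.mul_lt hi hi
  simp only [SubmonoidClass.coe_pow, OneMemClass.coe_one, ← he]
  rw [show (2 : ℕ) ^ 3 = 2 * 2 * 2 from rfl, pow_mul, pow_mul, pow_two, pow_two, pow_two,
    D.el_mul hi hi, D.el_mul h2 h2, D.el_mul (tabA_ok.mul_lt h2 h2) (tabA_ok.mul_lt h2 h2),
    ← D.el_zero]
  exact congrArg D.el (Nat.eq_of_beq_eq_true h8)

include E in
theorem normalizer_P0 {n : E.CT} (hn : n ∈ Subgroup.normalizer (E.P0 : Set E.CT)) : n ∈ E.P0 := by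
  have hsT : eS * eT = eT * eS := named_facts.2.2.2.2.2.2.2.2.2.2.2.2.1
  let S : E.CT := ⟨E.α eS, E.map_mem_CT hsT⟩
  have hS : (S : G) = s := E.map_S
  have hSP : S ∈ E.P0 := by
    rw [P0, Subgroup.mem_subgroupOf, Subgroup.mem_centralizer_singleton_iff, hS]
  have hcentral : ∀ z ∈ E.P0, (z : G) * s = s * z := fun z hz => by
    rw [P0, Subgroup.mem_subgroupOf, Subgroup.mem_centralizer_singleton_iff] at hz
    exact hz
  have hx : n * S * n⁻¹ ∈ E.P0 := (Subgroup.mem_normalizer_iff.1 hn S).1 hSP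
  obtain ⟨i, hi, hc, he⟩ := (mem_P0 E).1 hx
  have hxc : ∀ j < 192, tabA.comm j 7 = true → D.el i * D.el j = D.el j * D.el i := by
    intro j hj hjc
    let z : E.CT := ⟨D.el j, (el_CT E hj).2 hjc⟩
    have hz : z ∈ E.P0 := (mem_P0 E).2 ⟨j, hj, hjc, rfl⟩
    have hz' : n⁻¹ * z * n ∈ E.P0 :=
      (Subgroup.mem_normalizer_iff.1 hn _).2 (by
        rw [show n * (n⁻¹ * z * n) * n⁻¹ = z by group]; exact hz)
    have e := hcentral _ hz'
    simp only [Subgroup.coe_mul, InvMemClass.coe_inv, z] at e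
    rw [he]
    simp only [Subgroup.coe_mul, InvMemClass.coe_inv, hS]
    calc (n : G) * s * (n : G)⁻¹ * D.el j
        = (n : G) * (s * ((n : G)⁻¹ * D.el j * (n : G))) * (n : G)⁻¹ := by group
      _ = (n : G) * ((n : G)⁻¹ * D.el j * (n : G) * s) * (n : G)⁻¹ := by rw [e]
      _ = _ := by group
  have hconj : IsConj s (D.el i) := isConj_iff.2 ⟨n, by rw [he]; simp [hS]⟩
  have hf := Tab.all192_get num_facts.2.2.1 hi
  have hall : Tab.all192 (fun j => !tabA.comm j 7 || tabA.comm i j) = true := by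
    refine List.all_eq_true.2 fun j hj => ?_
    have hj' := List.mem_range.1 hj
    cases hjc : tabA.comm j 7 with
    | false => rfl
    | true => simpa using (D.el_commute tabA_ok hi hj').1 (hxc j hj' hjc)
  simp only [hc, hall, Bool.not_true, Bool.false_or, Bool.or_false, List.any_cons, List.any_nil,
    Bool.or_eq_true] at hf
  have h16 : i = 16 := by
    rcases hf with h | h | h | h <;> have h := Nat.eq_of_beq_eq_true h
    · subst h
      rw [D.el_zero] at hconj
      obtain ⟨g, hg⟩ := isConj_iff.1 hconj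
      have := orderOf_conj_eq g s
      rw [hg, orderOf_one, E.hs] at this
      omega
    · subst h
      exact absurd hconj (E.map_T ▸ E.not_fus_T)
    · exact h
    · subst h
      exact absurd hconj (E.map_W ▸ E.not_conj_of_four eW named_facts.2.2.1
        (four_facts.2.1 eW (by simp)).2.1)
  rw [P0, Subgroup.mem_subgroupOf, Subgroup.mem_centralizer_singleton_iff]
  rw [h16, D.el_zi] at he
  simp only [Subgroup.coe_mul, InvMemClass.coe_inv, hS] at he
  exact (mul_inv_eq_iff_eq_mul.1 he.symm)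

include E in
theorem exists_conj_P0 [Finite G] (R : Subgroup E.CT) (hR : IsPGroup 2 R) :
    ∃ g : E.CT, ∀ x ∈ R, g * x * g⁻¹ ∈ E.P0 := by
  haveI : Fact (Nat.Prime 2) := ⟨Nat.prime_two⟩
  obtain ⟨T, hT⟩ := (isPGroup_P0 E).exists_le_sylow
  have hTP : (T : Subgroup E.CT) = E.P0 := by
    by_contra hne
    have hlt : E.P0.subgroupOf (T : Subgroup E.CT) < ⊤ := by
      refine lt_top_iff_ne_top.2 fun e => hne (le_antisymm ?_ hT)
      rwa [Subgroup.subgroupOf_eq_top] at e
    haveI := T.2.isNilpotent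
    have hN := Group.normalizerCondition_of_isNilpotent
      (E.P0.subgroupOf (T : Subgroup E.CT)) hlt
    obtain ⟨x, hx, hx'⟩ := SetLike.exists_of_lt hN
    refine hx' (Subgroup.mem_subgroupOf.2 (E.normalizer_P0 (Subgroup.mem_normalizer_iff.2 fun z => ?_)))
    rw [Subgroup.mem_normalizer_iff] at hx
    constructor
    · intro hz
      exact (hx ⟨z, hT hz⟩).1 hz
    · intro hz
      have hzT : z ∈ (T : Subgroup E.CT) := by
        have h1 := mul_mem (mul_mem (inv_mem x.2) (hT hz)) x.2
        rwa [show (x : E.CT)⁻¹ * ((x : E.CT) * z * (x : E.CT)⁻¹) * (x : E.CT) = z by group] at h1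
      exact (hx ⟨z, hzT⟩).2 hz
  obtain ⟨T', hT'⟩ := hR.exists_le_sylow
  obtain ⟨g, hg⟩ := MulAction.exists_smul_eq E.CT T' T
  refine ⟨g, fun x hx => ?_⟩
  rw [← hTP, ← hg]
  exact ⟨x, hT' hx, rfl⟩

include E in
/-- The second involution of the four-group is not conjugate to the one across. -/
theorem not_conj_R [Finite G] (g : E.CT) : (g : G) * E.α eR * (g : G)⁻¹ ≠ E.α eP := by
  intro he
  obtain ⟨-, -, -, -, -, -, -, -, -, -, -, -, -, -, -, hUT, hUR, hUS, -⟩ := named_facts
  have hg := (mem_CT E).1 g.2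
  set r := (g : G) * E.α eU * (g : G)⁻¹ with hr
  have hconjT : (g : G) * E.α eT * (g : G)⁻¹ = E.α eT := by rw [hg, mul_inv_cancel_right]
  have hrC : r ∈ E.CV := by
    refine (mem_CV E).2 ⟨?_, ?_⟩
    · rw [← hconjT, hr, conj_mul, conj_mul, ← map_mul, ← map_mul, hUT]
    · rw [← he, hr, conj_mul, conj_mul, ← map_mul, ← map_mul, hUR]
  have hr2 : r * r = 1 := by
    rw [hr, conj_mul, ← map_mul]
    have : eU * eU = 1 := by decide +kernel
    rw [this, map_one, mul_one, mul_inv_cancel]
  have hback : ∀ a, (g : G) * E.α a * (g : G)⁻¹ = r → a = eU := fun a h =>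
    E.inj (mul_left_cancel (mul_right_cancel h))
  have hV : ∀ v ∈ [1, eT, eP, eT * eP], r ≠ E.α v := by
    intro v hv e
    have hf : eU ∉ [1, eT, eR, eT * eR] := by decide +kernel
    refine hf ?_
    simp only [List.mem_cons, List.not_mem_nil, or_false] at hv ⊢
    rcases hv with rfl | rfl | rfl | rfl
    · exact Or.inl (hback 1 (by rw [map_one, mul_one, mul_inv_cancel, e, map_one])).symm
    · exact Or.inr (Or.inl (hback eT (by rw [hconjT, e])).symm)
    · exact Or.inr (Or.inr (Or.inl (hback eR (by rw [he, e])).symm))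
    · exact Or.inr (Or.inr (Or.inr (hback (eT * eR) (by
        rw [map_mul, ← conj_mul, hconjT, he, e, map_mul])).symm))
  rcases E.coset_two hrC hr2 hV with h | h
  · refine E.not_conj_of_four eU (by decide +kernel) (by decide +kernel) (h.trans ?_)
    exact isConj_iff.2 ⟨(g : G)⁻¹, by rw [hr]; group⟩
  · refine E.not_conj_of_four (eU * eT) (by decide +kernel) (by decide +kernel) (h.trans ?_)
    refine isConj_iff.2 ⟨(g : G)⁻¹, ?_⟩
    rw [← hconjT, hr, conj_mul, map_mul]
    group

include E in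
/-- The conjugates of the four-group's involution inside `C(s) ∩ C(t)`. -/
theorem conj_in_P0 [Finite G] (g : E.CT) {i : ℕ} (hi : i < 192) (hc : tabA.comm i 7 = true)
    (he : D.el i = (g : G) * E.α eP * (g : G)⁻¹) :
    (g : G) * E.α eP * (g : G)⁻¹ = E.α eP ∨ (g : G) * E.α eP * (g : G)⁻¹ = E.α (eP * eT) := by
  obtain ⟨hT2, hP2, -, hW2, -, hR2, hTP, -, -, -, -, hPW, -, -, hRT, -, -, -, -, -, -, -, -, hRP, -⟩ :=
    named_facts
  have hg := (mem_CT E).1 g.2
  have hconjT : (g : G) * E.α eT * (g : G)⁻¹ = E.α eT := by rw [hg, mul_inv_cancel_right]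
  have ht2 : tType i = true ∧ tType (tabA.mul i 7) = true := by
    have hi7 := tabA_ok.mul_lt hi (show 7 < 192 by norm_num)
    have he7 : D.el (tabA.mul i 7) = (g : G) * E.α (eP * eT) * (g : G)⁻¹ := by
      rw [← D.el_mul hi (by norm_num), he, ← E.map_T, map_mul, ← conj_mul, hconjT]
    have key : ∀ j < 192, ∀ a : alternatingGroup (Fin 8), a * a = 1 →
        (a : Perm (Fin 8)).support.card = 4 → D.el j = (g : G) * E.α a * (g : G)⁻¹ →
        tType j = true := by
      intro j hj a ha hca hje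
      have hne : a ≠ 1 := fun e => by rw [e] at hca; simp at hca
      refine E.tType_of hj (fun e => ?_) ?_ (fun h => E.not_conj_of_four a ha hca
        (h.trans (isConj_iff.2 ⟨(g : G)⁻¹, by rw [hje]; group⟩)))
      · rw [e, D.el_zero] at hje
        refine hne (E.inj ?_)
        rw [map_one]
        exact conj_eq_one_iff.1 hje.symm
      · refine (D.el_sq tabA_ok hj).1 ?_
        rw [pow_two, hje, conj_mul, ← map_mul, ha, map_one, mul_one, mul_inv_cancel]
    exact ⟨key i hi eP hP2 (by decide +kernel) he,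
      key _ hi7 (eP * eT) (by decide +kernel) (by decide +kernel) he7⟩
  have h := Tab.all192_get num_facts.2.1 hi
  simp only [hc, ht2.1, ht2.2, Bool.and_self, Bool.not_true, Bool.false_or, List.any_cons,
    List.any_nil, Bool.or_false, Bool.or_eq_true] at h
  obtain ⟨-, -, -, -, -, -, e176, e25, e14⟩ := num_facts
  -- conjugates of `R` are excluded
  have noR : ∀ k : E.CT, D.el i ≠ (k : G) * E.α eR * (k : G)⁻¹ := fun k hk =>
    E.not_conj_R (g⁻¹ * k) (by
      rw [he] at hk
      simp only [Subgroup.coe_mul, InvMemClass.coe_inv]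
      calc (g : G)⁻¹ * (k : G) * E.α eR * ((g : G)⁻¹ * (k : G))⁻¹
          = (g : G)⁻¹ * ((k : G) * E.α eR * (k : G)⁻¹) * (g : G) := by group
        _ = E.α eP := by rw [← hk]; group)
  have noRT : ∀ k : E.CT, D.el i ≠ (k : G) * E.α (eR * eT) * (k : G)⁻¹ := fun k hk => by
    have hkT : (k : G) * E.α eT * (k : G)⁻¹ = E.α eT := by
      rw [(mem_CT E).1 k.2, mul_inv_cancel_right]
    refine E.not_conj_R (⟨E.α eR, E.map_mem_CT hRT⟩ * (g⁻¹ * k)) ?_
    rw [he, map_mul, ← conj_mul, hkT] at hk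
    have e : (g : G)⁻¹ * (k : G) * E.α eR * ((g : G)⁻¹ * (k : G))⁻¹ = E.α eP * E.α eT := by
      have h' : (k : G) * E.α eR * (k : G)⁻¹ = (g : G) * E.α eP * (g : G)⁻¹ * E.α eT := by
        rw [hk, mul_assoc _ (E.α eT) (E.α eT), ← map_mul, hT2, map_one, mul_one]
      calc (g : G)⁻¹ * (k : G) * E.α eR * ((g : G)⁻¹ * (k : G))⁻¹
          = (g : G)⁻¹ * ((k : G) * E.α eR * (k : G)⁻¹) * (g : G) := by group
        _ = E.α eP * ((g : G)⁻¹ * (E.α eT * (g : G))) := by rw [h']; group
        _ = E.α eP * E.α eT := by rw [← hg, inv_mul_cancel_left]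
    simp only [Subgroup.coe_mul, InvMemClass.coe_inv]
    calc E.α eR * ((g : G)⁻¹ * (k : G)) * E.α eR * (E.α eR * ((g : G)⁻¹ * (k : G)))⁻¹
        = E.α eR * ((g : G)⁻¹ * (k : G) * E.α eR * ((g : G)⁻¹ * (k : G))⁻¹) * (E.α eR)⁻¹ := by
          group
      _ = E.α (eR * (eP * eT) * eR⁻¹) := by rw [e]; simp only [map_mul, map_inv]
      _ = E.α eP := by
        refine congrArg _ ?_
        decide +kernel
  have hU : eW' * eR * eW'⁻¹ = eU := by decide +kernel
  have hU' : eW' * (eR * eT) * eW'⁻¹ = eU * eT := by decide +kernel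
  have hW'T : eW' * eT = eT * eW' := by decide +kernel
  rcases h with h | h | h | h | h | h | h <;> have h := Nat.eq_of_beq_eq_true h
  · exfalso
    rw [h, ← E.map_T] at he
    have : E.α eT = E.α eP := by
      have e : (g : G) * E.α eT * (g : G)⁻¹ = (g : G) * E.α eP * (g : G)⁻¹ := by rw [hconjT, ← he]
      exact mul_left_cancel (mul_right_cancel e)
    exact absurd (E.inj this) (by decide +kernel)
  · exact Or.inl (by rw [← he, h, E.map_P])
  · exact Or.inr (by rw [← he, h, ← e176, ← D.el_mul (by norm_num) (by norm_num), ← E.map_P,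
      ← E.map_T, map_mul])
  · exact absurd (by rw [h, ← E.map_R]; simp) (noR 1)
  · exact absurd (by
      rw [h, ← e25, ← D.el_mul (by norm_num) (by norm_num), ← E.map_R, ← E.map_T]; simp) (noRT 1)
  · exact absurd (by rw [h, ← E.map_U, ← hU]; simp [mul_assoc])
      (noR ⟨E.α eW', E.map_mem_CT hW'T⟩)
  · exact absurd (by
      rw [h, ← e14, ← D.el_mul (by norm_num) (by norm_num), ← E.map_U, ← E.map_T, ← map_mul, ← hU']
      simp [mul_assoc]) (noRT ⟨E.α eW', E.map_mem_CT hW'T⟩)

/-- The subgroup generated by `t` in its centraliser. -/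
def NT : Subgroup E.CT := Subgroup.zpowers ⟨E.α eT, E.map_mem_CT rfl⟩

theorem NT_le_center : E.NT ≤ Subgroup.center E.CT := by
  rw [NT, Subgroup.zpowers_le, Subgroup.mem_center_iff]
  exact fun g => Subtype.ext ((mem_CT E).1 g.2)

instance normal_NT : (E.NT).Normal :=
  ⟨fun n hn g => by
    rw [Subgroup.mem_center_iff.1 (NT_le_center E hn) g, mul_inv_cancel_right]; exact hn⟩

theorem card_NT [Finite G] : Nat.card E.NT = 2 := by
  rw [NT, Nat.card_zpowers, ← Subgroup.orderOf_coe]
  exact E.orderOf_T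

theorem mem_NT {x : E.CT} : x ∈ E.NT ↔ (x : G) = 1 ∨ (x : G) = E.α eT := by
  constructor
  · intro hx
    obtain ⟨k, rfl⟩ := Subgroup.mem_zpowers_iff.1 hx
    have h2 : E.α eT * E.α eT = 1 := by rw [← map_mul, named_facts.1, map_one]
    simp only [SubgroupClass.coe_zpow]
    rcases Int.even_or_odd k with ⟨l, rfl⟩ | ⟨l, rfl⟩
    · left; rw [← two_mul, zpow_mul, zpow_two, h2, one_zpow]
    · right; rw [zpow_add_one, zpow_mul, zpow_two, h2, one_zpow, one_mul]
  · rintro (h | h)
    · rw [show x = 1 from Subtype.ext h]; exact one_mem _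
    · rw [show x = ⟨E.α eT, E.map_mem_CT rfl⟩ from Subtype.ext h]; exact Subgroup.mem_zpowers _

include E in
/-- The centraliser of the second involution normalises the four-group. -/
theorem conj_P [Finite G] {g : G} (hg : g * E.α eT = E.α eT * g) :
    g * E.α eP * g⁻¹ = E.α eP ∨ g * E.α eP * g⁻¹ = E.α (eP * eT) := by
  haveI : Fact (Nat.Prime 2) := ⟨Nat.prime_two⟩
  obtain ⟨hT2, hP2, -, -, -, -, hTP, -⟩ := named_facts
  let T0 : E.CT := ⟨E.α eT, E.map_mem_CT rfl⟩
  let P : E.CT := ⟨E.α eP, E.map_mem_CT hTP.symm⟩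
  have hPP : P * P = 1 := Subtype.ext (by
    rw [Subgroup.coe_mul, ← map_mul, hP2, map_one]; rfl)
  let pb : E.CT ⧸ E.NT := QuotientGroup.mk P
  have hpb : pb ≠ 1 := fun e => by
    rcases (mem_NT E).1 ((QuotientGroup.eq_one_iff _).1 e) with h | h
    · exact absurd (E.inj (h.trans (map_one _).symm)) (by decide +kernel)
    · exact absurd (E.inj h) (by decide +kernel)
  have hiso : Cfsg.IsIsolatedInvolution pb := by
    refine ⟨invol_of_mul_self (by rw [← QuotientGroup.mk_mul, hPP]; rfl) hpb, fun k hk => ?_⟩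
    obtain ⟨k, rfl⟩ := QuotientGroup.mk_surjective k
    set q := k * P * k⁻¹ with hq
    have hqq : q * q = 1 := by rw [hq, conj_mul, hPP, mul_one, mul_inv_cancel]
    -- the two-group spanned by `t`, `p` and `q`
    let X : Subgroup E.CT := (Subgroup.closure {T0, P}) ⊔ Subgroup.zpowers q
    have hcomm' : P * q * (q * P)⁻¹ ∈ E.NT := by
      rw [← QuotientGroup.eq_one_iff, QuotientGroup.mk_mul, QuotientGroup.mk_inv,
        mul_inv_eq_one, QuotientGroup.mk_mul, QuotientGroup.mk_mul]
      exact hk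
    have hXp : IsPGroup 2 X := by
      have h2 : ∀ {x : E.CT}, x * x = 1 → IsPGroup 2 (Subgroup.zpowers x) := fun {x} hx => by
        have : orderOf x ∣ 2 := orderOf_dvd_of_pow_eq_one (by rw [pow_two, hx])
        rcases (Nat.dvd_prime Nat.prime_two).1 this with e | e
        · exact IsPGroup.of_card (n := 0) (by rw [Nat.card_zpowers, e, pow_zero])
        · exact IsPGroup.of_card (n := 1) (by rw [Nat.card_zpowers, e, pow_one])
      have hT0 : ∀ x : E.CT, x * T0 = T0 * x := fun x => Subtype.ext ((mem_CT E).1 x.2)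
      have hT02 : T0 * T0 = 1 := Subtype.ext (by
        rw [Subgroup.coe_mul, ← map_mul, hT2, map_one]; rfl)
      let F := fourSub T0 P hT02 hPP (hT0 P).symm
      have hF : Subgroup.closure {T0, P} = F := by
        refine le_antisymm ((Subgroup.closure_le _).2 ?_) fun x hx => ?_
        · rintro x (rfl | rfl)
          · exact mem_fourSub.2 (Or.inr (Or.inl rfl))
          · exact mem_fourSub.2 (Or.inr (Or.inr (Or.inl rfl)))
        · rcases mem_fourSub.1 hx with rfl | rfl | rfl | rfl
          · exact one_mem _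
          · exact Subgroup.subset_closure (by simp)
          · exact Subgroup.subset_closure (by simp)
          · exact mul_mem (Subgroup.subset_closure (by simp)) (Subgroup.subset_closure (by simp))
      have hFp : IsPGroup 2 F := fun x => by
        refine ⟨1, Subtype.ext ?_⟩
        simp only [pow_one, SubmonoidClass.coe_pow, OneMemClass.coe_one, pow_two,
          Subgroup.coe_mul]
        rcases mem_fourSub.1 x.2 with e | e | e | e <;> rw [e]
        · rw [mul_one]
        · exact hT02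
        · exact hPP
        · calc T0 * P * (T0 * P) = T0 * (P * T0) * P := by group
            _ = (T0 * T0) * (P * P) := by rw [hT0 P]; group
            _ = 1 := by rw [hT02, hPP, mul_one]
      show IsPGroup 2 ↥(Subgroup.closure {T0, P} ⊔ Subgroup.zpowers q)
      rw [hF, sup_comm]
      refine IsPGroup.to_sup_of_normal_right' (h2 hqq) hFp ?_
      rw [Subgroup.zpowers_le, Subgroup.mem_normalizer_iff]
      have hfour : ∀ x ∈ F, q * x * q⁻¹ ∈ F := by
        have hqP : q * P * q⁻¹ = P ∨ q * P * q⁻¹ = T0 * P := by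
          have hqi : q⁻¹ = q := inv_eq_of_mul_eq_one_right hqq
          have hPi : P⁻¹ = P := inv_eq_of_mul_eq_one_right hPP
          rcases (mem_NT E).1 hcomm' with h | h
          · left
            have h' : P * q * (q * P)⁻¹ = 1 := Subtype.ext h
            rw [mul_inv_eq_one] at h'
            rw [← h', mul_inv_cancel_right]
          · right
            have h' : P * q * (q * P)⁻¹ = T0 := Subtype.ext h
            rw [mul_inv_eq_iff_eq_mul] at h'
            calc q * P * q⁻¹ = T0 * (T0 * (q * P)) * q⁻¹ := by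
                  rw [← mul_assoc T0 T0, hT02, one_mul]
              _ = T0 * P := by rw [← h', mul_assoc, mul_inv_cancel_right]
        have hqT : q * T0 * q⁻¹ = T0 := by rw [hT0 q, mul_inv_cancel_right]
        intro x hx
        rcases mem_fourSub.1 hx with rfl | rfl | rfl | rfl
        · simp
        · rw [hqT]; exact hx
        · rcases hqP with e | e <;> rw [e]
          · exact hx
          · exact mem_fourSub.2 (Or.inr (Or.inr (Or.inr rfl)))
        · rw [← conj_mul, hqT]
          rcases hqP with e | e <;> rw [e]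
          · exact hx
          · rw [← mul_assoc, hT02, one_mul]
            exact mem_fourSub.2 (Or.inr (Or.inr (Or.inl rfl)))
      refine fun x => ⟨hfour x, fun hx => ?_⟩
      have := hfour _ hx
      rwa [show q * (q * x * q⁻¹) * q⁻¹ = (q * q) * x * (q * q)⁻¹ by group, hqq, one_mul, inv_one,
        mul_one] at this
    obtain ⟨g0, hg0⟩ := E.exists_conj_P0 X hXp
    obtain ⟨i, hi, hic, hie⟩ := (mem_P0 E).1 (hg0 P (Subgroup.mem_sup_left
      (Subgroup.subset_closure (by simp))))
    obtain ⟨j, hj, hjc, hje⟩ := (mem_P0 E).1 (hg0 q (Subgroup.mem_sup_right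
      (Subgroup.mem_zpowers _)))
    simp only [Subgroup.coe_mul, InvMemClass.coe_inv] at hie hje
    have h1 := E.conj_in_P0 g0 hi hic hie
    have h2 := E.conj_in_P0 (g0 * k) hj hjc (by
      rw [hje, hq]; simp only [Subgroup.coe_mul, InvMemClass.coe_inv]; group
      rfl)
    have hq' : ((g0 * k : E.CT) : G) * E.α eP * ((g0 * k : E.CT) : G)⁻¹
        = (g0 : G) * (q : G) * (g0 : G)⁻¹ := by
      rw [hq]; simp only [Subgroup.coe_mul, InvMemClass.coe_inv, P]; group
    rw [hq'] at h2
    have hg0T := (mem_CT E).1 g0.2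
    have hqe : (q : G) = E.α eP ∨ (q : G) = E.α (eP * eT) := by
      have hPTT : E.α eP * E.α eT * E.α eT = E.α eP := by
        rw [mul_assoc, ← map_mul, hT2, map_one, mul_one]
      rcases h1 with h1 | h1 <;> rcases h2 with h2 | h2
      · left; exact mul_left_cancel (mul_right_cancel (h2.trans h1.symm))
      · right
        refine mul_left_cancel (mul_right_cancel (b := (g0 : G)⁻¹) (h2.trans ?_))
        rw [map_mul, ← conj_mul, h1, hg0T, mul_inv_cancel_right]
      · right
        refine mul_left_cancel (mul_right_cancel (b := (g0 : G)⁻¹) (h2.trans ?_))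
        rw [map_mul, ← conj_mul, h1, hg0T, mul_inv_cancel_right, map_mul, hPTT]
      · left; exact mul_left_cancel (mul_right_cancel (h2.trans h1.symm))
    show QuotientGroup.mk q = QuotientGroup.mk P
    rw [QuotientGroup.eq, mem_NT]
    simp only [Subgroup.coe_mul, InvMemClass.coe_inv, P]
    rcases hqe with e | e <;> rw [e]
    · exact Or.inl (inv_mul_cancel _)
    · refine Or.inr ?_
      rw [← map_inv, ← map_mul]
      refine congrArg _ ?_
      decide +kernel
  have hz := zstar _ hiso (QuotientGroup.mk ⟨g, (mem_CT E).2 hg⟩)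
  rw [CfsgLib.Perm.AbelianZStar.oddCore_quotient_eq_bot (E.oddCore_CT) E.NT (NT_le_center E)
    (card_NT E), Subgroup.mem_bot, ← QuotientGroup.mk_inv, ← QuotientGroup.mk_inv,
    ← QuotientGroup.mk_mul, ← QuotientGroup.mk_mul, ← QuotientGroup.mk_mul,
    QuotientGroup.eq_one_iff, mem_NT] at hz
  simp only [Subgroup.coe_mul, InvMemClass.coe_inv, P] at hz
  have hPi : (E.α eP)⁻¹ = E.α eP := inv_eq_of_mul_eq_one_right (by rw [← map_mul, hP2, map_one])
  rcases hz with e | e
  · left
    rw [mul_inv_eq_one, mul_inv_eq_iff_eq_mul] at e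
    rw [← e, mul_inv_cancel_right]
  · right
    have h' : E.α eP * (g * E.α eP * g⁻¹) = E.α eT := by
      rw [← e, hPi]; group
    calc g * E.α eP * g⁻¹ = E.α eP * (E.α eP * (g * E.α eP * g⁻¹)) := by
          rw [← mul_assoc (E.α eP), ← map_mul, hP2, map_one, one_mul]
      _ = _ := by rw [h', map_mul]

include E in
/-- `C(t)` lies in a subgroup containing `C(V)` and the element swapping `p` and `pt`. -/
theorem CT_le [Finite G] (H : Subgroup G) (hV : E.CV ≤ H) (hR : E.α eR ∈ H) : E.CT ≤ H := by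
  intro g hg
  have hgT := (mem_CT E).1 hg
  rcases E.conj_P hgT with e | e
  · exact hV ((mem_CV E).2 ⟨hgT, mul_inv_eq_iff_eq_mul.1 e⟩)
  · have hRT : eR * eT = eT * eR := by decide +kernel
    have h : E.α eR * g ∈ E.CV := by
      refine (mem_CV E).2 ⟨?_, mul_inv_eq_iff_eq_mul.1 ?_⟩
      · rw [mul_assoc, hgT, ← mul_assoc, ← map_mul, hRT, map_mul, mul_assoc]
      · calc E.α eR * g * E.α eP * (E.α eR * g)⁻¹
            = E.α eR * (g * E.α eP * g⁻¹) * (E.α eR)⁻¹ := by group
          _ = E.α (eR * (eP * eT) * eR⁻¹) := by rw [e]; simp only [map_mul, map_inv]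
          _ = E.α eP := by
            refine congrArg _ ?_
            decide +kernel
    have := mul_mem (inv_mem hR) (hV h)
    rwa [inv_mul_cancel_left] at this

end Emb

end CfsgLib.Recog.QSThree.Alt
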