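import Cfsg.Agent.Lib.Recog.QSThree.AltEmb
import Cfsg.Agent.Lib.InvChar.HallJankoKlein
import Mathlib.GroupTheory.QuotientGroup.Basic

/-!
# Type A8: the centraliser of the four-group on four points
-/

set_option autoImplicit false
set_option maxRecDepth 100000

namespace CfsgLib.Recog.QSThree.Alt

open CfsgLib.InvChar.Coset CfsgLib.Invol CfsgLib.InvChar Equiv

universe u

variable {G : Type u} [Group G] {s : G} {D : Data tabA s}

/-- Facts on the products of the two four-groups. -/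
theorem four_facts :
    (∀ v ∈ [eT, eP, eT * eP], eW * v * (eW * v) = 1 ∧
      ((eW * v : alternatingGroup (Fin 8)) : Perm (Fin 8)).support.card = 8) ∧
    (∀ w ∈ [eW, eW', eW * eW'], w * w = 1 ∧ (w : Perm (Fin 8)).support.card = 4 ∧
      (w = eW ∨ eC * w * eC⁻¹ = eW ∨ eC⁻¹ * w * eC = eW)) ∧
    eW ∉ [1, eT, eP, eT * eP] ∧ eW' ∉ [1, eT, eP, eT * eP] ∧
    eW * eW' ∉ [1, eT, eP, eT * eP] ∧ g8 4 ∉ [1, eT, eP, eT * eP] ∧
    (g8 4)⁻¹ * g8 5 ∉ [1, eT, eP, eT * eP] ∧ g8 4 * g8 5 ∉ [1, eT, eP, eT * eP] ∧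
    g8 5 ∉ [1, eT, eP, eT * eP] ∧
    (∀ v ∈ [1, eT, eP, eT * eP], ∀ w ∈ [1, eW, eW', eW * eW'], eC ≠ v * w) ∧
    eC * eW * eC⁻¹ * (eC * (eC * eW * eC⁻¹) * eC⁻¹) = eW := by
  simp only [List.forall_mem_cons, List.not_mem_nil, false_implies, implies_true, and_true]
  refine ⟨?_, ?_, ?_, ?_, ?_, ?_, ?_, ?_, ?_, ?_, ?_⟩ <;> decide +kernel

namespace Emb

variable (E : Emb D)

/-- The four-group on four points. -/
def V : Subgroup (alternatingGroup (Fin 8)) :=
  fourSub eT eP named_facts.1 named_facts.2.1 named_facts.2.2.2.2.2.2.1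

theorem mem_V {a : alternatingGroup (Fin 8)} : a ∈ V ↔ a ∈ [1, eT, eP, eT * eP] := by
  simp [V, mem_fourSub]

/-- The centraliser of the four-group. -/
def CV : Subgroup G := Subgroup.centralizer {E.α eT, E.α eP}

theorem mem_CV {g : G} : g ∈ E.CV ↔ g * E.α eT = E.α eT * g ∧ g * E.α eP = E.α eP * g := by
  rw [CV, Subgroup.mem_centralizer_iff]
  simp only [Set.mem_insert_iff, Set.mem_singleton_iff, forall_eq_or_imp, forall_eq]
  exact ⟨fun h => ⟨h.1.symm, h.2.symm⟩, fun h => ⟨h.1.symm, h.2.symm⟩⟩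

theorem map_mem_CV {a : alternatingGroup (Fin 8)} (h1 : a * eT = eT * a) (h2 : a * eP = eP * a) :
    E.α a ∈ E.CV :=
  (mem_CV E).2 ⟨by rw [← map_mul, ← map_mul, h1], by rw [← map_mul, ← map_mul, h2]⟩

/-- The four-group inside its centraliser. -/
def N : Subgroup E.CV := (V.map E.α).subgroupOf E.CV

theorem commute_V {c : G} (hc : c ∈ E.CV) {a : alternatingGroup (Fin 8)} (ha : a ∈ V) :
    c * E.α a = E.α a * c := by
  obtain ⟨h1, h2⟩ := (mem_CV E).1 hc
  rcases mem_fourSub.1 ha with rfl | rfl | rfl | rfl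
  · simp
  · exact h1
  · exact h2
  · rw [map_mul, ← mul_assoc, h1, mul_assoc, h2, mul_assoc]

instance normal_N : (E.N).Normal := by
  refine ⟨fun n hn c => ?_⟩
  obtain ⟨a, ha, hae⟩ := Subgroup.mem_subgroupOf.1 hn
  refine Subgroup.mem_subgroupOf.2 ⟨a, ha, ?_⟩
  simp only [Subgroup.coe_mul, InvMemClass.coe_inv, ← hae]
  rw [commute_V E c.2 ha, mul_inv_cancel_right]

/-- The quotient. -/
abbrev Q : Type u := E.CV ⧸ E.N

theorem mem_N {c : E.CV} : c ∈ E.N ↔ ∃ a ∈ [1, eT, eP, eT * eP], E.α a = (c : G) := by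
  rw [N, Subgroup.mem_subgroupOf]
  exact ⟨fun ⟨a, ha, e⟩ => ⟨a, mem_V.1 ha, e⟩, fun ⟨a, ha, e⟩ => ⟨a, mem_V.2 ha, e⟩⟩

theorem map_not_mem_N {a : alternatingGroup (Fin 8)} (h : E.α a ∈ E.CV)
    (ha : a ∉ [1, eT, eP, eT * eP]) : (⟨E.α a, h⟩ : E.CV) ∉ E.N := fun hh => by
  obtain ⟨b, hb, e⟩ := (mem_N E).1 hh
  exact ha (E.inj e ▸ hb)

theorem W_mem_CV : E.α eW ∈ E.CV ∧ E.α eW' ∈ E.CV ∧ E.α eC ∈ E.CV := by
  obtain ⟨-, -, -, -, -, -, -, -, t1, t2, p1, p2, -, -, -, -, -, -, c1, c2, -⟩ := named_facts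
  exact ⟨E.map_mem_CV t1.symm p1.symm, E.map_mem_CV t2.symm p2.symm, E.map_mem_CV c1 c2⟩

/-- The image of an element of the centraliser. -/
def q (a : G) (h : a ∈ E.CV) : E.Q := QuotientGroup.mk ⟨a, h⟩

/-- The four-group in the quotient. -/
def WQ : Subgroup E.Q :=
  fourSub (E.q _ (W_mem_CV E).1) (E.q _ (W_mem_CV E).2.1)
    (by rw [q, ← QuotientGroup.mk_mul]; exact congrArg _ (Subtype.ext (by
      rw [Subgroup.coe_mul, ← map_mul, named_facts.2.2.1, map_one]; rfl)))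
    (by rw [q, ← QuotientGroup.mk_mul]; exact congrArg _ (Subtype.ext (by
      rw [Subgroup.coe_mul, ← map_mul, named_facts.2.2.2.1, map_one]; rfl)))
    (by rw [q, q, ← QuotientGroup.mk_mul, ← QuotientGroup.mk_mul]
        exact congrArg _ (Subtype.ext (by
          rw [Subgroup.coe_mul, Subgroup.coe_mul, ← map_mul, ← map_mul,
            named_facts.2.2.2.2.2.2.2.1])))

theorem mem_WQ {x : E.Q} : x ∈ E.WQ ↔
    ∃ w ∈ [1, eW, eW', eW * eW'], ∃ h : E.α w ∈ E.CV, x = E.q (E.α w) h := by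
  have hW := W_mem_CV E
  constructor
  · intro hx
    rcases mem_fourSub.1 hx with rfl | rfl | rfl | rfl
    · exact ⟨1, by simp, by simp, (congrArg QuotientGroup.mk (Subtype.ext (by simp))).trans rfl⟩
    · exact ⟨eW, by simp, hW.1, rfl⟩
    · exact ⟨eW', by simp, hW.2.1, rfl⟩
    · refine ⟨eW * eW', by simp, by rw [map_mul]; exact mul_mem hW.1 hW.2.1, ?_⟩
      rw [q, q, ← QuotientGroup.mk_mul]
      exact congrArg QuotientGroup.mk (Subtype.ext (by simp))
  · rintro ⟨w, hw, h, rfl⟩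
    refine mem_fourSub.2 ?_
    simp only [List.mem_cons, List.not_mem_nil, or_false] at hw
    rcases hw with rfl | rfl | rfl | rfl
    · exact Or.inl ((congrArg QuotientGroup.mk (Subtype.ext (by simp))).trans rfl)
    · exact Or.inr (Or.inl rfl)
    · exact Or.inr (Or.inr (Or.inl rfl))
    · refine Or.inr (Or.inr (Or.inr ?_))
      rw [q, q, q, ← QuotientGroup.mk_mul]
      exact congrArg QuotientGroup.mk (Subtype.ext (by simp))

theorem card_WQ [Finite G] : Nat.card E.WQ = 4 := by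
  classical
  have hW := W_mem_CV E
  set a := E.q _ hW.1 with hadef
  set b := E.q _ hW.2.1 with hbdef
  have ha : a ≠ 1 := fun h =>
    map_not_mem_N E hW.1 four_facts.2.2.1 ((QuotientGroup.eq_one_iff _).1 h)
  have hb : b ≠ 1 := fun h =>
    map_not_mem_N E hW.2.1 four_facts.2.2.2.1 ((QuotientGroup.eq_one_iff _).1 h)
  have hab : a * b ≠ 1 := fun h => by
    rw [hadef, hbdef, q, q, ← QuotientGroup.mk_mul, QuotientGroup.eq_one_iff] at h
    refine map_not_mem_N E (a := eW * eW') (by rw [map_mul]; exact mul_mem hW.1 hW.2.1)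
      four_facts.2.2.2.2.1 ?_
    convert h using 1
    exact Subtype.ext (by simp)
  have e : (E.WQ : Set E.Q) = ↑({1, a, b, a * b} : Finset E.Q) := by
    ext x
    rw [SetLike.mem_coe, WQ, mem_fourSub]
    simp [hadef, hbdef]
  rw [← SetLike.coe_sort_coe, Nat.card_coe_set_eq, e, Set.ncard_coe_finset]
  have hne : a ≠ b := fun h => hab (by
    rw [h, hbdef, q, ← QuotientGroup.mk_mul]
    exact (QuotientGroup.eq_one_iff _).2 (by
      convert (E.N).one_mem using 1
      exact Subtype.ext (by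
        rw [Subgroup.coe_mul, ← map_mul, named_facts.2.2.2.1, map_one]; rfl)))
  have h1 : a ≠ a * b := fun h => hb (by simpa using h.symm)
  have h2 : b ≠ a * b := fun h => ha (by simpa using h.symm)
  rw [Finset.card_insert_of_notMem, Finset.card_insert_of_notMem, Finset.card_insert_of_notMem,
    Finset.card_singleton] <;> simp [ha.symm, hb.symm, hab.symm, hne, h1, h2]

include E in
/-- An element centralising an involution of the four-group modulo `V` lies in `VW`. -/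
theorem centralizes_W {c : G} (hc : c ∈ E.CV) (h : ∃ v ∈ [1, eT, eP, eT * eP],
      c * E.α eW * c⁻¹ = E.α (eW * v)) :
    ∃ v ∈ [1, eT, eP, eT * eP], ∃ w ∈ [1, eW, eW', eW * eW'], c = E.α (v * w) := by
  obtain ⟨hT, hP⟩ := (mem_CV E).1 hc
  obtain ⟨v, hv, e⟩ := h
  have hcw : c * E.α eW = E.α eW * c := by
    rcases List.mem_cons.1 hv with rfl | hv
    · rw [mul_one] at e
      exact mul_inv_eq_iff_eq_mul.1 e
    · exfalso
      obtain ⟨hv2, hv8⟩ := four_facts.1 v hv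
      obtain ⟨hw2, hw4, -⟩ := four_facts.2.1 eW (by simp)
      exact E.not_conj_of_four eW hw2 hw4
        ((E.conj_of_eight _ hv2 hv8).trans (isConj_iff.2 ⟨c⁻¹, by rw [← e]; group⟩))
  have hcs : c * s = s * c := by
    have hS : E.α eS = E.α eT * E.α eW := by rw [← map_mul]; rfl
    rw [← E.map_S, hS, ← mul_assoc, hT, mul_assoc, hcw, mul_assoc]
  obtain ⟨i, hi, rfl⟩ := D.mem.1 hcs
  rw [E.map_T, D.el_commute tabA_ok hi (by norm_num)] at hT
  rw [E.map_P, D.el_commute tabA_ok hi (by norm_num)] at hP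
  rw [E.map_W, D.el_commute tabA_ok hi (by norm_num)] at hcw
  have h := Tab.all192_get num_facts.2.2.2.1 hi
  simp only [hT, hP, hcw, Bool.and_self, Bool.not_true, Bool.false_or] at h
  obtain ⟨jv, hjv, h⟩ := List.any_eq_true.1 h
  obtain ⟨jw, hjw, h⟩ := List.any_eq_true.1 h
  rw [Nat.eq_of_beq_eq_true h]
  have hTP : E.α (eT * eP) = D.el (tabA.mul 7 183) := by
    rw [map_mul, E.map_T, E.map_P, D.el_mul (by norm_num) (by norm_num)]
  have hWW : E.α (eW * eW') = D.el (tabA.mul 23 186) := by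
    rw [map_mul, E.map_W, E.map_W', D.el_mul (by norm_num) (by norm_num)]
  have keyv : ∀ j ∈ [0, 7, 183, tabA.mul 7 183], j < 192 ∧
      ∃ v ∈ [1, eT, eP, eT * eP], E.α v = D.el j := by
    intro j hj
    simp only [List.mem_cons, List.not_mem_nil, or_false] at hj
    rcases hj with rfl | rfl | rfl | rfl
    · exact ⟨by norm_num, 1, by simp, by rw [map_one, D.el_zero]⟩
    · exact ⟨by norm_num, eT, by simp, E.map_T⟩
    · exact ⟨by norm_num, eP, by simp, E.map_P⟩
    · exact ⟨tabA_ok.mul_lt (by norm_num) (by norm_num), eT * eP, by simp, hTP⟩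
  have keyw : ∀ j ∈ [0, 23, 186, tabA.mul 23 186], j < 192 ∧
      ∃ w ∈ [1, eW, eW', eW * eW'], E.α w = D.el j := by
    intro j hj
    simp only [List.mem_cons, List.not_mem_nil, or_false] at hj
    rcases hj with rfl | rfl | rfl | rfl
    · exact ⟨by norm_num, 1, by simp, by rw [map_one, D.el_zero]⟩
    · exact ⟨by norm_num, eW, by simp, E.map_W⟩
    · exact ⟨by norm_num, eW', by simp, E.map_W'⟩
    · exact ⟨tabA_ok.mul_lt (by norm_num) (by norm_num), eW * eW', by simp, hWW⟩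
  obtain ⟨hv', v', hv'm, ev⟩ := keyv _ hjv
  obtain ⟨hw', w', hw'm, ew⟩ := keyw _ hjw
  exact ⟨v', hv'm, w', hw'm, by rw [map_mul, ev, ew, D.el_mul hv' hw']⟩

theorem cent_W (x : E.Q) (h : x * E.q _ (W_mem_CV E).1 = E.q _ (W_mem_CV E).1 * x) :
    x ∈ E.WQ := by
  obtain ⟨c, rfl⟩ := QuotientGroup.mk_surjective x
  rw [q, ← QuotientGroup.mk_mul, ← QuotientGroup.mk_mul, QuotientGroup.eq] at h
  obtain ⟨a, ha, hae⟩ := (mem_N E).1 h
  obtain ⟨v, hv, w, hw, e⟩ := E.centralizes_W c.2 ⟨a⁻¹, by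
      have : ∀ a ∈ [1, eT, eP, eT * eP], a⁻¹ ∈ [1, eT, eP, eT * eP] := by
        simp only [List.forall_mem_cons, List.not_mem_nil, false_implies, implies_true, and_true]
        decide +kernel
      exact this a ha, by
      simp only [Subgroup.coe_mul, InvMemClass.coe_inv] at hae
      have hca := commute_V E c.2 (mem_V.2 ha)
      calc (c : G) * E.α eW * (c : G)⁻¹
          = E.α eW * ((c : G) * E.α a * (c : G)⁻¹)⁻¹ := by rw [hae]; group
        _ = E.α (eW * a⁻¹) := by rw [hca, mul_inv_cancel_right, map_mul, map_inv]⟩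
  have hwm : E.α w ∈ E.CV := by
    have hW := W_mem_CV E
    simp only [List.mem_cons, List.not_mem_nil, or_false] at hw
    rcases hw with rfl | rfl | rfl | rfl
    exacts [by simp, hW.1, hW.2.1, by rw [map_mul]; exact mul_mem hW.1 hW.2.1]
  refine (mem_WQ E).2 ⟨w, hw, hwm, (QuotientGroup.eq.2 ?_).symm⟩
  refine (mem_N E).2 ⟨v, hv, ?_⟩
  have hcomm := commute_V E hwm (mem_V.2 hv)
  simp only [Subgroup.coe_mul, InvMemClass.coe_inv, e, map_mul, ← hcomm]
  rw [inv_mul_cancel_left]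

theorem conj_q {a : alternatingGroup (Fin 8)} (ha : E.α a ∈ E.CV) {c : G} (hc : c ∈ E.CV) :
    ∃ h : c * E.α a * c⁻¹ ∈ E.CV, E.q c hc * E.q (E.α a) ha * (E.q c hc)⁻¹ = E.q _ h :=
  ⟨mul_mem (mul_mem hc ha) (inv_mem hc), rfl⟩

/-- The hypothesis on the quotient. -/
theorem cent_Q [Finite G] : HJKlein.Cent E.WQ := by
  refine ⟨card_WQ E, fun x hx => ?_, fun x hx hx1 c hc => ?_⟩
  · obtain ⟨w, hw, hm, rfl⟩ := (mem_WQ E).1 hx
    rw [q, ← QuotientGroup.mk_mul]
    refine (QuotientGroup.eq_one_iff _).2 ((mem_N E).2 ⟨1, by simp, ?_⟩)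
    rcases List.mem_cons.1 hw with rfl | hw
    · simp
    · rw [map_one, Subgroup.coe_mul, ← map_mul, (four_facts.2.1 w hw).1, map_one]
  obtain ⟨w, hw, hm, rfl⟩ := (mem_WQ E).1 hx
  rcases List.mem_cons.1 hw with rfl | hw
  · exact absurd ((congrArg QuotientGroup.mk (Subtype.ext (by simp))).trans rfl) hx1
  set g := E.q _ (W_mem_CV E).2.2 with hg
  set a := E.q _ (W_mem_CV E).1 with ha
  have hgW : ∀ y ∈ E.WQ, g * y * g⁻¹ ∈ E.WQ ∧ g⁻¹ * y * g ∈ E.WQ := by
    intro y hy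
    obtain ⟨u, hu, hum, rfl⟩ := (mem_WQ E).1 hy
    have hf : ∀ u ∈ [1, eW, eW', eW * eW'], eC * u * eC⁻¹ ∈ [1, eW, eW', eW * eW'] ∧
        eC⁻¹ * u * eC ∈ [1, eW, eW', eW * eW'] := by
        simp only [List.forall_mem_cons, List.not_mem_nil, false_implies, implies_true, and_true]
        decide +kernel
    refine ⟨(mem_WQ E).2 ⟨_, (hf u hu).1, ?_, ?_⟩, (mem_WQ E).2 ⟨_, (hf u hu).2, ?_, ?_⟩⟩
    · rw [map_mul, map_mul, map_inv]
      exact mul_mem (mul_mem (W_mem_CV E).2.2 hum) (inv_mem (W_mem_CV E).2.2)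
    · exact congrArg QuotientGroup.mk (Subtype.ext (by simp))
    · rw [map_mul, map_mul, map_inv]
      exact mul_mem (mul_mem (inv_mem (W_mem_CV E).2.2) hum) (W_mem_CV E).2.2
    · exact congrArg QuotientGroup.mk (Subtype.ext (by simp))
  rcases (four_facts.2.1 w hw).2.2 with rfl | e | e
  · exact E.cent_W c hc
  · have hx' : g * E.q _ hm * g⁻¹ = a := congrArg QuotientGroup.mk (Subtype.ext (by
      simp [← e]))
    have := E.cent_W (g * c * g⁻¹) (by
      rw [← ha, ← hx', conj_mul, conj_mul, hc])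
    rw [show c = g⁻¹ * (g * c * g⁻¹) * g by group]
    exact (hgW _ this).2
  · have hx' : g⁻¹ * E.q _ hm * g = a := congrArg QuotientGroup.mk (Subtype.ext (by
      simp [← e]))
    have := E.cent_W (g⁻¹ * c * g) (by
      rw [← ha, ← hx']
      calc g⁻¹ * c * g * (g⁻¹ * E.q _ hm * g) = g⁻¹ * (c * E.q _ hm) * g := by group
        _ = g⁻¹ * (E.q _ hm * c) * g := by rw [hc]
        _ = _ := by group)
    rw [show c = g * (g⁻¹ * c * g) * g⁻¹ by group]
    exact (hgW _ this).1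

include E in
theorem card_Q_gt [Finite G] : 4 < Nat.card E.Q := by
  rw [← card_WQ E, ← Subgroup.card_top (G := E.Q)]
  refine lt_of_le_of_ne (Subgroup.card_le_of_le le_top) fun e => ?_
  have ht : E.WQ = ⊤ := Subgroup.eq_of_le_of_card_ge le_top e.ge
  have hm : E.q _ (W_mem_CV E).2.2 ∈ E.WQ := ht ▸ Subgroup.mem_top _
  obtain ⟨w, hw, hwm, he⟩ := (mem_WQ E).1 hm
  obtain ⟨v, hv, hve⟩ := (mem_N E).1 (QuotientGroup.eq.1 he.symm)
  refine four_facts.2.2.2.2.2.2.2.2.2.1 v hv w hw (E.inj ?_)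
  rw [map_mul, commute_V E hwm (mem_V.2 hv) |>.symm, hve]
  simp

/-- The coset of an involution of the quotient. -/
theorem exists_conj_VW [Finite G] {c : E.CV} (hc : c * c ∈ E.N) :
    ∃ g ∈ E.CV, ∃ v ∈ [1, eT, eP, eT * eP], ∃ w ∈ [1, eW, eW', eW * eW'],
      g * (c : G) * g⁻¹ = E.α (v * w) := by
  have hmem : ∃ x : E.Q, x * QuotientGroup.mk c * x⁻¹ ∈ E.WQ := by
    by_cases h1 : (QuotientGroup.mk c : E.Q) = 1
    · exact ⟨1, by rw [h1]; simp⟩
    · exact (cent_Q E).conj_mem (invol_of_mul_self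
        (by rw [← QuotientGroup.mk_mul, (QuotientGroup.eq_one_iff _).2 hc]) h1)
  obtain ⟨x, hx⟩ := hmem
  obtain ⟨g, rfl⟩ := QuotientGroup.mk_surjective x
  obtain ⟨w, hw, hwm, he⟩ := (mem_WQ E).1 hx
  rw [q, ← QuotientGroup.mk_inv, ← QuotientGroup.mk_mul, ← QuotientGroup.mk_mul] at he
  obtain ⟨v, hv, hve⟩ := (mem_N E).1 (QuotientGroup.eq.1 he.symm)
  refine ⟨g, g.2, v, hv, w, hw, ?_⟩
  rw [map_mul, commute_V E hwm (mem_V.2 hv) |>.symm, hve]
  simp

include E in
/-- In a coset of `V` in an involution of the quotient, no two elements differing by `t` avoid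
the class of `s`. -/
theorem coset_two [Finite G] {c : G} (hc : c ∈ E.CV) (h2 : c * c = 1)
    (hV : ∀ v ∈ [1, eT, eP, eT * eP], c ≠ E.α v) :
    IsConj s c ∨ IsConj s (c * E.α eT) := by
  obtain ⟨g, hg, v, hv, w, hw, he⟩ := E.exists_conj_VW (c := ⟨c, hc⟩) (by
    convert (E.N).one_mem using 1
    exact Subtype.ext h2)
  simp only at he
  have hgv := commute_V E hg (mem_V.2 hv)
  rcases List.mem_cons.1 hw with rfl | hw
  · refine absurd ?_ (hV v hv)
    rw [mul_one] at he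
    calc c = g⁻¹ * (g * c * g⁻¹) * g := by group
      _ = g⁻¹ * (E.α v * g) := by rw [he]; group
      _ = E.α v := by rw [← hgv, inv_mul_cancel_left]
  have key : ∃ k ∈ E.CV, k * c * k⁻¹ = E.α (eW * v) := by
    obtain ⟨-, -, hC⟩ := W_mem_CV E
    have hflip : v * eW = eW * v := by
      have : ∀ v ∈ [1, eT, eP, eT * eP], v * eW = eW * v := by
        simp only [List.forall_mem_cons, List.not_mem_nil, false_implies, implies_true, and_true]
        decide +kernel
      exact this v hv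
    rcases (four_facts.2.1 w hw).2.2 with rfl | e | e
    · exact ⟨g, hg, by rw [he, hflip]⟩
    · refine ⟨E.α eC * g, mul_mem hC hg, ?_⟩
      calc E.α eC * g * c * (E.α eC * g)⁻¹ = E.α eC * (g * c * g⁻¹) * (E.α eC)⁻¹ := by group
        _ = E.α (eC * v * eC⁻¹ * (eC * w * eC⁻¹)) := by rw [he]; simp [mul_assoc]
        _ = _ := by
          rw [e, ← hflip]
          have := commute_V E hC (mem_V.2 hv)
          rw [← map_mul, ← map_mul] at this
          rw [E.inj this, mul_inv_cancel_right]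
    · refine ⟨(E.α eC)⁻¹ * g, mul_mem (inv_mem hC) hg, ?_⟩
      calc (E.α eC)⁻¹ * g * c * ((E.α eC)⁻¹ * g)⁻¹
          = (E.α eC)⁻¹ * (g * c * g⁻¹) * E.α eC := by group
        _ = E.α (eC⁻¹ * v * eC * (eC⁻¹ * w * eC)) := by rw [he]; simp [mul_assoc]
        _ = _ := by
          rw [e, ← hflip]
          have := commute_V E hC (mem_V.2 hv)
          rw [← map_mul, ← map_mul] at this
          rw [mul_assoc _ v eC, ← E.inj this, inv_mul_cancel_left]
  obtain ⟨k, hk, hke⟩ := key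
  have hkt := ((mem_CV E).1 hk).1
  have hct : k * (c * E.α eT) * k⁻¹ = E.α (eW * v * eT) := by
    rw [map_mul E.α (eW * v) eT, ← hke]
    calc k * (c * E.α eT) * k⁻¹ = k * c * k⁻¹ * (k * E.α eT * k⁻¹) := by group
      _ = _ := by rw [hkt, mul_inv_cancel_right]
  by_cases h1 : v = 1
  · refine Or.inr (IsConj.trans (b := E.α (eW * v * eT)) ?_ (isConj_iff.2 ⟨k, hct⟩).symm)
    rw [h1, mul_one, show eW * eT = eS from named_facts.2.2.2.2.2.2.2.2.1.symm, E.map_S]
  · refine Or.inl (IsConj.trans (b := E.α (eW * v)) ?_ (isConj_iff.2 ⟨k, hke⟩).symm)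
    obtain ⟨a1, a2⟩ := four_facts.1 v (List.mem_of_ne_of_mem h1 hv)
    exact E.conj_of_eight _ a1 a2

end Emb

end CfsgLib.Recog.QSThree.Alt
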