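import Cfsg.Agent.Lib.Recog.QSThree.AltPerm
import Cfsg.Agent.Lib.Invol.Basic

/-!
# Type A8: the embedded `A₈`
-/

set_option autoImplicit false
set_option maxRecDepth 100000

namespace CfsgLib.Recog.QSThree.Alt

open CfsgLib.InvChar.Coset CfsgLib.Invol Equiv

universe u

variable {G : Type u} [Group G] {s : G}

/-- A subgroup containing the centralisers of two involutions which represent its classes of
involutions is the whole group, if these are not conjugate. -/
theorem eq_top_of_classes [Finite G] {t : G} (hs : orderOf s = 2) (ht : orderOf t = 2)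
    (hst : ¬ IsConj s t) (H : Subgroup G) (cs : ∀ g : G, g * s = s * g → g ∈ H)
    (ct : ∀ g : G, g * t = t * g → g ∈ H)
    (hcl : ∀ u ∈ H, orderOf u = 2 → (∃ h ∈ H, h * s * h⁻¹ = u) ∨ ∃ h ∈ H, h * t * h⁻¹ = u) :
    H = ⊤ := by
  have hcent : ∀ {y h : G}, h ∈ H → (∀ g : G, g * y = y * g → g ∈ H) → ∀ g : G,
      g * (h * y * h⁻¹) = h * y * h⁻¹ * g → g ∈ H := by
    intro y h hh hy g hg
    have := hy (h⁻¹ * g * h) (by
      calc h⁻¹ * g * h * y = h⁻¹ * (g * (h * y * h⁻¹)) * h := by group
        _ = h⁻¹ * (h * y * h⁻¹ * g) * h := by rw [hg]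
        _ = y * (h⁻¹ * g * h) := by group)
    rw [show g = h * (h⁻¹ * g * h) * h⁻¹ by group]
    exact mul_mem (mul_mem hh this) (inv_mem hh)
  have hclosed : ∀ g : G, g * s * g⁻¹ ∈ H := by
    intro g
    by_contra hx
    have hxo : orderOf (g * s * g⁻¹) = 2 := by rw [orderOf_conj_eq, hs]
    have hne : ¬ IsConj (g * s * g⁻¹) t := fun h =>
      hst ((isConj_iff.2 ⟨g, rfl⟩ : IsConj s (g * s * g⁻¹)).trans h)
    obtain ⟨v, hv, hvx, hvt⟩ := exists_commute_both hxo ht (even_of_not_isConj hxo ht hne)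
    rcases hcl v (ct v hvt.eq) hv with ⟨h, hh, rfl⟩ | ⟨h, hh, rfl⟩
    · exact hx (hcent hh cs _ hvx.eq.symm)
    · exact hx (hcent hh ct _ hvx.eq.symm)
  refine top_le_iff.1 fun g _ => ?_
  rcases hcl _ (hclosed g) (by rw [orderOf_conj_eq, hs]) with ⟨h, hh, he⟩ | ⟨h, -, he⟩
  · have := cs (h⁻¹ * g) (by
      calc h⁻¹ * g * s = h⁻¹ * (g * s * g⁻¹) * g := by group
        _ = h⁻¹ * (h * s * h⁻¹) * g := by rw [he]
        _ = s * (h⁻¹ * g) := by group)
    simpa using mul_mem hh this
  · exact absurd ((isConj_iff.2 ⟨g, rfl⟩ : IsConj s (g * s * g⁻¹)).trans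
      (isConj_iff.2 ⟨h, he⟩ : IsConj t (g * s * g⁻¹)).symm) hst

/-- The four elements generated by two commuting involutions. -/
def fourSub {K : Type*} [Group K] (a b : K) (ha : a * a = 1) (hb : b * b = 1)
    (hab : a * b = b * a) : Subgroup K where
  carrier := {x | x = 1 ∨ x = a ∨ x = b ∨ x = a * b}
  one_mem' := Or.inl rfl
  mul_mem' := by
    have e1 : ∀ x, a * (a * x) = x := fun x => by rw [← mul_assoc, ha, one_mul]
    have e2 : ∀ x, b * (b * x) = x := fun x => by rw [← mul_assoc, hb, one_mul]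
    have e3 : ∀ x, b * (a * x) = a * (b * x) := fun x => by rw [← mul_assoc, ← hab, mul_assoc]
    rintro x y (rfl | rfl | rfl | rfl) (rfl | rfl | rfl | rfl) <;>
      simp [Set.mem_setOf_eq, ha, hb, ← hab, mul_assoc, e1, e2, e3]
  inv_mem' := by
    have ai : a⁻¹ = a := inv_eq_of_mul_eq_one_right ha
    have bi : b⁻¹ = b := inv_eq_of_mul_eq_one_right hb
    rintro x (rfl | rfl | rfl | rfl) <;> simp [Set.mem_setOf_eq, ai, bi, ← hab]

theorem mem_fourSub {K : Type*} [Group K] {a b : K} {ha : a * a = 1} {hb : b * b = 1}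
    {hab : a * b = b * a} {x : K} :
    x ∈ fourSub a b ha hb hab ↔ x = 1 ∨ x = a ∨ x = b ∨ x = a * b :=
  Iff.rfl

/-- The embedded `A₈` with the numbering of `C(s)`. -/
structure Emb (D : Data tabA s) where
  /-- the embedding -/
  α : alternatingGroup (Fin 8) →* G
  inj : Function.Injective α
  map_nm : ∀ i < 192, α (nm i) = D.el i
  hs : orderOf s = 2
  good : Good D

/-- The embedding exists. -/
theorem exists_emb [Finite G] (D : Data tabA s) (hs : orderOf s = 2) (hg : Good D) :
    Nonempty (Emb D) := by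
  obtain ⟨u, v, α, hinj, hα⟩ := exists_alt_eight D hs hg
  refine ⟨⟨α, hinj, fun i hi => ?_, hs, hg⟩⟩
  have h := Tab.all192_get lWords_facts hi
  simp only [Bool.and_eq_true] at h
  have hlt : ∀ x ∈ lWords.getD i [], x < 4 := fun x hx => by
    simpa [Nat.blt] using List.all_eq_true.1 h.2 x hx
  rw [nm, map_wprod α gA (six D u v) _ fun x hx => hα x (by have := hlt x hx; omega)]
  have e : wprod (six D u v) (lWords.getD i []) = wprod (letters D u) (lWords.getD i []) :=
    wprod_congr fun x hx => by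
      have := hlt x hx
      interval_cases x <;> rfl
  rw [e, (wprod_tab D u _ hlt).1, Nat.eq_of_beq_eq_true h.1]

namespace Emb

variable {D : Data tabA s} (E : Emb D)

theorem map_S : E.α eS = s := by
  rw [← nm_facts.1, E.map_nm 16 (by norm_num), D.el_zi]

theorem map_T : E.α eT = D.el 7 := by rw [← nm_facts.2.1, E.map_nm 7 (by norm_num)]

theorem map_P : E.α eP = D.el 183 := by rw [← nm_facts.2.2.1, E.map_nm 183 (by norm_num)]

theorem map_W : E.α eW = D.el 23 := by rw [← nm_facts.2.2.2.1, E.map_nm 23 (by norm_num)]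

theorem map_W' : E.α eW' = D.el 186 := by
  rw [← nm_facts.2.2.2.2.1, E.map_nm 186 (by norm_num)]

theorem map_R : E.α eR = D.el 30 := by rw [← nm_facts.2.2.2.2.2.1, E.map_nm 30 (by norm_num)]

theorem map_U : E.α eU = D.el 9 := by rw [← nm_facts.2.2.2.2.2.2, E.map_nm 9 (by norm_num)]

include E in
theorem mem_range {g : G} (h : g * s = s * g) : g ∈ E.α.range := by
  obtain ⟨i, hi, rfl⟩ := D.mem.1 h
  exact ⟨nm i, E.map_nm i hi⟩

/-- Elements of cycle type `2⁴` map to conjugates of `s`. -/
theorem conj_of_eight (a : alternatingGroup (Fin 8)) (h : a * a = 1)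
    (hc : (a : Perm (Fin 8)).support.card = 8) : IsConj s (E.α a) := by
  suffices hh : IsConj eS a by
    have := MonoidHom.map_isConj E.α hh
    rwa [E.map_S] at this
  have hS := cycleType_pairs_four (σ := (eS : Perm (Fin 8))) (by decide +kernel) (by decide +kernel)
  exact (isConj_of_cycleType (τ := swap 0 1) (Perm.sign_swap (by decide)) (by decide +kernel)
    ((cycleType_pairs_four (congrArg Subtype.val h) hc).trans hS.symm)).symm

include E in
theorem not_fus_T : ¬ IsConj s (E.α eT) := by
  rw [E.map_T, ← fus_iff D (by norm_num) (by rw [num_facts.2.2.2.2.1]; norm_num),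
    num_facts.2.2.2.2.1]
  exact E.good.four

include E in
/-- Elements of cycle type `2²` are not conjugate to `s`. -/
theorem not_conj_of_four (a : alternatingGroup (Fin 8)) (h : a * a = 1)
    (hc : (a : Perm (Fin 8)).support.card = 4) : ¬ IsConj s (E.α a) := by
  have hT := cycleType_pairs_two (σ := (eT : Perm (Fin 8))) (by decide +kernel) (by decide +kernel)
  exact fun hh => E.not_fus_T (hh.trans (MonoidHom.map_isConj E.α
    (isConj_of_cycleType (τ := swap 0 1) (Perm.sign_swap (by decide)) (by decide +kernel)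
      ((cycleType_pairs_two (congrArg Subtype.val h) hc).trans hT.symm))))

include E in
/-- An element of the numbering which is not fused with `s` has class 4 or 6. -/
theorem tType_of {i : ℕ} (hi : i < 192) (h0 : i ≠ 0) (h2 : tabA.mul i i = 0)
    (hn : ¬ IsConj s (D.el i)) : tType i = true := by
  obtain ⟨h1, hl, hr, hw⟩ := tabA_ok.cls_facts hi h0 h2
  have hl6 : tabA.reps.length = 6 := rfl
  rw [hl6] at hl
  have hnf : ¬ Fus D (tabA.cls i) := by rw [fus_iff D hi (by omega)]; exact hn
  have hc1 : tabA.cls i ≠ 1 := by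
    intro e
    refine hn ?_
    have hwl := (tabA_ok.inv_facts hi).2.2.2.2.2.1
    rw [e] at hr hw
    rw [← hw, ← D.el_conj tabA_ok hwl hr, show tabA.rep 1 = 16 from rfl, D.el_zi]
    exact isConj_iff.2 ⟨_, rfl⟩
  have hc : tabA.cls i = 4 ∨ tabA.cls i = 6 := by
    generalize tabA.cls i = c at h1 hl hnf hc1
    interval_cases c
    · exact absurd rfl hc1
    · exact absurd E.good.two hnf
    · exact absurd E.good.three hnf
    · exact Or.inl rfl
    · exact absurd E.good.five hnf
    · exact Or.inr rfl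
  rcases hc with e | e <;> simp [tType, e]

include E in
theorem orderOf_T : orderOf (E.α eT) = 2 :=
  orderOf_eq_prime (by rw [pow_two, ← map_mul, named_facts.1, map_one])
    (fun h => absurd (E.inj (h.trans (map_one _).symm)) (by decide +kernel))

include E in
/-- The involutions of the embedded group. -/
theorem range_invol {u : G} (hu : u ∈ E.α.range) (h2 : orderOf u = 2) :
    (∃ h ∈ E.α.range, h * s * h⁻¹ = u) ∨ ∃ h ∈ E.α.range, h * E.α eT * h⁻¹ = u := by
  obtain ⟨a, rfl⟩ := hu
  rw [orderOf_injective E.α E.inj] at h2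
  rcases invol_eight h2 with h | h
  · obtain ⟨c, hc⟩ := isConj_iff.1 h.symm
    refine Or.inl ⟨E.α c, ⟨c, rfl⟩, ?_⟩
    have := congrArg E.α hc
    rwa [map_mul, map_mul, map_inv, E.map_S] at this
  · obtain ⟨c, hc⟩ := isConj_iff.1 h.symm
    exact Or.inr ⟨E.α c, ⟨c, rfl⟩, by rw [← map_inv, ← map_mul, ← map_mul, hc]⟩

include E in
/-- If the embedded group contains the centraliser of the second involution it is the group. -/
theorem equiv_of_cent_le [Finite G]
    (h : ∀ g : G, g * E.α eT = E.α eT * g → g ∈ E.α.range) :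
    Nonempty (G ≃* alternatingGroup (Fin 8)) := by
  have ht := eq_top_of_classes E.hs E.orderOf_T E.not_fus_T E.α.range (fun g => E.mem_range) h
    (fun u hu h2 => E.range_invol hu h2)
  exact ⟨(MulEquiv.ofBijective E.α ⟨E.inj, MonoidHom.range_eq_top.1 ht⟩).symm⟩

end Emb

end CfsgLib.Recog.QSThree.Alt
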