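import Cfsg.Agent.Lib.Recog.QSThree.AltBase

/-!
# Type A8: the normaliser of the special subgroup of a fused class is transitive on it
-/

set_option autoImplicit false
set_option maxRecDepth 100000

namespace CfsgLib.Recog.QSThree.Alt

open CfsgLib.InvChar.Coset

universe u

variable {G : Type u} [Group G] {s : G} (D : Data tabA s)

theorem invol_facts : Tab.all192 (fun i => Nat.beq (tabA.cls i) 0 ||
    (Nat.beq (tabA.mul i i) 0 && !Nat.beq i 0 && Nat.ble (tabA.cls i) 6)) = true := by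
  decide +kernel

theorem cls_pos {i : ℕ} (hi : i < 192) (h : tabA.cls i ≠ 0) :
    tabA.mul i i = 0 ∧ i ≠ 0 ∧ tabA.cls i ≤ 6 := by
  have := Tab.all192_get invol_facts hi
  simp only [beq_false h, Bool.false_or, Bool.and_eq_true] at this
  exact ⟨Nat.eq_of_beq_eq_true this.1.1, fun e => by simp [e] at this, Nat.le_of_ble_eq_true this.2⟩

theorem cls_ne {i : ℕ} (hi : i < 192) (h0 : i ≠ 0) (h2 : tabA.mul i i = 0) : tabA.cls i ≠ 0 := by
  have := (tabA_ok.cls_facts hi h0 h2).1; omega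

theorem cls_sixteen : tabA.cls 16 = 1 := by decide +kernel

theorem cls_one {i : ℕ} (hi : i < 192) (h : tabA.cls i = 1) : i = 16 := by
  have h' : Tab.all192 (fun i => !Nat.beq (tabA.cls i) 1 || Nat.beq i 16) = true := by decide +kernel
  have := Tab.all192_get h' hi
  simp [h] at this
  exact this

theorem conj_of_cls {i j : ℕ} (hi : i < 192) (hj : j < 192) (h : tabA.cls i ≠ 0)
    (e : tabA.cls i = tabA.cls j) :
    ∃ g : G, g * s = s * g ∧ g * D.el i * g⁻¹ = D.el j := by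
  obtain ⟨hi2, hi0, -⟩ := cls_pos hi h
  obtain ⟨hj2, hj0, -⟩ := cls_pos hj (e ▸ h)
  obtain ⟨-, -, hr, wi⟩ := tabA_ok.cls_facts hi hi0 hi2
  obtain ⟨-, -, -, wj⟩ := tabA_ok.cls_facts hj hj0 hj2
  have hwi := (tabA_ok.inv_facts hi).2.2.2.2.2.1
  have hwj := (tabA_ok.inv_facts hj).2.2.2.2.2.1
  refine ⟨D.el (tabA.wit j) * (D.el (tabA.wit i))⁻¹, ?_, ?_⟩
  · exact ((show Commute (D.el (tabA.wit j)) s from D.el_comm_s hwj).mul_left
      (show Commute (D.el (tabA.wit i)) s from D.el_comm_s hwi).inv_left)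
  · have e1 : D.el i = D.el (tabA.wit i) * D.el (tabA.rep (tabA.cls i)) * (D.el (tabA.wit i))⁻¹ := by
      rw [D.el_conj tabA_ok hwi hr, wi]
    have e2 : D.el j = D.el (tabA.wit j) * D.el (tabA.rep (tabA.cls i)) * (D.el (tabA.wit j))⁻¹ := by
      rw [D.el_conj tabA_ok hwj hr, e, wj]
    rw [e1, e2]; group

theorem fus_iff {i : ℕ} (hi : i < 192) (h : tabA.cls i ≠ 0) :
    Fus D (tabA.cls i) ↔ IsConj s (D.el i) := by
  obtain ⟨hi2, hi0, -⟩ := cls_pos hi h
  obtain ⟨-, -, hr, wi⟩ := tabA_ok.cls_facts hi hi0 hi2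
  have hw := (tabA_ok.inv_facts hi).2.2.2.2.2.1
  have e : IsConj (D.el (tabA.rep (tabA.cls i))) (D.el i) :=
    isConj_iff.2 ⟨D.el (tabA.wit i), by rw [D.el_conj tabA_ok hw hr, wi]⟩
  exact ⟨fun h => h.trans e, fun h => h.trans e.symm⟩

theorem fus_one : Fus D 1 := by
  have := (fus_iff D (i := 16) (by norm_num) (by rw [cls_sixteen]; norm_num)).2
  rw [cls_sixteen, D.el_zi] at this
  exact this (IsConj.refl s)

theorem small_six : Tab.all192 (fun i => !Nat.blt i 32 || Nat.beq i 16 ||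
    Nat.beq (tabA.cls i) 0 || Nat.beq (tabA.cls i) 2 || Nat.beq (tabA.cls i) 3 ||
      Nat.beq (tabA.cls i) 4) = true := by
  decide +kernel

/-- A conjugate of `s` in `Q` other than `s` lies in a fused class of size six. -/
theorem exists_fus (hs : orderOf s = 2)
    (h : ∃ (g : G) (i : ℕ), i < 32 ∧ D.el i = g * s * g⁻¹ ∧ g * s * g⁻¹ ≠ s) :
    ∃ c, Six c ∧ Fus D c := by
  obtain ⟨g, i, hi, he, hne⟩ := h
  have hi' : i < 192 := by omega
  have ho : orderOf (D.el i) = 2 := by rw [he, ← hs]; exact orderOf_injective (MulAut.conj g).toMonoidHom (MulAut.conj g).injective s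
  have hi0 : i ≠ 0 := fun e => by rw [e, D.el_zero, orderOf_one] at ho; omega
  have hcl : tabA.cls i ≠ 0 :=
    cls_ne hi' hi0 ((D.el_sq tabA_ok hi').1 (ho ▸ pow_orderOf_eq_one _))
  have h16 : i ≠ 16 := fun e => hne (by rw [← he, e, D.el_zi])
  have := Tab.all192_get small_six hi'
  have hlt : Nat.blt i 32 = true := by simpa [Nat.blt] using hi
  simp only [hlt, beq_false h16, beq_false hcl, Bool.not_true, Bool.false_or,
    Bool.or_eq_true] at this
  refine ⟨tabA.cls i, ?_, (fus_iff D hi' hcl).2 (he ▸ isConj_iff.2 ⟨g, rfl⟩)⟩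
  rcases this with (h | h) | h <;> have := Nat.eq_of_beq_eq_true h <;> simp [Six, this]

theorem inW_facts : ([2, 3, 4].all fun c => Tab.all192 fun i => !inW c i ||
    (Nat.beq (tabA.mul i i) 0 && (Tab.all192 fun j => !inW c j || inW c (tabA.mul i j)) &&
      (Tab.all192 fun k => inW c (tabA.conj k i)))) = true := by
  decide +kernel

theorem inW_get {c i : ℕ} (hc : Six c) (hi : i < 192) (h : inW c i = true) :
    tabA.mul i i = 0 ∧ (∀ j < 192, inW c j = true → inW c (tabA.mul i j) = true) ∧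
      ∀ k < 192, inW c (tabA.conj k i) = true := by
  have hm : c ∈ [2, 3, 4] := by rcases hc with rfl | rfl | rfl <;> simp
  have := Tab.all192_get (List.all_eq_true.1 inW_facts c hm) hi
  simp only [h, Bool.not_true, Bool.false_or, Bool.and_eq_true] at this
  exact ⟨Nat.eq_of_beq_eq_true this.1.1,
    fun j hj hw => by simpa [hw] using Tab.all192_get this.1.2 hj,
    fun k hk => Tab.all192_get this.2 hk⟩

/-- The special elementary subgroup of a class of size six. -/
noncomputable def wSub {c : ℕ} (hc : Six c) : Subgroup G where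
  carrier := {g : G | ∃ i < 192, inW c i = true ∧ D.el i = g}
  one_mem' := ⟨0, by norm_num, by simp [inW], D.el_zero⟩
  mul_mem' := by
    rintro _ _ ⟨i, hi, hwi, rfl⟩ ⟨j, hj, hwj, rfl⟩
    exact ⟨_, tabA_ok.mul_lt hi hj, (inW_get hc hi hwi).2.1 j hj hwj, (D.el_mul hi hj).symm⟩
  inv_mem' := by
    rintro _ ⟨i, hi, hwi, rfl⟩
    refine ⟨i, hi, hwi, eq_inv_of_mul_eq_one_left ?_⟩
    rw [D.el_mul hi hi, (inW_get hc hi hwi).1, D.el_zero]

theorem wSub_conj {c : ℕ} (hc : Six c) {g : G} (hg : g * s = s * g) {w : G} (hw : w ∈ wSub D hc) :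
    g * w * g⁻¹ ∈ wSub D hc := by
  obtain ⟨k, hk, rfl⟩ := D.mem.1 hg
  obtain ⟨i, hi, hwi, rfl⟩ := hw
  exact ⟨_, tabA_ok.conj_lt hk hi, (inW_get hc hi hwi).2.2 k hk, (D.el_conj tabA_ok hk hi).symm⟩

theorem centralizer_le_normalizer {c : ℕ} (hc : Six c) :
    Subgroup.centralizer ({s} : Set G) ≤ Subgroup.normalizer (wSub D hc : Set G) := by
  intro g hg
  have hg' := Subgroup.mem_centralizer_singleton_iff.1 hg
  rw [Subgroup.mem_normalizer_iff]
  refine fun w => ⟨fun h => wSub_conj D hc hg' h, fun h => ?_⟩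
  have := wSub_conj D hc (g := g⁻¹) (Commute.inv_left hg') h
  simpa [mul_assoc] using this

theorem wSub_sq {c : ℕ} (hc : Six c) {w : G} (hw : w ∈ wSub D hc) : w ^ 2 = 1 := by
  obtain ⟨i, hi, hwi, rfl⟩ := hw
  exact (D.el_sq tabA_ok hi).2 (inW_get hc hi hwi).1

theorem wSub_card {c : ℕ} (hc : Six c) : Nat.card (wSub D hc) = 8 := by
  have h8 : ((Finset.range 192).filter fun i => inW c i = true).card = 8 := by
    rcases hc with rfl | rfl | rfl <;> decide +kernel
  rw [← h8, ← D.ncard_el]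
  rfl

theorem s_mem_wSub {c : ℕ} (hc : Six c) : s ∈ wSub D hc :=
  ⟨16, by norm_num, by simp [inW], D.el_zi⟩

theorem wSub_self_cent_facts : ([2, 3, 4].all fun c => Tab.all192 fun k => inW c k ||
    !Tab.all192 fun i => !inW c i || tabA.comm k i) = true := by
  decide +kernel

theorem mem_of_centralizes {c : ℕ} (hc : Six c) {g : G}
    (h : ∀ w ∈ wSub D hc, g * w = w * g) : g ∈ wSub D hc := by
  obtain ⟨k, hk, rfl⟩ := D.mem.1 (h s (s_mem_wSub D hc))
  refine ⟨k, hk, ?_, rfl⟩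
  have hm : c ∈ [2, 3, 4] := by rcases hc with rfl | rfl | rfl <;> simp
  have := Tab.all192_get (List.all_eq_true.1 wSub_self_cent_facts c hm) hk
  rcases Bool.or_eq_true _ _ ▸ this with h' | h'
  · exact h'
  · rw [Bool.not_eq_true'] at h'
    refine absurd ?_ (Bool.eq_false_iff.1 h')
    refine List.all_eq_true.2 fun i hi => ?_
    rw [List.mem_range] at hi
    cases hw : inW c i with
    | false => rfl
    | true => simpa using (comm_iff D hk hi).1 (h _ ⟨i, hi, hw, rfl⟩)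

theorem two_in_class : Tab.all192 (fun i =>
    !(Nat.beq (tabA.cls i) 2 || Nat.beq (tabA.cls i) 3 || Nat.beq (tabA.cls i) 4) ||
      !Tab.all192 fun x => !Nat.beq (tabA.cls x) (tabA.cls i) || Nat.beq x i) = true := by
  decide +kernel

/-- A fused class: the normaliser of its subgroup carries `s` to every nontrivial element. -/
theorem fus_transitive (hs : orderOf s = 2) {c : ℕ} (hc : Six c) (hF : Fus D c) {x : G}
    (hx : x ∈ wSub D hc) (hx1 : x ≠ 1) :
    ∃ n ∈ Subgroup.normalizer (wSub D hc : Set G), n * s * n⁻¹ = x := by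
  obtain ⟨r, hr, hrc⟩ : ∃ r < 192, tabA.cls r = c := by
    rcases hc with rfl | rfl | rfl
    exacts [⟨5, by norm_num, by decide +kernel⟩, ⟨6, by norm_num, by decide +kernel⟩,
      ⟨7, by norm_num, by decide +kernel⟩]
  have hc0 : tabA.cls r ≠ 0 := by rcases hc with rfl | rfl | rfl <;> omega
  have hr16 : r ≠ 16 := fun e => by
    rw [e, cls_sixteen] at hrc; rcases hc with rfl | rfl | rfl <;> omega
  obtain ⟨g, hg⟩ := isConj_iff.1 ((fus_iff D hr hc0).1 (hrc ▸ hF))
  obtain ⟨D', hD'⟩ : ∃ D' : Data tabA (D.el r), True := ⟨hg ▸ D.conjTo g, trivial⟩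
  obtain ⟨j, hj, hjs⟩ := D'.mem.1 (D.el_comm_s hr).symm
  have hj0 : j ≠ 0 := fun e => by
    rw [e, D'.el_zero] at hjs; rw [← hjs, orderOf_one] at hs; omega
  have hjc : tabA.cls j ≠ 0 := by
    refine cls_ne hj hj0 ((D'.el_sq tabA_ok hj).1 ?_)
    rw [hjs, ← hs]; exact pow_orderOf_eq_one s
  have hj16 : j ≠ 16 := fun e => hr16 (by
    have h2 := D'.el_zi
    rw [← e, hjs] at h2
    exact D.el_inj hr (by norm_num) (h2.symm.trans D.el_zi.symm))
  have h32 : cent1 j = 32 := by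
    rw [← ncard_cent1 D' hj, hjs, ← cent1_eq hr (hrc ▸ hc), ← ncard_cent1 D hr]
    congr 1; ext h; simp [and_comm]
  have hjsix := cent1_six hj h32 hjc hj16
  have hW : ((wSub D hc : Subgroup G) : Set G) = (wSub D' hjsix : Subgroup G) := by
    have e1 := kset_eq D hr (hrc ▸ hc)
    have e2 := kset_eq D' hj hjsix
    rw [hjs, kset_symm (D.el_comm_s hr)] at e2
    rw [hrc] at e1
    exact e1.symm.trans e2
  have hN : Subgroup.centralizer ({D.el r} : Set G) ≤ Subgroup.normalizer (wSub D hc : Set G) := by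
    rw [hW]; exact centralizer_le_normalizer D' hjsix
  obtain ⟨y, hy, hyc, hyr⟩ : ∃ y < 192, tabA.cls y = c ∧ y ≠ r := by
    by_contra hcon
    push Not at hcon
    have := Tab.all192_get two_in_class hr
    have hb : (Nat.beq (tabA.cls r) 2 || Nat.beq (tabA.cls r) 3 || Nat.beq (tabA.cls r) 4) = true := by
      rw [hrc]; rcases hc with rfl | rfl | rfl <;> simp
    simp only [hb, Bool.not_true, Bool.false_or] at this
    rw [Bool.not_eq_true'] at this
    refine absurd ?_ (Bool.eq_false_iff.1 this)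
    refine List.all_eq_true.2 fun z hz => ?_
    rw [List.mem_range] at hz
    by_cases e : tabA.cls z = tabA.cls r
    · simp [hcon z hz (e.trans hrc)]
    · rw [beq_false e]; rfl
  have hyW : D.el y ∈ ((wSub D' hjsix : Subgroup G) : Set G) :=
    hW ▸ ⟨y, hy, by simp [inW, hyc], rfl⟩
  obtain ⟨k, hk, hkW, hky⟩ := hyW
  have hy0 : y ≠ 0 ∧ y ≠ 16 := by
    have hcy : tabA.cls y ≠ 0 := by rw [hyc]; rcases hc with rfl | rfl | rfl <;> omega
    refine ⟨(cls_pos hy hcy).2.1, fun e => ?_⟩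
    rw [e, cls_sixteen] at hyc; rcases hc with rfl | rfl | rfl <;> omega
  have hkc : tabA.cls k = tabA.cls j := by
    simp only [inW, Bool.or_eq_true] at hkW
    rcases hkW with (h | h) | h
    · rw [Nat.eq_of_beq_eq_true h, D'.el_zero, ← D.el_zero] at hky
      exact absurd (D.el_inj (by norm_num) hy hky).symm hy0.1
    · rw [Nat.eq_of_beq_eq_true h, D'.el_zi] at hky
      exact absurd (D.el_inj hr hy hky).symm hyr
    · exact Nat.eq_of_beq_eq_true h
  obtain ⟨n₁, hn₁, hn₁e⟩ := conj_of_cls D' hj hk hjc hkc.symm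
  rw [hjs, hky] at hn₁e
  obtain ⟨i, hi, hwi, rfl⟩ := hx
  simp only [inW, Bool.or_eq_true] at hwi
  rcases hwi with (h | h) | h
  · exact absurd (by rw [Nat.eq_of_beq_eq_true h, D.el_zero]) hx1
  · exact ⟨1, one_mem _, by rw [Nat.eq_of_beq_eq_true h, D.el_zi]; group⟩
  · have hic := Nat.eq_of_beq_eq_true h
    obtain ⟨n₂, hn₂, hn₂e⟩ := conj_of_cls D hy hi
      (by rw [hyc]; rcases hc with rfl | rfl | rfl <;> omega) (hyc.trans hic.symm)
    refine ⟨n₂ * n₁, mul_mem (centralizer_le_normalizer D hc (Subgroup.mem_centralizer_singleton_iff.2 hn₂))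
      (hN (Subgroup.mem_centralizer_singleton_iff.2 hn₁)), ?_⟩
    rw [← hn₂e, ← hn₁e]; group

theorem isConj_of_mem (hs : orderOf s = 2) {c : ℕ} (hc : Six c) (hF : Fus D c) {x : G}
    (hx : x ∈ wSub D hc) (hx1 : x ≠ 1) : IsConj s x := by
  obtain ⟨n, -, hn⟩ := fus_transitive D hs hc hF hx hx1
  exact isConj_iff.2 ⟨n, hn⟩

end CfsgLib.Recog.QSThree.Alt
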