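import Mathlib.GroupTheory.SpecificGroups.Alternating
import Mathlib.GroupTheory.SpecificGroups.Alternating.Simple
import Mathlib.GroupTheory.Perm.Centralizer
import Mathlib.GroupTheory.GroupAction.ConjAct
import Mathlib.Tactic

/-!
# Recognising `A₈` and `A₉` from a subgroup `A₈`
-/

set_option autoImplicit false
set_option maxRecDepth 10000

namespace CfsgLib.Recog.QSThree.Alt

open Equiv Subgroup

universe u

/-- A group of order 20160 containing `A₈`. -/
theorem equiv_alt_eight {G : Type u} [Group G] [Finite G] (al : alternatingGroup (Fin 8) →* G)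
    (hal : Function.Injective al) (hcard : Nat.card G = 20160) :
    Nonempty (G ≃* alternatingGroup (Fin 8)) := by
  have h8 : Nat.card (alternatingGroup (Fin 8)) = 20160 := by
    rw [nat_card_alternatingGroup, Nat.card_fin]; rfl
  exact ⟨(MulEquiv.ofBijective al (hal.bijective_of_nat_card_le (by rw [h8, hcard]))).symm⟩

/-- The number of involutions of `A₈`. -/
theorem alt_eight_invol_le :
    Nat.card {g : alternatingGroup (Fin 8) // g * g = 1 ∧ g ≠ 1} ≤ 315 := by
  classical
  let A : Finset (Perm (Fin 8)) := Finset.univ.filter fun g => g.cycleType = Multiset.replicate 2 2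
  let B : Finset (Perm (Fin 8)) := Finset.univ.filter fun g => g.cycleType = Multiset.replicate 4 2
  have hA : A.card = 210 := by
    show (Finset.univ.filter fun g : Perm (Fin 8) => g.cycleType = Multiset.replicate 2 2).card = 210
    rw [Equiv.Perm.card_of_cycleType]
    decide
  have hB : B.card = 105 := by
    show (Finset.univ.filter fun g : Perm (Fin 8) => g.cycleType = Multiset.replicate 4 2).card = 105
    rw [Equiv.Perm.card_of_cycleType]
    decide
  have hmem : ∀ g : {g : alternatingGroup (Fin 8) // g * g = 1 ∧ g ≠ 1},
      ((g.1 : alternatingGroup (Fin 8)) : Perm (Fin 8)) ∈ A ∪ B := by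
    intro g
    set σ : Perm (Fin 8) := ((g.1 : alternatingGroup (Fin 8)) : Perm (Fin 8)) with hσ
    have h2 : orderOf σ = 2 := orderOf_eq_prime
      (by rw [pow_two, hσ, ← Subgroup.coe_mul, g.2.1, OneMemClass.coe_one])
      (fun h => g.2.2 (Subtype.ext h))
    obtain ⟨n, hn⟩ := Equiv.Perm.cycleType_prime_order (σ := σ) (by rw [h2]; norm_num)
    rw [h2] at hn
    have hsum : σ.cycleType.sum ≤ 8 :=
      (Equiv.Perm.sum_cycleType σ).le.trans
        (σ.support.card_le_univ.trans (le_of_eq (Fintype.card_fin 8)))
    have hsg : Perm.sign σ = 1 := Equiv.Perm.mem_alternatingGroup.1 g.1.2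
    rw [Equiv.Perm.sign_of_cycleType, hn] at hsg
    rw [hn, Multiset.sum_replicate, smul_eq_mul] at hsum
    have hn3 : n ≤ 3 := by omega
    simp only [A, B, Finset.mem_union, Finset.mem_filter, Finset.mem_univ, true_and]
    interval_cases n <;> first
      | exact Or.inl hn
      | exact Or.inr hn
      | exact absurd hsg (by decide)
  refine (Nat.card_le_card_of_injective (fun g => (⟨_, hmem g⟩ : {x // x ∈ A ∪ B})) ?_).trans ?_
  · intro g h e
    exact Subtype.ext (Subtype.ext (congrArg (fun x : {x // x ∈ A ∪ B} => x.1) e))
  · rw [Nat.card_eq_fintype_card, Fintype.card_coe]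
    exact (Finset.card_union_le A B).trans (by rw [hA, hB])

/-- A group of order 181440 containing `A₈` and the centraliser, of order 192, of one of its
involutions. -/
theorem equiv_alt_nine {G : Type u} [Group G] [Finite G] (al : alternatingGroup (Fin 8) →* G)
    (hal : Function.Injective al) (hcard : Nat.card G = 181440) {s : G} (hs : orderOf s = 2)
    (hC : centralizer ({s} : Set G) ≤ al.range)
    (h192 : Nat.card (centralizer ({s} : Set G)) = 192) :
    Nonempty (G ≃* alternatingGroup (Fin 9)) := by
  classical
  set H := al.range with hH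
  have hH8 : Nat.card ↥H = 20160 := by
    rw [hH, ← Nat.card_congr (MonoidHom.ofInjective hal).toEquiv, nat_card_alternatingGroup,
      Nat.card_fin]
    rfl
  have hidx : H.index = 9 := by
    have := H.card_mul_index
    rw [hH8, hcard] at this
    omega
  haveI hsimp : IsSimpleGroup ↥H := by
    haveI : IsSimpleGroup (alternatingGroup (Fin 8)) := alternatingGroup.isSimpleGroup (by simp)
    exact (MonoidHom.ofInjective hal).symm.isSimpleGroup
  have hsH : s ∈ H := hC (mem_centralizer_singleton_iff.2 rfl)
  have hcore : H.normalCore = ⊥ := by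
    haveI : (H.normalCore.subgroupOf H).Normal := (Subgroup.normalCore_normal H).subgroupOf H
    rcases IsSimpleGroup.eq_bot_or_eq_top_of_normal (H.normalCore.subgroupOf H) inferInstance with
      h | h
    · have := (Subgroup.subgroupOf_eq_bot.1 h)
      exact this.eq_bot_of_le (normalCore_le H)
    · exfalso
      have heq : H.normalCore = H :=
        le_antisymm (normalCore_le H) (Subgroup.subgroupOf_eq_top.1 h)
      have hn : H.Normal := heq ▸ Subgroup.normalCore_normal H
      have hfin : ∀ x : MulAction.orbit (ConjAct G) s, (x : G) ∈ H ∧ orderOf (x : G) = 2 := by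
        rintro ⟨x, g, rfl⟩
        refine ⟨?_, ?_⟩
        · show ConjAct.ofConjAct g * s * (ConjAct.ofConjAct g)⁻¹ ∈ H
          exact hn.conj_mem s hsH _
        · show orderOf (ConjAct.ofConjAct g * s * (ConjAct.ofConjAct g)⁻¹) = 2
          rw [← hs]
          exact MulEquiv.orderOf_eq (MulAut.conj _) s
      have hle : Nat.card (MulAction.orbit (ConjAct G) s) ≤
          Nat.card {g : alternatingGroup (Fin 8) // g * g = 1 ∧ g ≠ 1} := by
        refine Nat.card_le_card_of_injective (fun x => ⟨(hfin x).1.choose, ?_, ?_⟩) ?_
        · apply hal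
          rw [map_mul, map_one, (hfin x).1.choose_spec, ← pow_two, ← (hfin x).2, pow_orderOf_eq_one]
        · intro h1
          have hx := (hfin x).1.choose_spec
          rw [h1, map_one] at hx
          have h2 := (hfin x).2
          rw [← hx, orderOf_one] at h2
          omega
        · intro x y e
          apply Subtype.ext
          rw [← (hfin x).1.choose_spec, ← (hfin y).1.choose_spec]
          exact congrArg (fun z => al z) (congrArg Subtype.val e)
      have horb : Nat.card (MulAction.orbit (ConjAct G) s) = 945 := by
        have hst := MulAction.index_stabilizer (ConjAct G) s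
        rw [ConjAct.stabilizer_eq_centralizer] at hst
        have hcm := Subgroup.card_mul_index (centralizer ({ConjAct.toConjAct s} : Set (ConjAct G)))
        have e1 : Nat.card ↥(centralizer ({ConjAct.toConjAct s} : Set (ConjAct G))) = 192 := by
          rw [← h192]; rfl
        rw [hst, e1, show Nat.card (ConjAct G) = 181440 from hcard] at hcm
        rw [Nat.card_coe_set_eq]
        omega
      have := hle.trans alt_eight_invol_le
      omega
  let ρ : G →* Perm (Fin 9) :=
    ((Finite.equivFinOfCardEq hidx).permCongrHom.toMonoidHom).comp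
      (MulAction.toPermHom G (G ⧸ H))
  have hinj : Function.Injective ρ := by
    show Function.Injective ((Finite.equivFinOfCardEq hidx).permCongrHom ∘
      MulAction.toPermHom G (G ⧸ H))
    refine (MulEquiv.injective _).comp ?_
    rw [← MonoidHom.ker_eq_bot_iff, ← Subgroup.normalCore_eq_ker, hcore]
  have hrange : ρ.range = alternatingGroup (Fin 9) := by
    refine Equiv.Perm.eq_alternatingGroup_of_index_eq_two ?_
    have h := ρ.range.card_mul_index
    rw [← Nat.card_congr (MonoidHom.ofInjective hinj).toEquiv, hcard, Nat.card_perm, Nat.card_fin,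
      show Nat.factorial 9 = 362880 from rfl] at h
    omega
  exact ⟨(MonoidHom.ofInjective hinj).trans (MulEquiv.subgroupCongr hrange)⟩

end CfsgLib.Recog.QSThree.Alt
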