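import Cfsg.Agent.Lib.Recog.QSThree.AltCentT
import Cfsg.Agent.Lib.InvChar.HallJankoOuterCentralizer

/-!
# Type A8: the ninth point
-/

set_option autoImplicit false
set_option maxRecDepth 100000

namespace CfsgLib.Recog.QSThree.Alt

open CfsgLib.InvChar.Coset CfsgLib.Invol CfsgLib.InvChar CfsgLib.Clifford.AltSchur Equiv

universe u

variable {G : Type u} [Group G] {s : G} {D : Data tabA s}

/-- The transposition acting on `A₅`. -/
noncomputable def sigma5 : alternatingGroup (Fin 5) →* alternatingGroup (Fin 5) :=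
  ((MulAut.conjNormal (swap (2 : Fin 5) 3) : MulAut (alternatingGroup (Fin 5))) :
    alternatingGroup (Fin 5) ≃* alternatingGroup (Fin 5)).toMonoidHom

theorem sigma5_apply (c : alternatingGroup (Fin 5)) :
    ((sigma5 c : alternatingGroup (Fin 5)) : Perm (Fin 5)) =
      swap (2 : Fin 5) 3 * (c : Perm (Fin 5)) * (swap (2 : Fin 5) 3)⁻¹ := rfl

theorem sigma5_gen : sigma5 (g5 0) = g5 1 ∧ sigma5 (g5 1) = g5 0 ∧ sigma5 (g5 2) = g5 2 := by
  refine ⟨Subtype.ext ?_, Subtype.ext ?_, Subtype.ext ?_⟩ <;> rw [sigma5_apply] <;> decide +kernel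

theorem small_facts :
    g5 0 ≠ 1 ∧ g5 1 ≠ 1 ∧ g5 2 ≠ 1 ∧ g8 4 * g8 5 * (g8 4 * g8 5) = 1 ∧ g8 4 ^ 3 = 1 ∧
    g8 5 ^ 3 = 1 ∧ g9 4 ≠ 1 ∧
    eR * g8 4 * eR⁻¹ = g8 5 ∧ eR * g8 5 * eR⁻¹ = g8 4 := by
  refine ⟨?_, ?_, ?_, ?_, ?_, ?_, ?_, ?_, ?_⟩ <;> decide +kernel

namespace Emb

variable (E : Emb D)

include E in
/-- A subgroup containing the two centralisers, with the classes of involutions of `A₉`. -/
theorem x_mem_CV : E.α (g8 4) ∈ E.CV ∧ E.α (g8 5) ∈ E.CV := by
  obtain ⟨-, -, -, -, -, -, -, -, -, -, -, -, -, -, -, -, -, -, -, -, -, -, -, -, -, -, -, a, b, c, d,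
    -⟩ := named_facts
  exact ⟨E.map_mem_CV a b, E.map_mem_CV c d⟩

include E in
/-- If `C(V)/V` has order 12 the embedded group is the whole group. -/
theorem equiv_eight [Finite G] (h12 : Nat.card E.Q = 12) :
    Nonempty (G ≃* alternatingGroup (Fin 8)) := by
  let L : Subgroup E.Q := (E.α.range.subgroupOf E.CV).map (QuotientGroup.mk' E.N)
  have hmem : ∀ a (h : E.α a ∈ E.CV), E.q (E.α a) h ∈ L := fun a h =>
    ⟨⟨E.α a, h⟩, Subgroup.mem_subgroupOf.2 ⟨a, rfl⟩, rfl⟩
  have hWL : E.WQ ≤ L := fun x hx => by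
    obtain ⟨w, -, h, rfl⟩ := (mem_WQ E).1 hx
    exact hmem w h
  have hC : E.q _ (W_mem_CV E).2.2 ∈ L := hmem _ _
  have hCW : E.q _ (W_mem_CV E).2.2 ∉ E.WQ := fun hm => by
    obtain ⟨w, hw, hwm, he⟩ := (mem_WQ E).1 hm
    obtain ⟨v, hv, hve⟩ := (mem_N E).1 (QuotientGroup.eq.1 he.symm)
    refine four_facts.2.2.2.2.2.2.2.2.2.1 v hv w hw (E.inj ?_)
    rw [map_mul, commute_V E hwm (mem_V.2 hv) |>.symm, hve]
    simp
  have hlt : E.WQ < L := lt_of_le_of_ne hWL fun e => hCW (e ▸ hC)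
  have h1 := Subgroup.card_dvd_of_le hWL
  have h2 := Subgroup.card_subgroup_dvd_card L
  have h3 : Nat.card E.WQ < Nat.card L :=
    lt_of_not_ge fun hge => hlt.ne (Subgroup.eq_of_le_of_card_ge hWL hge)
  rw [card_WQ E] at h1 h3
  rw [h12] at h2
  have hL : Nat.card L = 12 := by
    have := Nat.le_of_dvd (by norm_num) h2
    interval_cases hn : Nat.card L <;> omega
  have hLT : L = ⊤ := Subgroup.eq_top_of_card_eq L (by rw [hL, h12])
  have hV : E.CV ≤ E.α.range := by
    intro c hc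
    obtain ⟨d, hd, he⟩ : (QuotientGroup.mk ⟨c, hc⟩ : E.Q) ∈ L := hLT ▸ Subgroup.mem_top _
    obtain ⟨v, -, hv⟩ := (mem_N E).1 (QuotientGroup.eq.1 he)
    have hdr : (d : G) ∈ E.α.range := Subgroup.mem_subgroupOf.1 hd
    have := mul_mem hdr (⟨v, hv⟩ : _ ∈ E.α.range)
    simpa using this
  exact E.equiv_of_cent_le fun g hg =>
    E.CT_le E.α.range hV ⟨eR, rfl⟩ ((mem_CT E).2 hg)

/-- The data of the ninth point. -/
structure Ninth where
  /-- the homomorphism of `A₅` -/
  ψ : alternatingGroup (Fin 5) →* G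
  four : ψ (g5 0) = E.α (g8 4)
  five : ψ (g5 1) = E.α (g8 5)
  mem : ∀ u, ψ u ∈ E.CV
  inj : Function.Injective ψ
  cover : ∀ y ∈ E.CV, ∃ u, ∃ v ∈ [1, eT, eP, eT * eP], y = ψ u * E.α v

include E in
theorem exists_ninth [Finite G] (h60 : Nat.card E.Q = 60) : Nonempty E.Ninth := by
  obtain ⟨e⟩ := (cent_Q E).equiv_altFive h60
  obtain ⟨hx4, hx5⟩ := E.x_mem_CV
  obtain ⟨-, -, -, r45, c4, c5, -, -, -⟩ := small_facts
  set a := E.q _ hx4 with ha
  set b := E.q _ hx5 with hb
  have hone : ∀ {x : alternatingGroup (Fin 8)} (h : E.α x ∈ E.CV), x = 1 → E.q _ h = 1 := by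
    intro x h hx
    exact (congrArg QuotientGroup.mk (Subtype.ext (by simp [hx]))).trans rfl
  have hpow : ∀ {x : alternatingGroup (Fin 8)} (h : E.α x ∈ E.CV), x ^ 3 = 1 → E.q _ h ^ 3 = 1 := by
    intro x h hx
    rw [q, ← QuotientGroup.mk_pow]
    exact (congrArg QuotientGroup.mk (Subtype.ext (by simp [← map_pow, hx]))).trans rfl
  have ha3 : a ^ 3 = 1 := hpow hx4 c4
  have hb3 : b ^ 3 = 1 := hpow hx5 c5
  have ha1 : a ≠ 1 := fun h =>
    map_not_mem_N E hx4 four_facts.2.2.2.2.2.1 ((QuotientGroup.eq_one_iff _).1 h)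
  have hb1 : b ≠ 1 := fun h =>
    map_not_mem_N E hx5 four_facts.2.2.2.2.2.2.2.2.1 ((QuotientGroup.eq_one_iff _).1 h)
  have hab : a ≠ b := fun h => by
    rw [ha, hb, q, q, QuotientGroup.eq] at h
    refine map_not_mem_N E (a := (g8 4)⁻¹ * g8 5)
      (by rw [map_mul, map_inv]; exact mul_mem (inv_mem hx4) hx5) four_facts.2.2.2.2.2.2.1 ?_
    convert h using 1
    exact Subtype.ext (by simp)
  have hab1 : a * b ≠ 1 := fun h => by
    rw [ha, hb, q, q, ← QuotientGroup.mk_mul, QuotientGroup.eq_one_iff] at h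
    refine map_not_mem_N E (a := g8 4 * g8 5)
      (by rw [map_mul]; exact mul_mem hx4 hx5) four_facts.2.2.2.2.2.2.2.1 ?_
    convert h using 1
    exact Subtype.ext (by simp)
  have hab2 : a * b * (a * b) = 1 := by
    rw [ha, hb, q, q, ← QuotientGroup.mk_mul, ← QuotientGroup.mk_mul]
    exact (congrArg QuotientGroup.mk (Subtype.ext (by
      simp only [Subgroup.coe_mul]
      rw [← map_mul, ← map_mul, r45, map_one]; rfl))).trans rfl
  obtain ⟨c, hc3, hca, hcb⟩ := five_third (e a) (e b) (by rw [← map_pow, ha3, map_one])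
    (by rw [← map_pow, hb3, map_one]) (fun h => ha1 (e.injective (h.trans (map_one e).symm)))
    (fun h => hb1 (e.injective (h.trans (map_one e).symm))) (fun h => hab (e.injective h))
    (fun h => hab1 (e.injective ((map_mul e a b).trans (h.trans (map_one e).symm))))
    (by rw [← map_mul, ← map_mul, hab2, map_one])
  obtain ⟨y, hy⟩ := QuotientGroup.mk_surjective (e.symm c)
  have hy3 : y ^ 3 ∈ E.N := by
    rw [← QuotientGroup.eq_one_iff, QuotientGroup.mk_pow, hy, ← map_pow, hc3, map_one]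
  -- the lift of order three
  set w : E.CV := y ^ 4 with hw
  have hwq : (QuotientGroup.mk w : E.Q) = e.symm c := by
    rw [hw, QuotientGroup.mk_pow, hy, ← map_pow, pow_succ, hc3, one_mul]
  have hsqV : ∀ v ∈ [1, eT, eP, eT * eP], v * v = 1 := by
    simp only [List.forall_mem_cons, List.not_mem_nil, false_implies, implies_true, and_true]
    decide +kernel
  have hw3 : (w : G) ^ 3 = 1 := by
    obtain ⟨v, hv, hve⟩ := (mem_N E).1 hy3
    rw [hw, SubmonoidClass.coe_pow, ← pow_mul, show 4 * 3 = 3 * 2 * 2 from rfl, pow_mul, pow_mul,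
      ← SubmonoidClass.coe_pow, ← hve, pow_two, pow_two, ← map_mul, ← map_mul, hsqV v hv, mul_one,
      map_one]
  -- elements with involution image square to one
  have hsq : ∀ {z : E.CV}, (QuotientGroup.mk z : E.Q) * QuotientGroup.mk z = 1 →
      (z : G) * z = 1 := by
    intro z hz
    obtain ⟨g, -, v, hv, u, hu, he⟩ := E.exists_conj_VW (c := z)
      ((QuotientGroup.eq_one_iff _).1 hz)
    have hf : ∀ v ∈ [1, eT, eP, eT * eP], ∀ u ∈ [1, eW, eW', eW * eW'],
        v * u * (v * u) = 1 := by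
      simp only [List.forall_mem_cons, List.not_mem_nil, false_implies, implies_true, and_true]
      decide +kernel
    have h1 : g * (z : G) * g⁻¹ * (g * (z : G) * g⁻¹) = 1 := by
      rw [he, ← map_mul, hf v hv u hu, map_one]
    rw [conj_mul, conj_eq_one_iff] at h1
    exact h1
  have hrel : ∀ {x : alternatingGroup (Fin 8)} (h : E.α x ∈ E.CV),
      e (E.q _ h) * c * (e (E.q _ h) * c) = 1 → E.α x * (w : G) * (E.α x * (w : G)) = 1 := by
    intro x h hh
    refine hsq (z := ⟨E.α x, h⟩ * w) ?_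
    rw [QuotientGroup.mk_mul, hwq]
    refine e.injective ?_
    rw [map_mul, map_mul, e.apply_symm_apply, map_one]
    exact hh
  have r4 := hrel hx4 hca
  have r5 := hrel hx5 hcb
  have r54 : E.α (g8 5) * E.α (g8 4) * (E.α (g8 5) * E.α (g8 4)) = 1 := by
    rw [← map_mul, ← map_mul]
    have : g8 5 * g8 4 * (g8 5 * g8 4) = 1 := g8_rel.2 5 4 (by decide)
    rw [this, map_one]
  have flip : ∀ p q : G, p * q * (p * q) = 1 → q * p * (q * p) = 1 := fun p q h => by
    calc q * p * (q * p) = p⁻¹ * (p * q * (p * q)) * p := by group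
      _ = 1 := by rw [h]; group
  obtain ⟨ψ, hψ⟩ := exists_hom_carmichael 3 g5 g5_rel.1 g5_rel.2 closure_g5
    ![E.α (g8 4), E.α (g8 5), (w : G)]
    (fun i => by
      fin_cases i
      · show E.α (g8 4) ^ 3 = 1
        rw [← map_pow, c4, map_one]
      · show E.α (g8 5) ^ 3 = 1
        rw [← map_pow, c5, map_one]
      · exact hw3)
    (fun i j hij => by
      fin_cases i <;> fin_cases j
      · exact absurd rfl hij
      · show E.α (g8 4) * E.α (g8 5) * (E.α (g8 4) * E.α (g8 5)) = 1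
        exact flip _ _ r54
      · exact r4
      · exact r54
      · exact absurd rfl hij
      · exact r5
      · exact flip _ _ r4
      · exact flip _ _ r5
      · exact absurd rfl hij)
  have hmem : ∀ u, ψ u ∈ E.CV := by
    intro u
    have hu : u ∈ Subgroup.closure (Set.range g5) := closure_g5 ▸ Subgroup.mem_top u
    induction hu using Subgroup.closure_induction with
    | mem x hx =>
      obtain ⟨i, rfl⟩ := hx
      rw [hψ i]
      fin_cases i
      exacts [hx4, hx5, w.2]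
    | one => rw [map_one]; exact one_mem _
    | mul x y _ _ hx hy => rw [map_mul]; exact mul_mem hx hy
    | inv x _ hx => rw [map_inv]; exact inv_mem hx
  let ψC : alternatingGroup (Fin 5) →* E.CV := ψ.codRestrict E.CV hmem
  let ψQ : alternatingGroup (Fin 5) →* E.Q := (QuotientGroup.mk' E.N).comp ψC
  haveI : IsSimpleGroup (alternatingGroup (Fin 5)) := alternatingGroup.isSimpleGroup (by simp)
  have hinjQ : Function.Injective ψQ := by
    rcases ψQ.normal_ker.eq_bot_or_eq_top with h | h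
    · exact (MonoidHom.ker_eq_bot_iff _).1 h
    · exfalso
      have hm : g5 0 ∈ ψQ.ker := h ▸ Subgroup.mem_top _
      rw [MonoidHom.mem_ker] at hm
      refine ha1 (Eq.trans ?_ hm)
      exact congrArg QuotientGroup.mk (Subtype.ext (hψ 0).symm)
  have hA5 : Nat.card (alternatingGroup (Fin 5)) = 60 := by
    rw [nat_card_alternatingGroup, Nat.card_fin]; rfl
  have hsurQ : Function.Surjective ψQ :=
    (hinjQ.bijective_of_nat_card_le (by rw [h60, hA5])).2
  refine ⟨⟨ψ, hψ 0, hψ 1, hmem, fun u v h => hinjQ ?_, fun y hy => ?_⟩⟩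
  · exact congrArg QuotientGroup.mk (Subtype.ext h)
  · obtain ⟨u, hu⟩ := hsurQ (QuotientGroup.mk ⟨y, hy⟩)
    obtain ⟨v, hv, hve⟩ := (mem_N E).1 (QuotientGroup.eq.1 hu)
    exact ⟨u, v, hv, by rw [hve]; simp [ψC]⟩

namespace Ninth

variable {E} (K : E.Ninth)

/-- The ninth point's three cycle. -/
noncomputable def om : G := K.ψ (g5 2)

include K in
theorem exists_of_cube {y : G} (hy : y ∈ E.CV) (h3 : y ^ 3 = 1) :
    ∃ u : alternatingGroup (Fin 5), u ^ 3 = 1 ∧ K.ψ u = y := by
  obtain ⟨u, v, hv, rfl⟩ := K.cover y hy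
  have hc : Commute (K.ψ u) (E.α v) := commute_V E (K.mem u) (mem_V.2 hv)
  have hv2 : v * v = 1 := by
    have : ∀ v ∈ [1, eT, eP, eT * eP], v * v = 1 := by
      simp only [List.forall_mem_cons, List.not_mem_nil, false_implies, implies_true, and_true]
      decide +kernel
    exact this v hv
  have hv3 : E.α v ^ 3 = E.α v := by rw [← map_pow, pow_succ, pow_two, hv2, one_mul]
  rw [hc.mul_pow, hv3, ← map_pow] at h3
  -- the element `v` is a value of `ψ`, hence trivial
  have e : E.α v = K.ψ (u ^ 3)⁻¹ := by rw [map_inv]; exact eq_inv_of_mul_eq_one_right h3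
  have hcen : ∀ z, u ^ 3 * z = z * u ^ 3 := fun z => by
    apply K.inj
    have := commute_V E (K.mem z) (mem_V.2 hv)
    rw [e, map_inv] at this
    rw [map_mul, map_mul]
    exact ((Commute.inv_right_iff.1 this).symm).eq
  have hu3 : u ^ 3 = 1 := by
    have : ∀ z : alternatingGroup (Fin 5), z * g5 0 = g5 0 * z → z * g5 1 = g5 1 * z → z = 1 := by
      decide +kernel
    exact this _ (hcen _) (hcen _)
  refine ⟨u, hu3, ?_⟩
  rw [e, hu3, inv_one, map_one, mul_one]

theorem om_mem : K.om ∈ E.CV := K.mem _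

include K in
theorem om_cube : K.om ^ 3 = 1 := by
  rw [om, ← map_pow, g5_rel.1, map_one]

include K in
theorem conj_R_om : E.α eR * K.om * (E.α eR)⁻¹ = K.om := by
  obtain ⟨-, -, -, -, -, -, -, e45, e54⟩ := small_facts
  have hRT : eR * eT = eT * eR := by decide +kernel
  have hRP : eR * (eP * eT) * eR⁻¹ = eP := by decide +kernel
  set r := E.α eR with hr
  have hy : r * K.om * r⁻¹ ∈ E.CV := by
    obtain ⟨h1, h2⟩ := (mem_CV E).1 K.om_mem
    refine (mem_CV E).2 ⟨?_, ?_⟩
    · have : r * E.α eT * r⁻¹ = E.α eT := by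
        rw [hr, ← map_mul, hRT, map_mul, mul_inv_cancel_right]
      rw [← this, conj_mul, conj_mul, h1]
    · have : r * E.α (eP * eT) * r⁻¹ = E.α eP := by
        rw [hr, ← map_inv, ← map_mul, ← map_mul, hRP]
      have hc : K.om * (E.α eP * E.α eT) = E.α eP * E.α eT * K.om :=
        (Commute.mul_right h2 h1).eq
      rw [← this, conj_mul, conj_mul, map_mul, hc]
  obtain ⟨u, hu, hue⟩ := K.exists_of_cube hy (by rw [conj_pow, om_cube K, mul_one, mul_inv_cancel])
  have hu2 : u = g5 2 := by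
    refine five_unique u hu (K.inj ?_) (K.inj ?_)
    · have := g5_rel.2 1 2 (by decide)
      simp only [map_mul, map_one, hue, K.four]
      rw [← e54]
      simp only [map_mul, map_inv, ← hr]
      rw [conj_mul, conj_mul, conj_eq_one_iff, ← K.five, om, ← map_mul, ← map_mul, this, map_one]
    · have := g5_rel.2 0 2 (by decide)
      simp only [map_mul, map_one, hue, K.five]
      rw [← e45]
      simp only [map_mul, map_inv, ← hr]
      rw [conj_mul, conj_mul, conj_eq_one_iff, ← K.four, om, ← map_mul, ← map_mul, this, map_one]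
  rw [← hue, hu2, om]

include K in
theorem fixed_R (y : G) (hy : y ∈ E.CV) (h3 : y ^ 3 = 1) (hR : y * E.α eR = E.α eR * y) :
    y = 1 ∨ y = K.om ∨ y = K.om⁻¹ := by
  obtain ⟨u, hu, rfl⟩ := K.exists_of_cube hy h3
  obtain ⟨-, -, -, -, -, -, -, e45, e54⟩ := small_facts
  have hhom : ((MulAut.conj (E.α eR)).toMonoidHom.comp K.ψ) = K.ψ.comp sigma5 := by
    refine MonoidHom.eq_of_eqOn_dense closure_g5 ?_
    rintro _ ⟨i, rfl⟩
    simp only [MonoidHom.comp_apply, MulEquiv.coe_toMonoidHom, MulAut.conj_apply]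
    fin_cases i
    · show _ = K.ψ (sigma5 (g5 0))
      rw [sigma5_gen.1]
      show E.α eR * K.ψ (g5 0) * (E.α eR)⁻¹ = _
      rw [K.four, K.five, ← map_inv, ← map_mul, ← map_mul, e45]
    · show _ = K.ψ (sigma5 (g5 1))
      rw [sigma5_gen.2.1]
      show E.α eR * K.ψ (g5 1) * (E.α eR)⁻¹ = _
      rw [K.four, K.five, ← map_inv, ← map_mul, ← map_mul, e54]
    · show _ = K.ψ (sigma5 (g5 2))
      rw [sigma5_gen.2.2]
      exact K.conj_R_om
  have hfix : sigma5 u = u := by
    apply K.inj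
    have := DFunLike.congr_fun hhom u
    simp only [MonoidHom.comp_apply, MulEquiv.coe_toMonoidHom, MulAut.conj_apply] at this
    rw [← this, ← hR, mul_inv_cancel_right]
  have hc : swap (2 : Fin 5) 3 * (u : Perm (Fin 5)) = (u : Perm (Fin 5)) * swap (2 : Fin 5) 3 := by
    have := congrArg Subtype.val hfix
    rw [sigma5_apply] at this
    exact mul_inv_eq_iff_eq_mul.1 this
  rcases five_fixed u hu hc with rfl | rfl | rfl
  · exact Or.inl (map_one _)
  · exact Or.inr (Or.inl rfl)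
  · exact Or.inr (Or.inr (map_inv _ _))

include K in
theorem conj_H_om [Finite G] : E.α eH * K.om * (E.α eH)⁻¹ = K.om := by
  obtain ⟨h3, hT, hR, -⟩ := eH_facts
  set k := E.α eH with hk
  have hkT : k * E.α eT * k⁻¹ = E.α eT * E.α eR := by
    rw [hk, ← map_inv, ← map_mul, ← map_mul, hT, map_mul]
  have hkR : k * E.α eR * k⁻¹ = E.α eT := by rw [hk, ← map_inv, ← map_mul, ← map_mul, hR]
  have hT2 : E.α eT * E.α eT = 1 := by rw [← map_mul, named_facts.1, map_one]
  obtain ⟨hmT, hmP⟩ := (mem_CV E).1 K.om_mem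
  have hmR : K.om * E.α eR = E.α eR * K.om := (mul_inv_eq_iff_eq_mul.1 K.conj_R_om).symm
  set y := k * K.om * k⁻¹ with hy
  have hy3 : y ^ 3 = 1 := by rw [hy, conj_pow, om_cube K, mul_one, mul_inv_cancel]
  have hyT : y * E.α eT = E.α eT * y := by rw [← hkR, hy, conj_mul, conj_mul, hmR]
  have hyTR : y * (E.α eT * E.α eR) = E.α eT * E.α eR * y := by
    rw [← hkT, hy, conj_mul, conj_mul, hmT]
  have hyR : y * E.α eR = E.α eR * y := by
    calc y * E.α eR = E.α eT * (E.α eT * y) * E.α eR := by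
          rw [← mul_assoc (E.α eT), hT2, one_mul]
      _ = E.α eT * (y * (E.α eT * E.α eR)) := by rw [← hyT]; group
      _ = E.α eT * E.α eT * (E.α eR * y) := by rw [hyTR]; group
      _ = _ := by rw [hT2, one_mul]
  have hyP : y * E.α eP = E.α eP * y := by
    rcases E.conj_P hyT with e | e
    · exact mul_inv_eq_iff_eq_mul.1 e
    · exfalso
      rw [map_mul] at e
      have hyt : y * E.α eT * y⁻¹ = E.α eT := by rw [hyT, mul_inv_cancel_right]
      have e2 : y * (E.α eP * E.α eT) * y⁻¹ = E.α eP := by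
        rw [← conj_mul, e, hyt, mul_assoc, hT2, mul_one]
      have : E.α eP = E.α (eP * eT) := by
        calc E.α eP = y ^ 3 * E.α eP * (y ^ 3)⁻¹ := by rw [hy3]; group
          _ = y * (y * (y * E.α eP * y⁻¹) * y⁻¹) * y⁻¹ := by
            simp only [pow_succ, pow_zero, one_mul, mul_inv_rev, mul_assoc]
          _ = _ := by rw [e, e2, e, map_mul]
      exact absurd (E.inj this) (by decide +kernel)
  rcases K.fixed_R y ((mem_CV E).2 ⟨hyT, hyP⟩) hy3 hyR with e | e | e
  · exfalso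
    rw [hy, conj_eq_one_iff] at e
    exact small_facts.2.2.1 (K.inj (e.trans (map_one _).symm))
  · exact e
  · exfalso
    have e' : k * K.om⁻¹ * k⁻¹ = K.om := by rw [← conj_inv, ← hy, e, inv_inv]
    have h := congrArg (fun z => k * z * k⁻¹) e
    change k * y * k⁻¹ = k * K.om⁻¹ * k⁻¹ at h
    rw [e', hy] at h
    have hk3 : k ^ 3 = 1 := by rw [hk, ← map_pow, h3, map_one]
    have : K.om = K.om⁻¹ := by
      calc K.om = k ^ 3 * K.om * (k ^ 3)⁻¹ := by rw [hk3]; group
        _ = k * (k * (k * K.om * k⁻¹) * k⁻¹) * k⁻¹ := by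
          simp only [pow_succ, pow_zero, one_mul, mul_inv_rev, mul_assoc]
        _ = K.om⁻¹ := by rw [h]; exact e
    have hsq : K.om * K.om = 1 := by nth_rw 1 [this]; exact inv_mul_cancel _
    have h1 := om_cube K
    rw [pow_succ, pow_two, hsq, one_mul] at h1
    exact small_facts.2.2.1 (K.inj (h1.trans (map_one _).symm))

include K in
/-- The relations of the ninth point with the six others. -/
theorem om_rel [Finite G] (i : Fin 6) :
    E.α (g8 i) * K.om * (E.α (g8 i) * K.om) = 1 := by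
  obtain ⟨-, -, -, a0, a1, a2, a3⟩ := eH_facts
  have step : ∀ {i j : Fin 6}, eH * g8 i * eH⁻¹ = g8 j →
      E.α (g8 i) * K.om * (E.α (g8 i) * K.om) = 1 →
      E.α (g8 j) * K.om * (E.α (g8 j) * K.om) = 1 := by
    intro i j hij h
    have e : E.α (g8 j) * K.om = E.α eH * (E.α (g8 i) * K.om) * (E.α eH)⁻¹ := by
      conv_lhs => rw [← hij, ← K.conj_H_om]
      simp only [map_mul, map_inv]
      group
    rw [e, conj_mul, h, mul_one, mul_inv_cancel]
  have h4 : E.α (g8 4) * K.om * (E.α (g8 4) * K.om) = 1 := by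
    rw [← K.four, om, ← map_mul, ← map_mul, g5_rel.2 0 2 (by decide), map_one]
  have h5 : E.α (g8 5) * K.om * (E.α (g8 5) * K.om) = 1 := by
    rw [← K.five, om, ← map_mul, ← map_mul, g5_rel.2 1 2 (by decide), map_one]
  fin_cases i
  exacts [step a0 h4, step a1 h5, step a2 (step a0 h4), step a3 (step a1 h5), h4, h5]

include K in
theorem equiv_nine [Finite G] : Nonempty (G ≃* alternatingGroup (Fin 9)) := by
  let x : Fin 7 → G := Fin.snoc (fun i : Fin 6 => E.α (g8 i)) K.om
  have hxc : ∀ i : Fin 6, x i.castSucc = E.α (g8 i) := fun i => Fin.snoc_castSucc _ _ i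
  have hxl : x (Fin.last 6) = K.om := Fin.snoc_last _ _
  have hx3 : ∀ i, x i ^ 3 = 1 := fun i => by
    induction i using Fin.lastCases with
    | last => rw [hxl, om_cube K]
    | cast i => rw [hxc, ← map_pow, g8_rel.1, map_one]
  have hx2 : ∀ i j, i ≠ j → x i * x j * (x i * x j) = 1 := fun i j hij => by
    induction i using Fin.lastCases with
    | last =>
      induction j using Fin.lastCases with
      | last => exact absurd rfl hij
      | cast j =>
        rw [hxl, hxc]
        calc K.om * E.α (g8 j) * (K.om * E.α (g8 j))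
            = K.om * (E.α (g8 j) * K.om * (E.α (g8 j) * K.om)) * K.om⁻¹ := by group
          _ = 1 := by rw [K.om_rel j]; group
    | cast i =>
      induction j using Fin.lastCases with
      | last => rw [hxl, hxc]; exact K.om_rel i
      | cast j =>
        rw [hxc, hxc, ← map_mul, ← map_mul,
          g8_rel.2 i j (fun e => hij (congrArg Fin.castSucc e)), map_one]
  obtain ⟨Φ, hΦ⟩ := exists_hom_carmichael 7 g9 g9_rel.1 g9_rel.2 closure_g9 x hx3 hx2
  have hΦ8 : ∀ i : Fin 6, Φ (g9 i.castSucc) = E.α (g8 i) := fun i => by rw [hΦ, hxc]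
  set H := Φ.range with hH
  have h8 : E.α.range ≤ H := by
    rw [MonoidHom.range_eq_map, ← closure_g8, MonoidHom.map_closure, Subgroup.closure_le]
    rintro _ ⟨_, ⟨i, rfl⟩, rfl⟩
    exact ⟨g9 i.castSucc, hΦ8 i⟩
  have h5 : K.ψ.range ≤ H := by
    rw [MonoidHom.range_eq_map, ← closure_g5, MonoidHom.map_closure, Subgroup.closure_le]
    rintro _ ⟨_, ⟨i, rfl⟩, rfl⟩
    fin_cases i
    · exact h8 ⟨g8 4, K.four.symm⟩
    · exact h8 ⟨g8 5, K.five.symm⟩
    · exact ⟨g9 (Fin.last 6), (hΦ _).trans hxl⟩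
  have hV : E.CV ≤ H := fun y hy => by
    obtain ⟨u, v, -, rfl⟩ := K.cover y hy
    exact mul_mem (h5 ⟨u, rfl⟩) (h8 ⟨v, rfl⟩)
  haveI : IsSimpleGroup (alternatingGroup (Fin 9)) := alternatingGroup.isSimpleGroup (by simp)
  have hinj : Function.Injective Φ := by
    rcases Φ.normal_ker.eq_bot_or_eq_top with h | h
    · exact (MonoidHom.ker_eq_bot_iff _).1 h
    · exfalso
      have hm : g9 4 ∈ Φ.ker := h ▸ Subgroup.mem_top _
      rw [MonoidHom.mem_ker] at hm
      have h4 : E.α (g8 4) = 1 := by rw [← hΦ8 4]; exact hm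
      rw [← K.four] at h4
      exact small_facts.1 (K.inj (h4.trans (map_one _).symm))
  have hword : ∀ L : List ℕ, (∀ a ∈ L, a < 6) →
      Φ (wprod (fun i => g9 (Fin.ofNat 7 i)) L) = E.α (wprod (fun i => g8 (Fin.ofNat 6 i)) L) := by
    intro L hL
    rw [map_wprod Φ _ (fun i => E.α (g8 (Fin.ofNat 6 i))) L fun a ha => ?_,
      map_wprod E.α _ (fun i => E.α (g8 (Fin.ofNat 6 i))) L fun a _ => rfl]
    have := hL a ha
    rw [← hΦ8]
    refine congrArg (fun i => Φ (g9 i)) (Fin.ext ?_)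
    simp [Fin.ofNat, Nat.mod_eq_of_lt this, Nat.mod_eq_of_lt (show a < 7 by omega)]
  have hS : Φ (wprod (fun i => g9 (Fin.ofNat 7 i)) wordS) = E.α eS := by
    rw [hword wordS (by decide), c3word_facts.1]
  have hT : Φ (wprod (fun i => g9 (Fin.ofNat 7 i)) wordT) = E.α eT := by
    rw [hword wordT (by decide), c3word_facts.2.1]
  have htop := eq_top_of_classes E.hs E.orderOf_T E.not_fus_T H (fun g hg => h8 (E.mem_range hg))
    (fun g hg => E.CT_le H hV (h8 ⟨eR, rfl⟩) ((mem_CT E).2 hg))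
    (fun w hw h2 => by
      obtain ⟨a, rfl⟩ := hw
      rw [orderOf_injective Φ hinj] at h2
      rcases invol_nine h2 with h | h <;> obtain ⟨c, hc⟩ := isConj_iff.1 h.symm
      · refine Or.inl ⟨Φ c, ⟨c, rfl⟩, ?_⟩
        have := congrArg Φ hc
        rw [map_mul, map_mul, map_inv, hS, E.map_S] at this
        exact this
      · refine Or.inr ⟨Φ c, ⟨c, rfl⟩, ?_⟩
        have := congrArg Φ hc
        rw [map_mul, map_mul, map_inv, hT] at this
        exact this)
  exact ⟨(MulEquiv.ofBijective Φ ⟨hinj, MonoidHom.range_eq_top.1 htop⟩).symm⟩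

end Ninth

include E in
/-- The two possibilities. -/
theorem alt_of_emb [Finite G] :
    Nonempty (G ≃* alternatingGroup (Fin 8)) ∨ Nonempty (G ≃* alternatingGroup (Fin 9)) := by
  rcases (cent_Q E).cases E.card_Q_gt with ⟨h, -⟩ | h
  · exact Or.inl (E.equiv_eight h)
  · obtain ⟨K⟩ := E.exists_ninth h
    exact Or.inr K.equiv_nine

end Emb

end CfsgLib.Recog.QSThree.Alt
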