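import Cfsg.Agent.Lib.Recog.QSThree.AltNorm
import Cfsg.Agent.Lib.Solvable.Gaschutz

/-!
# Type A8: a complement in the normaliser of the subgroup of class 2, and pairs
-/

set_option autoImplicit false
set_option maxRecDepth 100000

namespace CfsgLib.Recog.QSThree.Alt

open CfsgLib.InvChar.Coset

universe u

variable {G : Type u} [Group G] {s : G} (D : Data tabA s)

/-- The subgroup of class 2 as a list of numbers. -/
def wList : List ℕ := [0, 5, 10, 15, 16, 21, 26, 31]

/-- Position in `wList`. -/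
def wPos (i : ℕ) : ℕ := wList.findIdx (fun x => Nat.beq x i)

/-- Image under a map listed on `wList`. -/
def wApp (f : List ℕ) (i : ℕ) : ℕ := f.getD (wPos i) 0

theorem wList_facts : wList.all (fun i => Nat.blt i 192 && inW 2 i && (wList.all fun j =>
    wList.contains (tabA.mul i j)) && Nat.blt (wPos i) 8 && Nat.beq (wList.getD (wPos i) 0) i &&
      Tab.all192 fun k => wList.contains (tabA.conj k i)) = true ∧
    Tab.all192 (fun i => !inW 2 i || wList.contains i) = true := by
  constructor <;> decide +kernel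

theorem wList_get {i : ℕ} (hi : i ∈ wList) :
    i < 192 ∧ inW 2 i = true ∧ (∀ j ∈ wList, tabA.mul i j ∈ wList) ∧ wPos i < 8 ∧
      wList.getD (wPos i) 0 = i ∧ ∀ k < 192, tabA.conj k i ∈ wList := by
  have h := List.all_eq_true.1 wList_facts.1 i hi
  simp only [Bool.and_eq_true] at h
  exact ⟨by simpa [Nat.blt] using h.1.1.1.1.1, h.1.1.1.1.2,
    fun j hj => by simpa using List.all_eq_true.1 h.1.1.1.2 j hj,
    by simpa [Nat.blt] using h.1.1.2, Nat.eq_of_beq_eq_true h.1.2,
    fun k hk => by simpa using Tab.all192_get h.2 hk⟩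

theorem wMap {F : ℕ → ℕ} {i : ℕ} (hi : i ∈ wList) : wApp (wList.map F) i = F i := by
  obtain ⟨-, -, -, hp, hg, -⟩ := wList_get hi
  have hl : wPos i < (wList.map F).length := by simpa [wList] using hp
  have hl' : wPos i < wList.length := by simpa [wList] using hp
  rw [wApp, List.getD_eq_getElem _ _ hl, List.getElem_map, ← List.getD_eq_getElem _ 0 hl', hg]

/-- Abbreviation: the subgroup of class 2. -/
noncomputable abbrev w2 : Subgroup G := wSub D (c := 2) (by simp [Six])

/-- The action of a number on `wList`. -/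
noncomputable def conjW (k : ℕ) : List ℕ := wList.map (tabA.conj k)

/-- The trivial action. -/
def idW : List ℕ := wList

/-- Products of pairs (translation, action). -/
noncomputable def pMul (a b : ℕ × List ℕ) : ℕ × List ℕ :=
  (tabA.mul a.1 (wApp a.2 b.1), b.2.map (wApp a.2))

/-- The pair of a word. -/
noncomputable def pWord (g : List (ℕ × List ℕ)) (w : List ℕ) : ℕ × List ℕ :=
  w.foldr (fun x p => pMul (g.getD x (0, idW)) p) (0, idW)

/-- A complement of the subgroup of class 2 in its normaliser. -/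
structure Compl where
  /-- the complement -/
  K : Subgroup G
  le : K ≤ Subgroup.normalizer (w2 D : Set G)
  inf : ∀ x ∈ K, x ∈ w2 D → x = 1
  split : ∀ n ∈ Subgroup.normalizer (w2 D : Set G), ∃ w ∈ w2 D, w⁻¹ * n ∈ K

variable {D} (C : Compl D)

/-- The element has the given pair. -/
def Val (g : G) (p : ℕ × List ℕ) : Prop :=
  p.1 ∈ wList ∧ p.2.length = 8 ∧ ∃ k ∈ C.K, g = D.el p.1 * k ∧
    ∀ i ∈ wList, wApp p.2 i ∈ wList ∧ k * D.el i * k⁻¹ = D.el (wApp p.2 i)

variable {C}

theorem val_mul {g h : G} {p q : ℕ × List ℕ} (hg : Val C g p) (hh : Val C h q) :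
    Val C (g * h) (pMul p q) := by
  obtain ⟨hp, hpl, k, hk, rfl, hka⟩ := hg
  obtain ⟨hq, hql, l, hl, rfl, hla⟩ := hh
  obtain ⟨hm, he⟩ := hka _ hq
  refine ⟨(wList_get hp).2.2.1 _ hm, by simp [pMul, hql], k * l, mul_mem hk hl, ?_, ?_⟩
  · show _ = D.el (tabA.mul p.1 (wApp p.2 q.1)) * (k * l)
    rw [← D.el_mul (wList_get hp).1 (wList_get hm).1, ← he]; group
  · intro i hi
    obtain ⟨h1, e1⟩ := hla i hi
    obtain ⟨h2, e2⟩ := hka _ h1
    have : wApp (q.2.map (wApp p.2)) i = wApp p.2 (wApp q.2 i) := by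
      obtain ⟨-, -, -, hp', -⟩ := wList_get hi
      have hlt : wPos i < q.2.length := by omega
      have hlt' : wPos i < (q.2.map (wApp p.2)).length := by simpa using hlt
      rw [show wApp (q.2.map (wApp p.2)) i = (q.2.map (wApp p.2)).getD (wPos i) 0 from rfl,
        List.getD_eq_getElem _ _ hlt', List.getElem_map,
        show wApp q.2 i = q.2.getD (wPos i) 0 from rfl, List.getD_eq_getElem _ _ hlt]
    simp only [pMul, this]
    refine ⟨h2, ?_⟩
    rw [← e2, ← e1]; group

theorem eq_of_val {g h : G} {p : ℕ × List ℕ} (hg : Val C g p) (hh : Val C h p) : g = h := by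
  obtain ⟨hp, -, k, hk, rfl, hka⟩ := hg
  obtain ⟨-, -, l, hl, rfl, hla⟩ := hh
  have hmem : l⁻¹ * k ∈ w2 D := by
    refine mem_of_centralizes D (c := 2) (by simp [Six]) fun w hw => ?_
    obtain ⟨i, hi, hiw, rfl⟩ := hw
    have hiL : i ∈ wList := by simpa [hiw] using Tab.all192_get wList_facts.2 hi
    calc l⁻¹ * k * D.el i = l⁻¹ * (k * D.el i * k⁻¹) * k := by group
      _ = l⁻¹ * (l * D.el i * l⁻¹) * k := by rw [(hka i hiL).2, (hla i hiL).2]
      _ = D.el i * (l⁻¹ * k) := by group
  have := C.inf _ (mul_mem (inv_mem hl) hk) hmem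
  rw [inv_mul_eq_one] at this
  rw [this]

theorem val_one : Val C 1 (0, idW) := by
  refine ⟨by simp [wList], by simp [idW, wList], 1, one_mem _, by rw [D.el_zero]; group, ?_⟩
  intro i hi
  have : wApp idW i = i := (wList_get hi).2.2.2.2.1
  rw [this]; exact ⟨hi, by group⟩

theorem val_word {g : List (ℕ × List ℕ)} {t : ℕ → G}
    (h : ∀ x < g.length, Val C (t x) (g.getD x (0, idW))) :
    ∀ w : List ℕ, (∀ x ∈ w, x < g.length) → Val C (wprod t w) (pWord g w) := by
  intro w
  induction w with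
  | nil => exact fun _ => val_one
  | cons x w ih =>
    intro hw
    have e : wprod t (x :: w) = t x * wprod t w := by simp [wprod]
    rw [e]
    exact val_mul (h x (hw x List.mem_cons_self)) (ih fun y hy => hw y (List.mem_cons_of_mem _ hy))

theorem val_el {k : ℕ} (hk : k < 192) :
    ∃ w ∈ wList, Val C (D.el k) (w, conjW k) := by
  have hn : D.el k ∈ Subgroup.normalizer (w2 D : Set G) :=
    centralizer_le_normalizer D _ (Subgroup.mem_centralizer_singleton_iff.2 (D.el_comm_s hk))
  obtain ⟨w, ⟨i, hi, hiw, rfl⟩, hK⟩ := C.split _ hn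
  have hiL : i ∈ wList := by simpa [hiw] using Tab.all192_get wList_facts.2 hi
  refine ⟨i, hiL, hiL, by simp [conjW, wList], _, hK, by group, fun j hj => ?_⟩
  rw [conjW, wMap hj]
  have hc := (wList_get hj).2.2.2.2.2 k hk
  refine ⟨hc, ?_⟩
  have hcomm : Commute (D.el i) (D.el (tabA.conj k j)) := by
    have hm := tabA_ok.mul_lt hi (wList_get hc).1
    refine (comm_iff D hi (wList_get hc).1).2 ?_
    have : (wList.all fun a => wList.all fun b => tabA.comm a b) = true := by decide +kernel
    exact List.all_eq_true.1 (List.all_eq_true.1 this i hiL) _ hc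
  calc (D.el i)⁻¹ * D.el k * D.el j * ((D.el i)⁻¹ * D.el k)⁻¹
      = (D.el i)⁻¹ * (D.el k * D.el j * (D.el k)⁻¹) * D.el i := by group
    _ = D.el (tabA.conj k j) := by
      rw [D.el_conj tabA_ok hk (wList_get hj).1, mul_assoc, ← hcomm.eq]; group

theorem val_w {i : ℕ} (hi : i ∈ wList) : Val C (D.el i) (i, idW) := by
  obtain ⟨-, -, k, hk, e, hka⟩ := (val_one : Val C 1 (0, idW))
  exact ⟨hi, by simp [idW, wList], 1, one_mem _, by group,
    fun j hj => by
      have : wApp idW j = j := (wList_get hj).2.2.2.2.1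
      rw [this]; exact ⟨hj, by group⟩⟩

/-- The complement of the subgroup of class 2 inside the centraliser. -/
theorem compl_facts : ∃ S : List ℕ, S.length = 24 ∧ (S.all fun i => Nat.blt i 192 &&
    (S.all fun j => S.contains (tabA.mul i j)) && (Nat.beq i 0 || !inW 2 i)) = true ∧
    Tab.all192 (fun k => wList.any fun w => S.contains (tabA.mul w k)) = true ∧
    S.contains 0 = true := by
  exact ⟨[0, 6, 11, 13, 32, 38, 43, 45, 64, 70, 75, 77, 96, 102, 107, 109, 128, 134, 139, 141, 160, 166, 171, 173], by decide +kernel, by decide +kernel, by decide +kernel, by decide +kernel⟩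

variable (D) in
theorem exists_compl [Finite G] (hs : orderOf s = 2) (hF : Fus D 2) : Nonempty (Compl D) := by
  classical
  obtain ⟨S, -, hS, hcov, h0⟩ := compl_facts
  have hSget : ∀ i ∈ S, i < 192 ∧ (∀ j ∈ S, tabA.mul i j ∈ S) ∧ (i = 0 ∨ inW 2 i = false) := by
    intro i hi
    have h := List.all_eq_true.1 hS i hi
    simp only [Bool.and_eq_true, Bool.or_eq_true, Bool.not_eq_true'] at h
    exact ⟨by simpa [Nat.blt] using h.1.1, fun j hj => by simpa using List.all_eq_true.1 h.1.2 j hj,
      h.2.imp Nat.eq_of_beq_eq_true id⟩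
  have hc2 : Six 2 := by simp [Six]
  set N := Subgroup.normalizer (w2 D : Set G) with hNdef
  let A₀ : Subgroup G := Subgroup.closure {g | ∃ i ∈ S, D.el i = g}
  have hA₀ : ∀ g ∈ A₀, ∃ i ∈ S, D.el i = g := by
    intro g hg
    induction hg using Subgroup.closure_induction'' with
    | mem x hx => exact hx
    | inv_mem x hx =>
      obtain ⟨i, hi, rfl⟩ := hx
      obtain ⟨hlt, -⟩ := hSget i hi
      -- inverses by powers
      have hfin : ∀ n : ℕ, ∃ j ∈ S, D.el j = (D.el i) ^ n := by
        intro n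
        induction n with
        | zero => exact ⟨0, by simpa using h0, by rw [D.el_zero, pow_zero]⟩
        | succ n ih =>
          obtain ⟨j, hj, e⟩ := ih
          exact ⟨_, (hSget j hj).2.1 i hi, by
            rw [← D.el_mul (hSget j hj).1 hlt, e, pow_succ]⟩
      have hinv : (D.el i)⁻¹ = (D.el i) ^ (orderOf (D.el i) - 1) := by
        refine inv_eq_of_mul_eq_one_right ?_
        rw [← pow_succ', Nat.sub_add_cancel (orderOf_pos _), pow_orderOf_eq_one]
      rw [hinv]; exact hfin _
    | one => exact ⟨0, by simpa using h0, D.el_zero⟩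
    | mul x y _ _ hx hy =>
      obtain ⟨i, hi, rfl⟩ := hx
      obtain ⟨j, hj, rfl⟩ := hy
      exact ⟨_, (hSget i hi).2.1 j hj, (D.el_mul (hSget i hi).1 (hSget j hj).1).symm⟩
  let U : Subgroup N := (Subgroup.centralizer ({s} : Set G)).subgroupOf N
  let W : Subgroup N := (w2 D).subgroupOf N
  have hWn : W.Normal := by
    refine ⟨fun x hx g => ?_⟩
    rw [Subgroup.mem_subgroupOf] at hx ⊢
    simpa using (Subgroup.mem_normalizer_iff.1 g.2 (x : G)).1 hx
  have hWc : IsMulCommutative W := ⟨⟨fun x y => by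
    ext
    obtain ⟨i, hi, hiw, hxe⟩ := (Subgroup.mem_subgroupOf.1 x.2)
    obtain ⟨j, hj, hjw, hye⟩ := (Subgroup.mem_subgroupOf.1 y.2)
    simp only [Subgroup.coe_mul]
    rw [← hxe, ← hye]
    refine (comm_iff D hi hj).2 ?_
    have : (wList.all fun a => wList.all fun b => tabA.comm a b) = true := by decide +kernel
    exact List.all_eq_true.1 (List.all_eq_true.1 this i
      (by simpa [hiw] using Tab.all192_get wList_facts.2 hi)) _
      (by simpa [hjw] using Tab.all192_get wList_facts.2 hj)⟩⟩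
  have hKU : W ≤ U := fun x hx => by
    obtain ⟨i, hi, -, hxe⟩ := Subgroup.mem_subgroupOf.1 hx
    exact Subgroup.mem_subgroupOf.2 (Subgroup.mem_centralizer_singleton_iff.2 (hxe ▸ D.el_comm_s hi))
  have hAK : A₀.subgroupOf N ⊓ W = ⊥ := by
    rw [eq_bot_iff]
    rintro x ⟨hxA, hxW⟩
    obtain ⟨i, hi, hxe⟩ := hA₀ _ (Subgroup.mem_subgroupOf.1 hxA)
    obtain ⟨j, hj, hjw, hxe'⟩ := Subgroup.mem_subgroupOf.1 hxW
    have := D.el_inj (hSget i hi).1 hj (hxe.trans hxe'.symm)
    subst this
    rcases (hSget i hi).2.2 with h | h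
    · exact Subgroup.mem_bot.2 (Subtype.ext (by rw [← hxe, h, D.el_zero]; rfl))
    · simp [h] at hjw
  have hKA : W ⊔ A₀.subgroupOf N = U := by
    refine le_antisymm (sup_le hKU fun x hx => ?_) fun x hx => ?_
    · obtain ⟨i, hi, hxe⟩ := hA₀ _ (Subgroup.mem_subgroupOf.1 hx)
      exact Subgroup.mem_subgroupOf.2
        (Subgroup.mem_centralizer_singleton_iff.2 (hxe ▸ D.el_comm_s (hSget i hi).1))
    · obtain ⟨k, hk, hke⟩ :=
        D.mem.1 (Subgroup.mem_centralizer_singleton_iff.1 (Subgroup.mem_subgroupOf.1 hx))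
      obtain ⟨w, hw, hwS⟩ := List.any_eq_true.1 (Tab.all192_get hcov hk)
      have hw' := wList_get hw
      have hwN : D.el w ∈ N := centralizer_le_normalizer D hc2
        (Subgroup.mem_centralizer_singleton_iff.2 (D.el_comm_s hw'.1))
      have hwW : (⟨D.el w, hwN⟩ : N) ∈ W :=
        Subgroup.mem_subgroupOf.2 ⟨w, hw'.1, hw'.2.1, rfl⟩
      have e : x = (⟨D.el w, hwN⟩ : N)⁻¹ * (⟨D.el w, hwN⟩ * x) := by group
      rw [e]
      refine Subgroup.mul_mem_sup (inv_mem hwW) (Subgroup.mem_subgroupOf.2 ?_)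
      refine Subgroup.subset_closure ⟨tabA.mul w k, by simpa using hwS, ?_⟩
      rw [Subgroup.coe_mul, ← hke, D.el_mul hw'.1 hk]
  have hidx : U.index = 7 := by
    let f : N → {x : G // x ∈ w2 D ∧ x ≠ 1} := fun n => ⟨(n : G) * s * (n : G)⁻¹,
      (Subgroup.mem_normalizer_iff.1 n.2 s).1 (s_mem_wSub D hc2), fun e => by
        have : s = 1 := by
          calc s = (n : G)⁻¹ * ((n : G) * s * (n : G)⁻¹) * n := by group
            _ = 1 := by rw [e]; group
        rw [this, orderOf_one] at hs; omega⟩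
    have hf : ∀ a b : N, f a = f b ↔ a⁻¹ * b ∈ U := by
      intro a b
      rw [Subgroup.mem_subgroupOf, Subgroup.mem_centralizer_singleton_iff, Subtype.ext_iff]
      simp only [f, Subgroup.coe_mul, Subgroup.coe_inv]
      constructor <;> intro e
      · simpa [mul_assoc] using congrArg (fun x => (a : G)⁻¹ * x * (b : G)) e.symm
      · simpa [mul_assoc] using congrArg (fun x => (a : G) * x * (b : G)⁻¹) e.symm
    let q : N ⧸ U → {x : G // x ∈ w2 D ∧ x ≠ 1} :=
      Quotient.lift f fun a b h => (hf a b).2 (QuotientGroup.leftRel_apply.1 h)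
    have hq : Function.Bijective q := by
      constructor
      · intro a b
        induction a using QuotientGroup.induction_on with
        | H a =>
          induction b using QuotientGroup.induction_on with
          | H b => exact fun e => QuotientGroup.eq.2 ((hf a b).1 e)
      · rintro ⟨x, hx, hx1⟩
        obtain ⟨n, hn, e⟩ := fus_transitive D hs hc2 hF hx hx1
        exact ⟨((⟨n, hn⟩ : N) : N ⧸ U), Subtype.ext e⟩
    rw [Subgroup.index, Nat.card_congr (Equiv.ofBijective q hq)]
    have h8 := wSub_card D hc2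
    have : Nat.card {x : G // x ∈ w2 D ∧ x ≠ 1} = Set.ncard (((w2 D : Subgroup G) : Set G) \ {1}) :=
      rfl
    rw [this, Set.ncard_sdiff_singleton_of_mem (one_mem _), ← Nat.card_coe_set_eq]
    exact congrArg (· - 1) h8
  have hcop : (Nat.card W).Coprime U.index := by
    have hle : w2 D ≤ N := Subgroup.le_normalizer
    rw [hidx, Nat.card_congr (Subgroup.subgroupOfEquivOfLe hle).toEquiv, wSub_card D hc2]
    norm_num
  obtain ⟨H, hH⟩ := CfsgLib.Solvable.gaschutz_exists hKU hcop hAK hKA
  refine ⟨⟨H.map N.subtype, ?_, ?_, ?_⟩⟩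
  · exact Subgroup.map_subtype_le H
  · rintro _ ⟨x, hx, rfl⟩ hw
    have : x ∈ W ⊓ H := ⟨Subgroup.mem_subgroupOf.2 hw, hx⟩
    rw [hH.disjoint.eq_bot, Subgroup.mem_bot] at this
    rw [this]; rfl
  · intro n hn
    obtain ⟨⟨w, h⟩, e, -⟩ := Subgroup.IsComplement.existsUnique hH (⟨n, hn⟩ : N)
    refine ⟨((w : N) : G), Subgroup.mem_subgroupOf.1 w.2, (h : N), h.2, ?_⟩
    have e' : ((w : N) : G) * ((h : N) : G) = n := congrArg Subtype.val e
    rw [← e']; simp

end CfsgLib.Recog.QSThree.Alt
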