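import Cfsg.Agent.Lib.Recog.QSThree.AltPair

/-!
# Type A8: the relators in the normaliser of the subgroup of class 2
-/

set_option autoImplicit false
set_option maxRecDepth 100000

namespace CfsgLib.Recog.QSThree.Alt

open CfsgLib.InvChar.Coset

universe u

variable {G : Type u} [Group G] {s : G} (D : Data tabA s)

/-- The letters in the centraliser. -/
def lLet : List ℕ := [96, 101, 107, 128]

/-- The letters with an extra element as letter `4`. -/
def letters (u : G) (x : ℕ) : G :=
  [D.el 96, D.el 101, D.el 107, D.el 128, u].getD x 1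

/-- The relators with the extra letter. -/
def rels2 : List (List ℕ) :=
  [[4, 0, 4, 2, 0], [4, 2, 3, 4, 2, 3, 4, 2, 3], [4, 3, 0, 1, 3, 4, 2, 3, 1, 0, 3, 2]]

/-- Words in the first four letters. -/
def wordOf : List (List ℕ) :=
  [[], [0, 1], [0, 2], [0, 3, 0, 1, 2, 3, 0, 1, 2, 3], [0, 1, 2, 3, 0, 1, 2, 3, 0, 1, 2, 3],
    [2, 3, 0, 1, 2, 3, 0, 1, 2, 3], [1, 3, 0, 1, 2, 3, 0, 1, 2, 3], [1, 2], [0], [1], [2],
    [3, 0, 1, 2, 3, 0, 1, 2, 3], [1, 2, 3, 0, 1, 2, 3, 0, 1, 2, 3],
    [0, 2, 3, 0, 1, 2, 3, 0, 1, 2, 3], [0, 1, 3, 0, 1, 2, 3, 0, 1, 2, 3], [0, 1, 2]]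

/-- Words whose values in the table must agree with the pairs. -/
def testWords : List (List ℕ) :=
  [[0, 0], [1, 1], [2, 2], [3, 3], [1, 2, 1, 2], [0, 1, 0, 1], [0, 2, 0, 2], [2, 3, 2, 3, 2, 3],
    [0, 3, 0, 3, 0, 3], [1, 3, 1, 3, 1, 3], [0, 1], [3, 0, 1, 3],
    [0, 1, 2, 3, 0, 1, 2, 3, 0, 1, 2, 3]]

/-- The table value of a word in the first four letters. -/
noncomputable def tWord (w : List ℕ) : ℕ :=
  w.foldr (fun x p => tabA.mul (lLet.getD x 0) p) 0

/-- The action of the extra letter on the subgroup of class 2. -/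
def fuW : List ℕ := [0, 16, 31, 15, 5, 21, 26, 10]

/-- The action of the extra letter on `rList`. -/
def fuR : List ℕ := [0, 16, 96, 117, 5, 21, 101, 112, 11, 27, 107, 110, 30, 14, 126, 123]

theorem word_facts : ((testWords ++ wordOf).all fun w => w.all fun x => Nat.blt x 4) = true ∧
    ((wordOf.map tWord) == rList) = true ∧
    (testWords.all fun w => wList.contains (tWord w)) = true := by
  refine ⟨?_, ?_, ?_⟩ <;> decide +kernel

theorem letters_small (u : G) {x : ℕ} (hx : x < 4) :
    letters D u x = D.el (lLet.getD x 0) ∧ lLet.getD x 0 < 192 := by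
  interval_cases x <;> exact ⟨rfl, by decide⟩

theorem wprod_tab (u : G) : ∀ w : List ℕ, (∀ x ∈ w, x < 4) →
    wprod (letters D u) w = D.el (tWord w) ∧ tWord w < 192 := by
  intro w
  induction w with
  | nil => exact fun _ => ⟨by simp [wprod, tWord, D.el_zero], by simp [tWord]⟩
  | cons x w ih =>
    intro hw
    obtain ⟨e, hlt⟩ := ih fun y hy => hw y (List.mem_cons_of_mem _ hy)
    obtain ⟨hl, hl'⟩ := letters_small D u (hw x List.mem_cons_self)
    have ew : wprod (letters D u) (x :: w) = letters D u x * wprod (letters D u) w := by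
      simp [wprod]
    refine ⟨?_, tabA_ok.mul_lt hl' hlt⟩
    rw [ew, e, hl, D.el_mul hl' hlt]; rfl

/-- Equality of pairs. -/
noncomputable def pEq (a b : ℕ × List ℕ) : Bool := Nat.beq a.1 b.1 && leq a.2 b.2

theorem eq_of_pEq {a b : ℕ × List ℕ} (h : pEq a b = true) : a = b := by
  simp only [pEq, Bool.and_eq_true] at h
  exact Prod.ext (Nat.eq_of_beq_eq_true h.1) (eq_of_leq _ _ h.2)

/-- The pairs of the first four letters. -/
noncomputable def gens (w : List ℕ) : List (ℕ × List ℕ) :=
  [(w.getD 0 0, conjW 96), (w.getD 1 0, conjW 101), (w.getD 2 0, conjW 107), (w.getD 3 0, conjW 128)]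

/-- Consistency with the table. -/
noncomputable def okL (w : List ℕ) : Bool :=
  testWords.all fun v => pEq (pWord (gens w) v) (tWord v, idW)

/-- The pattern cannot occur, by fusion. -/
noncomputable def clash (w : List ℕ) : Bool :=
  [12, 13].any fun i => pEq (pMul (pMul (0, fuW) (pWord (gens w) [0, 2])) (0, fuW))
    (pWord (gens w) (wordOf.getD i []))

/-- A translation for which all relators hold. -/
noncomputable def solves (w : List ℕ) (t : ℕ) : Bool :=
  let g := gens w ++ [(t, fuW)]
  pEq (pWord g [4, 4]) (0, idW) && (rels2.all fun r => pEq (pWord g r) (0, idW)) &&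
    (List.range 16).all fun i => pEq (pWord g ([4] ++ wordOf.getD i [] ++ [4]))
      (pWord g (wordOf.getD (rPos (fuR.getD i 0)) []))

theorem search : (wList.all fun a => wList.all fun b => wList.all fun c => wList.all fun d =>
    !okL [a, b, c, d] || clash [a, b, c, d] || wList.any fun t => solves [a, b, c, d] t) = true := by
  decide +kernel

theorem align_facts : (wList.all fun x => wList.all fun z =>
    let f := wList.map fun i => sel [5, x, z, 0] (coord [16, 5, 10, 0] i)
    (wList.any fun i => wList.any fun j => !Nat.beq i j && Nat.beq (wApp f i) (wApp f j)) ||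
      !Tab.all192 fun k => !leq ((conjW k).map (wApp f)) fuW) = true ∧
    (wList.all fun i => Nat.beq (sel [16, 5, 10, 0] (coord [16, 5, 10, 0] i)) i) = true := by
  constructor <;> decide +kernel

variable {D} in
theorem exists_kFu (C : Compl D) (hs : orderOf s = 2) (hF : Fus D 2) :
    ∃ k : G, Val C k (0, fuW) := by
  have hc2 : Six 2 := by simp [Six]
  have h5W : D.el 5 ∈ w2 D := ⟨5, by norm_num, (wList_get (by simp [wList] : 5 ∈ wList)).2.1, rfl⟩
  have h51 : D.el 5 ≠ 1 := fun e => by
    rw [← D.el_zero] at e
    exact absurd (D.el_inj (by norm_num) (by norm_num) e) (by norm_num)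
  obtain ⟨n, hn, hne⟩ := fus_transitive D hs hc2 hF h5W h51
  obtain ⟨w, hw, hK⟩ := C.split n hn
  set k := w⁻¹ * n with hk
  have hkN : k ∈ Subgroup.normalizer (w2 D : Set G) := C.le hK
  have himg : ∀ i ∈ wList, ∃ j ∈ wList, k * D.el i * k⁻¹ = D.el j := fun i hi => by
    obtain ⟨j, hj, hjw, e⟩ := (Subgroup.mem_normalizer_iff.1 hkN (D.el i)).1
      ⟨i, (wList_get hi).1, (wList_get hi).2.1, rfl⟩
    exact ⟨j, by simpa [hjw] using Tab.all192_get wList_facts.2 hj, e.symm⟩
  have hks : k * s * k⁻¹ = D.el 5 := by
    have hcm : Commute w (D.el 5) := by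
      obtain ⟨i, hi, hiw, rfl⟩ := hw
      refine (comm_iff D hi (by norm_num)).2 ?_
      have : (wList.all fun a => tabA.comm a 5) = true := by decide +kernel
      exact List.all_eq_true.1 this i (by simpa [hiw] using Tab.all192_get wList_facts.2 hi)
    calc k * s * k⁻¹ = w⁻¹ * (n * s * n⁻¹) * w := by rw [hk]; group
      _ = D.el 5 := by rw [hne, mul_assoc, ← hcm.eq]; group
  obtain ⟨x, hx, hxe⟩ := himg 5 (by simp [wList])
  obtain ⟨z, hz, hze⟩ := himg 10 (by simp [wList])
  set f := wList.map fun i => sel [5, x, z, 0] (coord [16, 5, 10, 0] i) with hf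
  have hval : Val C k (0, f) := by
    refine ⟨by simp [wList], by simp [hf, wList], k, hK, by rw [D.el_zero]; group, fun i hi => ?_⟩
    have key := sel_maps D (g := k) (b := [16, 5, 10, 0]) (y := [5, x, z, 0])
      (fun t => by rcases t with _ | _ | _ | _ | t <;> simp)
      (fun t => by
        rcases t with _ | _ | _ | _ | t <;> simp
        exacts [(wList_get hx).1, (wList_get hz).1])
      (fun t => by
        rcases t with _ | _ | _ | _ | t <;> simp [D.el_zero]
        · rw [D.el_zi, hks]
        · exact hxe
        · exact hze)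
      (coord [16, 5, 10, 0] i)
    rw [Nat.eq_of_beq_eq_true (List.all_eq_true.1 align_facts.2 i hi)] at key
    obtain ⟨j, hj, hje⟩ := himg i hi
    have hlt : sel [5, x, z, 0] (coord [16, 5, 10, 0] i) < 192 := by
      unfold sel
      simp only [show List.range 4 = [0, 1, 2, 3] from rfl, List.foldl_cons, List.foldl_nil]
      have hx' := (wList_get hx).1
      have hz' := (wList_get hz).1
      have cm : ∀ (b : Bool) {p q : ℕ}, p < 192 → q < 192 →
          (bif b then tabA.mul p q else p) < 192 := fun b p q hp hq => by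
        cases b with
        | false => exact hp
        | true => exact tabA_ok.mul_lt hp hq
      exact cm _ (cm _ (cm _ (cm _ (by norm_num) (by simp)) (by simpa using hx'))
        (by simpa using hz')) (by simp)
    show wApp f i ∈ wList ∧ _
    rw [hf, wMap hi]
    refine ⟨?_, key⟩
    rw [hje] at key
    rwa [← D.el_inj (wList_get hj).1 hlt key]
  have hfin := List.all_eq_true.1 (List.all_eq_true.1 align_facts.1 x hx) z hz
  simp only [← hf, Bool.or_eq_true] at hfin
  rcases hfin with h | h
  · obtain ⟨i, hi, h⟩ := List.any_eq_true.1 h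
    obtain ⟨j, hj, h⟩ := List.any_eq_true.1 h
    simp only [Bool.and_eq_true] at h
    obtain ⟨-, -, k', hk', e, hka⟩ := hval
    have e' : D.el i = D.el j := by
      refine (MulAut.conj k').injective ?_
      simp only [MulAut.conj_apply]
      rw [(hka i hi).2, (hka j hj).2]
      exact congrArg D.el (Nat.eq_of_beq_eq_true h.2)
    simp [D.el_inj (wList_get hi).1 (wList_get hj).1 e'] at h
  · rw [Bool.not_eq_true'] at h
    obtain ⟨m, hm, hme⟩ : ∃ m < 192, leq ((conjW m).map (wApp f)) fuW = true := by
      by_contra hcon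
      push Not at hcon
      refine absurd ?_ (Bool.eq_false_iff.1 h)
      refine List.all_eq_true.2 fun m hm => ?_
      rw [List.mem_range] at hm
      simpa using hcon m hm
    obtain ⟨v, -, hv⟩ := val_el (C := C) hm
    have := val_mul hval hv
    simp only [pMul, eq_of_leq _ _ hme] at this
    obtain ⟨-, hl, k', hk', e, hka⟩ := this
    exact ⟨k', by simp [wList], hl, k', hk', by rw [D.el_zero]; group, hka⟩

theorem rPos_fuR : ((List.range 16).all fun i => rList.contains (fuR.getD i 0) &&
    Nat.beq (rList.getD (rPos (fuR.getD i 0)) 0) (fuR.getD i 0)) = true ∧ wordOf.length = 16 ∧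
    rList.length = 16 := by
  refine ⟨by decide +kernel, rfl, rfl⟩

/-- The extra letter of the normaliser of the subgroup of class 2. -/
theorem exists_parab [Finite G] (hs : orderOf s = 2) (hg : Good D) :
    ∃ u : G, u * u = 1 ∧ (∀ r ∈ rels2, wprod (letters D u) r = 1) ∧ Act D u fuR := by
  obtain ⟨C⟩ := exists_compl D hs hg.two
  obtain ⟨u₀, hu₀⟩ := exists_kFu C hs hg.two
  obtain ⟨a, ha, va⟩ := val_el (C := C) (k := 96) (by norm_num)
  obtain ⟨b, hb, vb⟩ := val_el (C := C) (k := 101) (by norm_num)
  obtain ⟨c, hc, vc⟩ := val_el (C := C) (k := 107) (by norm_num)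
  obtain ⟨d, hd, vd⟩ := val_el (C := C) (k := 128) (by norm_num)
  have hL : ∀ x < (gens [a, b, c, d]).length,
      Val C (letters D (1 : G) x) ((gens [a, b, c, d]).getD x (0, idW)) := by
    intro x hx
    simp [gens] at hx
    interval_cases x
    exacts [va, vb, vc, vd]
  have hwsm : ∀ w ∈ testWords ++ wordOf, ∀ x ∈ w, x < 4 := fun w hw x hx => by
    simpa [Nat.blt] using List.all_eq_true.1 (List.all_eq_true.1 word_facts.1 w hw) x hx
  have hok : okL [a, b, c, d] = true := by
    refine List.all_eq_true.2 fun v hv => ?_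
    have h1 := val_word (C := C) hL v (fun x hx => by
      simpa [gens] using hwsm v (List.mem_append_left _ hv) x hx)
    obtain ⟨e, hlt⟩ := wprod_tab D (1 : G) v (hwsm v (List.mem_append_left _ hv))
    rw [e] at h1
    have hW : tWord v ∈ wList := by simpa using List.all_eq_true.1 word_facts.2.2 v hv
    have h2 : Val C (D.el (tWord v)) (tWord v, idW) := val_w hW
    obtain ⟨p1, pl, k1, hk1, e1, a1⟩ := h1
    have hmem : k1 ∈ w2 D := by
      have : k1 = (D.el (pWord (gens [a, b, c, d]) v).1)⁻¹ * D.el (tWord v) := by rw [e1]; group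
      rw [this]
      exact mul_mem (inv_mem ⟨_, (wList_get p1).1, (wList_get p1).2.1, rfl⟩)
        ⟨_, (wList_get hW).1, (wList_get hW).2.1, rfl⟩
    have hk1' : k1 = 1 := C.inf _ hk1 hmem
    subst hk1'
    have he1 : (pWord (gens [a, b, c, d]) v).1 = tWord v := by
      rw [mul_one] at e1
      exact (D.el_inj hlt (wList_get p1).1 e1).symm
    have he2 : (pWord (gens [a, b, c, d]) v).2 = idW := by
      refine List.ext_getElem (by rw [pl]; rfl) fun n h1 h2 => ?_
      have hn8 : n < 8 := by omega
      have hnW : wList.getD n 0 ∈ wList := by interval_cases n <;> simp [wList]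
      have hpos : wPos (wList.getD n 0) = n := by interval_cases n <;> decide +kernel
      obtain ⟨hm, e⟩ := a1 _ hnW
      rw [one_mul, inv_one, mul_one] at e
      have := D.el_inj (wList_get hnW).1 (wList_get hm).1 e
      rw [show wApp (pWord (gens [a, b, c, d]) v).2 (wList.getD n 0) =
        (pWord (gens [a, b, c, d]) v).2.getD (wPos (wList.getD n 0)) 0 from rfl, hpos,
        List.getD_eq_getElem _ _ h1] at this
      rw [← this, List.getD_eq_getElem _ _ (show n < wList.length by simpa [wList] using hn8)]
      rfl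
    simp only [pEq, Bool.and_eq_true]
    rw [he1, he2]
    exact ⟨by simp, by decide +kernel⟩
  have hs' := List.all_eq_true.1 (List.all_eq_true.1 (List.all_eq_true.1
    (List.all_eq_true.1 search a ha) b hb) c hc) d hd
  simp only [hok, Bool.not_true, Bool.false_or, Bool.or_eq_true] at hs'
  rcases hs' with h | h
  · exfalso
    obtain ⟨i, hi, h⟩ := List.any_eq_true.1 h
    have hi' : i = 12 ∨ i = 13 := by simpa using hi
    have h11 : Val C (D.el 11) (pWord (gens [a, b, c, d]) [0, 2]) := by
      have := val_word (C := C) hL [0, 2] (by intro x hx; simp at hx; simp [gens]; omega)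
      rw [(wprod_tab D 1 [0, 2] (by intro x hx; simp at hx; omega)).1,
        show tWord [0, 2] = 11 by decide +kernel] at this
      exact this
    have hw : ∀ x ∈ wordOf.getD i [], x < 4 := by
      refine hwsm _ (List.mem_append_right _ ?_)
      rcases hi' with rfl | rfl <;> simp [wordOf]
    have hi2 : Val C (D.el (tWord (wordOf.getD i []))) (pWord (gens [a, b, c, d]) (wordOf.getD i [])) := by
      have := val_word (C := C) hL (wordOf.getD i []) (fun x hx => by simpa [gens] using hw x hx)
      rwa [(wprod_tab D 1 _ hw).1] at this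
    have hj : tabA.cls (tWord (wordOf.getD i [])) = 6 ∧ tWord (wordOf.getD i []) < 192 := by
      rcases hi' with rfl | rfl <;> constructor <;> decide +kernel
    have hsq : u₀ * u₀ = 1 := by
      refine eq_of_val (C := C) (val_mul hu₀ hu₀) ?_
      rw [show pMul (0, fuW) (0, fuW) = (0, idW) by decide +kernel]
      exact val_one
    have e : u₀ * D.el 11 * u₀⁻¹ = D.el (tWord (wordOf.getD i [])) := by
      rw [inv_eq_of_mul_eq_one_right hsq]
      refine eq_of_val (C := C) (val_mul (val_mul hu₀ h11) hu₀) ?_
      rw [eq_of_pEq h]; exact hi2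
    have := fus_congr D (g := u₀) (by norm_num) hj.2
      (by rw [cls_reps.2.1]; norm_num) (by rw [hj.1]; norm_num) e
    rw [cls_reps.2.1, hj.1] at this
    exact hg.six (this.1 hg.three)
  · obtain ⟨t, ht, h⟩ := List.any_eq_true.1 h
    simp only [solves, Bool.and_eq_true] at h
    obtain ⟨⟨hsq, hrel⟩, hR⟩ := h
    obtain ⟨-, -, k₀, hk₀, -, hka⟩ := hu₀
    set u := D.el t * k₀ with hu
    have huv : Val C u (t, fuW) := ⟨ht, by simp [fuW], k₀, hk₀, rfl, hka⟩
    have hall : ∀ x < (gens [a, b, c, d] ++ [(t, fuW)]).length,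
        Val C (letters D u x) ((gens [a, b, c, d] ++ [(t, fuW)]).getD x (0, idW)) := by
      intro x hx
      simp [gens] at hx
      interval_cases x
      exacts [va, vb, vc, vd, huv]
    have hone : ∀ r : List ℕ, (∀ x ∈ r, x < 5) →
        pEq (pWord (gens [a, b, c, d] ++ [(t, fuW)]) r) (0, idW) = true →
          wprod (letters D u) r = 1 := fun r hr h => by
      refine eq_of_val (C := C) ?_ val_one
      rw [← eq_of_pEq h]
      exact val_word hall r (fun x hx => by simpa [gens] using hr x hx)
    have hu2 : u * u = 1 := by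
      have := hone [4, 4] (by simp) hsq
      simpa [wprod, letters] using this
    refine ⟨u, hu2, fun r hr => hone r ?_ (List.all_eq_true.1 hrel r hr), fun i hi => ?_⟩
    · have : (rels2.all fun r => r.all fun x => Nat.blt x 5) = true := by decide
      intro x hx
      simpa [Nat.blt] using List.all_eq_true.1 (List.all_eq_true.1 this r hr) x hx
    · obtain ⟨-, -, hp, hgd⟩ := rList_get hi
      set p := rPos i with hpdef
      have hq := List.all_eq_true.1 rPos_fuR.1 p (List.mem_range.2 hp)
      simp only [Bool.and_eq_true] at hq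
      have hfi : app fuR i = fuR.getD p 0 := rfl
      have hmem : app fuR i ∈ rList := by rw [hfi]; simpa using hq.1
      refine ⟨hmem, ?_⟩
      have hv := List.all_eq_true.1 hR p (List.mem_range.2 hp)
      have hqlt := (rList_get hmem).2.2.1
      rw [hfi] at hqlt
      have hw1 : ∀ x ∈ wordOf.getD p [], x < 4 := hwsm _ (List.mem_append_right _ (by
        rw [List.getD_eq_getElem _ _ (show p < wordOf.length by rw [rPos_fuR.2.1]; exact hp)]
        exact List.getElem_mem _))
      have hw2 : ∀ x ∈ wordOf.getD (rPos (fuR.getD p 0)) [], x < 4 :=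
        hwsm _ (List.mem_append_right _ (by
          rw [List.getD_eq_getElem _ _ (show _ < wordOf.length by rw [rPos_fuR.2.1]; exact hqlt)]
          exact List.getElem_mem _))
      have hT : ∀ n < 16, tWord (wordOf.getD n []) = rList.getD n 0 := by
        intro n hn
        have h := eq_of_beq word_facts.2.1
        rw [← h, List.getD_eq_getElem _ _ (show n < wordOf.length by rw [rPos_fuR.2.1]; exact hn),
          List.getD_eq_getElem _ _ (show n < (wordOf.map tWord).length by
            simp [rPos_fuR.2.1]; exact hn), List.getElem_map]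
      have e1 : wprod (letters D u) ([4] ++ wordOf.getD p [] ++ [4]) = u * D.el i * u⁻¹ := by
        rw [wprod_append, wprod_append, (wprod_tab D u _ hw1).1, hT p hp, hgd,
          inv_eq_of_mul_eq_one_right hu2]
        simp [wprod, letters]
      have e2 : wprod (letters D u) (wordOf.getD (rPos (fuR.getD p 0)) []) = D.el (app fuR i) := by
        rw [(wprod_tab D u _ hw2).1, hT _ hqlt, Nat.eq_of_beq_eq_true hq.2, hfi]
      rw [← e1, ← e2]
      refine eq_of_val (C := C) ?_ (val_word hall _ fun x hx => by
        have := hw2 x hx; simp [gens]; omega)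
      rw [← eq_of_pEq hv]
      refine val_word hall _ fun x hx => ?_
      simp only [List.mem_append, List.mem_singleton] at hx
      rcases hx with (rfl | hx) | rfl
      · simp [gens]
      · have := hw1 x hx; simp [gens]; omega
      · simp [gens]

end CfsgLib.Recog.QSThree.Alt
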