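import Cfsg.Agent.Lib.Recog.QSThree.AltFuse

/-!
# Type A8: the elementary subgroup of order 16 and the elements permuting it
-/

set_option autoImplicit false
set_option maxRecDepth 100000

namespace CfsgLib.Recog.QSThree.Alt

open CfsgLib.InvChar.Coset

universe u

variable {G : Type u} [Group G] {s : G} (D : Data tabA s)

/-- The elementary subgroup of order 16. -/
def rList : List ℕ := [0, 5, 11, 14, 16, 21, 27, 30, 96, 101, 107, 110, 112, 117, 123, 126]

/-- Position in `rList`. -/
def rPos (i : ℕ) : ℕ := rList.findIdx (fun x => Nat.beq x i)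

/-- Image of a number under a listed map. -/
def app (f : List ℕ) (i : ℕ) : ℕ := f.getD (rPos i) 0

/-- Composition of listed maps. -/
def comp (f h : List ℕ) : List ℕ := h.map (app f)

/-- The element acts on `rList` by the listed map. -/
def Act (g : G) (f : List ℕ) : Prop :=
  ∀ i ∈ rList, app f i ∈ rList ∧ g * D.el i * g⁻¹ = D.el (app f i)

/-- The action of a number. -/
noncomputable def conjList (k : ℕ) : List ℕ := rList.map (tabA.conj k)

/-- A listed map fixing `16` without being the action of a number. -/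
noncomputable def bad (f : List ℕ) : Bool :=
  Nat.beq (app f 16) 16 && Tab.all192 fun k => rList.any fun i => !Nat.beq (tabA.conj k i) (app f i)

theorem rList_facts : rList.all (fun i => Nat.blt i 192 && (rList.all fun j =>
    rList.contains (tabA.mul i j)) && Nat.blt (rPos i) 16 && Nat.beq (rList.getD (rPos i) 0) i) =
    true := by
  decide +kernel

theorem rList_get {i : ℕ} (hi : i ∈ rList) :
    i < 192 ∧ (∀ j ∈ rList, tabA.mul i j ∈ rList) ∧ rPos i < 16 ∧ rList.getD (rPos i) 0 = i := by
  have h := List.all_eq_true.1 rList_facts i hi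
  simp only [Bool.and_eq_true] at h
  exact ⟨by simpa [Nat.blt] using h.1.1.1,
    fun j hj => by simpa using List.all_eq_true.1 h.1.1.2 j hj,
    by simpa [Nat.blt] using h.1.2, Nat.eq_of_beq_eq_true h.2⟩

theorem app_map {F : ℕ → ℕ} {i : ℕ} (hi : i ∈ rList) : app (rList.map F) i = F i := by
  obtain ⟨-, -, hp, hg⟩ := rList_get hi
  have hl : rPos i < (rList.map F).length := by simpa [rList] using hp
  have hl' : rPos i < rList.length := by simpa [rList] using hp
  rw [app, List.getD_eq_getElem _ _ hl, List.getElem_map, ← List.getD_eq_getElem _ 0 hl', hg]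

theorem app_comp {f h : List ℕ} (hh : h.length = 16) {i : ℕ} (hi : i ∈ rList) :
    app (comp f h) i = app f (app h i) := by
  obtain ⟨-, -, hp, -⟩ := rList_get hi
  have hl : rPos i < h.length := by omega
  have hl' : rPos i < (h.map (app f)).length := by simpa using hl
  show (h.map (app f)).getD (rPos i) 0 = _
  rw [List.getD_eq_getElem _ _ hl', List.getElem_map,
    show app h i = h.getD (rPos i) 0 from rfl, List.getD_eq_getElem _ _ hl]

theorem act_comp {g h : G} {f k : List ℕ} (hg : Act D g f) (hh : Act D h k) (hk : k.length = 16) :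
    Act D (g * h) (comp f k) := by
  intro i hi
  obtain ⟨h1, e1⟩ := hh i hi
  obtain ⟨h2, e2⟩ := hg _ h1
  rw [app_comp hk hi]
  refine ⟨h2, ?_⟩
  rw [← e2, ← e1]; group

theorem comp_length (f : List ℕ) {k : List ℕ} (hk : k.length = 16) : (comp f k).length = 16 := by
  simp [comp, hk]

theorem conjList_length (k : ℕ) : (conjList k).length = 16 := by simp [conjList, rList]

theorem act_conjList {k : ℕ} (hk : k < 192)
    (h : (rList.all fun i => rList.contains (tabA.conj k i)) = true) :
    Act D (D.el k) (conjList k) := by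
  intro i hi
  rw [conjList, app_map hi]
  exact ⟨by simpa using List.all_eq_true.1 h i hi, D.el_conj tabA_ok hk (rList_get hi).1⟩

theorem not_bad {g : G} {f : List ℕ} (hg : Act D g f) : bad f = false := by
  cases hb : bad f with
  | false => rfl
  | true =>
    exfalso
    simp only [bad, Bool.and_eq_true] at hb
    obtain ⟨h16, hall⟩ := hb
    obtain ⟨-, e⟩ := hg 16 (by simp [rList])
    rw [Nat.eq_of_beq_eq_true h16, D.el_zi] at e
    have hgs : g * s = s * g := by
      calc g * s = g * s * g⁻¹ * g := by group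
        _ = s * g := by rw [e]
    obtain ⟨k, hk, rfl⟩ := D.mem.1 hgs
    obtain ⟨i, hi, hne⟩ := List.any_eq_true.1 (Tab.all192_get hall hk)
    obtain ⟨hmem, he⟩ := hg i hi
    rw [D.el_conj tabA_ok hk (rList_get hi).1] at he
    have := D.el_inj (tabA_ok.conj_lt hk (rList_get hi).1) (rList_get hmem).1 he
    simp [this] at hne

/-- The set cut out by `s` and a number. -/
def rset (a : G) : Set G :=
  {x | x * x = 1 ∧ x * s = s * x ∧ x * a = a * x ∧ 16 ≤ (cset s a x).ncard}

/-- The condition of `rset` on numbers. -/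
noncomputable def rTest (a x : ℕ) : Bool :=
  Nat.beq (tabA.mul x x) 0 && tabA.comm x a && Nat.ble 16 (cent2 a x)

theorem rTest_eq : ([5, 11, 14].all fun a => Tab.all192 fun x => rTest a x == rList.contains x) =
    true := by
  decide +kernel

theorem rset_eq {a : ℕ} (ha : a ∈ [5, 11, 14]) {x : ℕ} (hx : x < 192) :
    D.el x ∈ rset (s := s) (D.el a) ↔ x ∈ rList := by
  have ha' : a < 192 := by simp at ha; omega
  have h : rTest a x = rList.contains x := by
    simpa using Tab.all192_get (List.all_eq_true.1 rTest_eq a ha) hx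
  rw [← List.contains_iff_mem, ← h]
  simp only [rset, Set.mem_setOf_eq, rTest, Bool.and_eq_true]
  rw [← pow_two, D.el_sq tabA_ok hx, ncard_cset D ha' hx, comm_iff D hx ha']
  constructor
  · rintro ⟨h1, -, h2, h3⟩
    exact ⟨⟨by rw [h1]; rfl, h2⟩, Nat.ble_eq_true_of_le h3⟩
  · rintro ⟨⟨h1, h2⟩, h3⟩
    exact ⟨Nat.eq_of_beq_eq_true h1, D.el_comm_s hx, h2, Nat.le_of_ble_eq_true h3⟩

/-- An element fixing `a` and carrying `s` to `s a` permutes `rList`. -/
theorem swap_maps {a : ℕ} (ha : a ∈ [5, 11, 14]) {g : G} (hga : g * D.el a * g⁻¹ = D.el a)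
    (hgs : g * s * g⁻¹ = s * D.el a) {i : ℕ} (hi : i ∈ rList) :
    ∃ j ∈ rList, g * D.el i * g⁻¹ = D.el j := by
  have hsa : D.el a * s = s * D.el a := D.el_comm_s (by simp at ha; omega)
  have hx := (rset_eq D ha (rList_get hi).1).2 hi
  obtain ⟨h1, h2, h3, h4⟩ := hx
  have k3 : (g * D.el i * g⁻¹) * D.el a = D.el a * (g * D.el i * g⁻¹) := by
    conv_lhs => rw [← hga]
    conv_rhs => rw [← hga]
    simpa [mul_assoc] using congrArg (fun x => g * x * g⁻¹) h3
  have k2 : (g * D.el i * g⁻¹) * (s * D.el a) = (s * D.el a) * (g * D.el i * g⁻¹) := by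
    rw [← hgs]
    simpa [mul_assoc] using congrArg (fun x => g * x * g⁻¹) h2
  have k2' : (g * D.el i * g⁻¹) * s = s * (g * D.el i * g⁻¹) := by
    have e : s = s * D.el a * (D.el a)⁻¹ := by group
    have c : Commute (g * D.el i * g⁻¹) (s * D.el a * (D.el a)⁻¹) :=
      Commute.mul_right k2 (Commute.inv_right k3)
    rw [← e] at c
    exact c
  have k4 : 16 ≤ (cset s (D.el a) (g * D.el i * g⁻¹)).ncard := by
    refine h4.trans_eq ?_
    have e : cset s (D.el a) (g * D.el i * g⁻¹) = MulAut.conj g '' cset s (D.el a) (D.el i) := by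
      ext y
      simp only [cset, Set.mem_setOf_eq, Set.mem_image, MulAut.conj_apply]
      constructor
      · rintro ⟨c1, c2, c3⟩
        refine ⟨g⁻¹ * y * g, ⟨?_, ?_, ?_⟩, by group⟩
        · have c : Commute y (g * s * g⁻¹) := by rw [hgs]; exact Commute.mul_right c1 c2
          simpa [mul_assoc] using congrArg (fun x => g⁻¹ * x * g) c.eq
        · rw [← hga] at c2
          simpa [mul_assoc] using congrArg (fun x => g⁻¹ * x * g) c2
        · simpa [mul_assoc] using congrArg (fun x => g⁻¹ * x * g) c3
      · rintro ⟨w, ⟨c1, c2, c3⟩, rfl⟩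
        have d2 : Commute (g * w * g⁻¹) (D.el a) := by
          have : (g * w * g⁻¹) * (g * D.el a * g⁻¹) = (g * D.el a * g⁻¹) * (g * w * g⁻¹) := by
            simpa [mul_assoc] using congrArg (fun x => g * x * g⁻¹) c2
          rwa [hga] at this
        have d1 : Commute (g * w * g⁻¹) (s * D.el a) := by
          have : (g * w * g⁻¹) * (g * s * g⁻¹) = (g * s * g⁻¹) * (g * w * g⁻¹) := by
            simpa [mul_assoc] using congrArg (fun x => g * x * g⁻¹) c1
          rwa [hgs] at this
        refine ⟨?_, d2, by simpa [mul_assoc] using congrArg (fun x => g * x * g⁻¹) c3⟩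
        have c := d1.mul_right d2.inv_right
        rwa [mul_inv_cancel_right] at c
    rw [e, Set.ncard_image_of_injective _ (MulAut.conj g).injective]
  obtain ⟨j, hj, hje⟩ := D.mem.1 k2'
  refine ⟨j, (rset_eq D ha hj).1 ?_, hje.symm⟩
  rw [hje]
  exact ⟨by simpa [mul_assoc] using congrArg (fun x => g * x * g⁻¹) h1, k2', k3, k4⟩

/-- Every fused class of size six gives an element fixing a member and carrying `s` to `s` times it. -/
theorem exists_swap (hs : orderOf s = 2) {a : ℕ} (ha : a < 192) (hc : Six (tabA.cls a))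
    (hF : Fus D (tabA.cls a)) :
    ∃ g : G, g * D.el a * g⁻¹ = D.el a ∧ g * s * g⁻¹ = s * D.el a := by
  have hc0 : tabA.cls a ≠ 0 := by rcases hc with h | h | h <;> omega
  have ha16 : a ≠ 16 := fun e => by
    rw [e, cls_sixteen] at hc; simp [Six] at hc
  obtain ⟨g, hg⟩ := isConj_iff.1 ((fus_iff D ha hc0).1 hF)
  obtain ⟨D', -⟩ : ∃ D' : Data tabA (D.el a), True := ⟨hg ▸ D.conjTo g, trivial⟩
  obtain ⟨j, hj, hjs⟩ := D'.mem.1 (D.el_comm_s ha).symm
  have hj0 : j ≠ 0 := fun e => by
    rw [e, D'.el_zero] at hjs; rw [← hjs, orderOf_one] at hs; omega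
  have hjc : tabA.cls j ≠ 0 := by
    refine cls_ne hj hj0 ((D'.el_sq tabA_ok hj).1 ?_)
    rw [hjs, ← hs]; exact pow_orderOf_eq_one s
  have h32 : cent1 j = 32 := by
    rw [← ncard_cent1 D' hj, hjs, ← cent1_eq ha hc, ← ncard_cent1 D ha]
    congr 1; ext h; simp [and_comm]
  have hj16 : j ≠ 16 := fun e => by
    have h2 := D'.el_zi
    rw [← e, hjs] at h2
    exact ha16 (D.el_inj ha (by norm_num) (h2.symm.trans D.el_zi.symm))
  have hjsix := cent1_six hj h32 hjc hj16
  have hpair : Tab.all192 (fun j => !(Nat.beq (tabA.cls j) 2 || Nat.beq (tabA.cls j) 3 ||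
      Nat.beq (tabA.cls j) 4) || Nat.beq (tabA.cls (tabA.mul j 16)) (tabA.cls j)) = true := by
    decide +kernel
  have hcl : tabA.cls j = tabA.cls (tabA.mul j 16) := by
    have := Tab.all192_get hpair hj
    have hb : (Nat.beq (tabA.cls j) 2 || Nat.beq (tabA.cls j) 3 || Nat.beq (tabA.cls j) 4) = true := by
      rcases hjsix with h | h | h <;> simp [h]
    simp only [hb, Bool.not_true, Bool.false_or] at this
    exact (Nat.eq_of_beq_eq_true this).symm
  obtain ⟨n, hn, hne⟩ := conj_of_cls D' hj (tabA_ok.mul_lt hj (by norm_num)) hjc hcl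
  rw [← D'.el_mul hj (by norm_num), hjs, D'.el_zi] at hne
  exact ⟨n, by rw [hn]; group, hne⟩

/-- A product of listed numbers selected by the bits of `m`. -/
noncomputable def sel (l : List ℕ) (m : ℕ) : ℕ :=
  (List.range 4).foldl (fun acc t => bif Nat.testBit m t then tabA.mul acc (l.getD t 0) else acc) 0

/-- The bits of a member with respect to a basis. -/
noncomputable def coord (b : List ℕ) (i : ℕ) : ℕ :=
  (List.range 16).findIdx fun m => Nat.beq (sel b m) i

/-- The linear extension of four images. -/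
noncomputable def ext4 (b y : List ℕ) : List ℕ := rList.map fun i => sel y (coord b i)

/-- A basis check. -/
noncomputable def basisOk (b : List ℕ) : Bool :=
  b.all (fun i => rList.contains i) && rList.all fun i => Nat.beq (sel b (coord b i)) i

theorem sel_maps {g : G} {b y : List ℕ}
    (hb : ∀ t, b.getD t 0 < 192) (hy : ∀ t, y.getD t 0 < 192)
    (h : ∀ t, g * D.el (b.getD t 0) * g⁻¹ = D.el (y.getD t 0)) (m : ℕ) :
    g * D.el (sel b m) * g⁻¹ = D.el (sel y m) := by
  suffices H : ∀ (L : List ℕ) (p q : ℕ), p < 192 → q < 192 → g * D.el p * g⁻¹ = D.el q →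
      g * D.el (L.foldl (fun acc t => bif Nat.testBit m t then tabA.mul acc (b.getD t 0) else acc) p) *
        g⁻¹ = D.el (L.foldl
          (fun acc t => bif Nat.testBit m t then tabA.mul acc (y.getD t 0) else acc) q) from
    H _ 0 0 (by norm_num) (by norm_num) (by rw [D.el_zero]; group)
  intro L
  induction L with
  | nil => intro p q _ _ e; simpa using e
  | cons t L ih =>
    intro p q hp hq e
    simp only [List.foldl_cons]
    cases Nat.testBit m t with
    | false => exact ih p q hp hq e
    | true =>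
      refine ih _ _ (tabA_ok.mul_lt hp (hb t)) (tabA_ok.mul_lt hq (hy t)) ?_
      simp only [cond_true]
      rw [← D.el_mul hp (hb t), ← D.el_mul hq (hy t), ← e, ← h t]; group

end CfsgLib.Recog.QSThree.Alt
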