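import Cfsg.Agent.Lib.Recog.QSThree.AltSwap

/-!
# Type A8: how the outer classes fuse, and the one-class case
-/

set_option autoImplicit false
set_option maxRecDepth 100000

namespace CfsgLib.Recog.QSThree.Alt

open CfsgLib.InvChar.Coset

universe u

variable {G : Type u} [Group G] {s : G} (D : Data tabA s)

/-- The member of a class of size six centralised by the outer representatives. -/
def centre (c : ℕ) : ℕ := if c = 2 then 5 else if c = 3 then 11 else 14

/-- Commutators of a number with the subgroup of a class lie in `{1, x}`. -/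
noncomputable def axisIn (c x r : ℕ) : Bool :=
  Tab.all192 fun w => !inW c w || Nat.beq (tabA.mul (tabA.conj r w) w) 0 ||
    Nat.beq (tabA.mul (tabA.conj r w) w) x

theorem outer_facts : ([2, 3, 4].all fun c =>
    axisIn c (centre c) 96 && tabA.comm 96 (centre c) && !inW c 96 &&
    Nat.beq (tabA.cls (centre c)) c &&
    Tab.all192 fun i => Nat.beq (tabA.cls i) 0 || inW c i || !axisIn c 16 i ||
      ((Nat.beq (tabA.cls i) 2 || Nat.beq (tabA.cls i) 3 || Nat.beq (tabA.cls i) 4) &&
        !Nat.beq (tabA.cls i) c && Tab.all192 fun w => !Nat.beq (tabA.cls w) c ||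
          !tabA.comm i w ||
          ((Nat.beq (tabA.cls (tabA.mul i w)) 2 || Nat.beq (tabA.cls (tabA.mul i w)) 3 ||
            Nat.beq (tabA.cls (tabA.mul i w)) 4) && !Nat.beq (tabA.cls (tabA.mul i w)) c &&
            !Nat.beq (tabA.cls (tabA.mul i w)) (tabA.cls i)))) = true := by
  decide +kernel

theorem six_of_beq {x : ℕ}
    (h : (Nat.beq x 2 || Nat.beq x 3 || Nat.beq x 4) = true) : Six x := by
  simp only [Bool.or_eq_true] at h
  rcases h with (h | h) | h <;> simp [Six, Nat.eq_of_beq_eq_true h]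

theorem ne_of_beq {x y : ℕ} (h : (!Nat.beq x y) = true) : x ≠ y := fun e => by simp [e] at h

theorem fus_congr {g : G} {i j : ℕ} (hi : i < 192) (hj : j < 192) (h1 : tabA.cls i ≠ 0)
    (h2 : tabA.cls j ≠ 0) (e : g * D.el i * g⁻¹ = D.el j) :
    Fus D (tabA.cls i) ↔ Fus D (tabA.cls j) := by
  have c : IsConj (D.el i) (D.el j) := isConj_iff.2 ⟨g, e⟩
  rw [fus_iff D hi h1, fus_iff D hj h2]
  exact ⟨fun h => h.trans c, fun h => h.trans c.symm⟩

/-- For a fused class the two outer classes fuse with the other two classes of size six. -/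
theorem outer_step (hs : orderOf s = 2) {c : ℕ} (hc : Six c) (hF : Fus D c) :
    ∃ c' c'', Six c' ∧ Six c'' ∧ c' ≠ c ∧ c'' ≠ c ∧ c'' ≠ c' ∧
      (Fus D 5 ↔ Fus D c') ∧ (Fus D 6 ↔ Fus D c'') := by
  have h96 : tabA.mul 96 16 = 112 ∧ tabA.cls 96 = 5 ∧ tabA.cls 112 = 6 ∧ tabA.mul 96 96 = 0 := by
    decide +kernel
  obtain ⟨hm, c5, c6, h2⟩ := h96
  have hm' : c ∈ [2, 3, 4] := by rcases hc with rfl | rfl | rfl <;> simp
  have hf := List.all_eq_true.1 outer_facts c hm'
  simp only [Bool.and_eq_true] at hf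
  obtain ⟨⟨⟨⟨haxis, hcomm⟩, hout⟩, hzc⟩, hgood⟩ := hf
  have hzc' := Nat.eq_of_beq_eq_true hzc
  have hz : centre c < 192 := by rcases hc with rfl | rfl | rfl <;> simp [centre]
  have hzW : D.el (centre c) ∈ wSub D hc := ⟨_, hz, by simp [inW, hzc'], rfl⟩
  have hz1 : D.el (centre c) ≠ 1 := fun e => by
    rw [← D.el_zero] at e
    have := D.el_inj hz (by norm_num) e
    rcases hc with rfl | rfl | rfl <;> simp [centre] at this
  obtain ⟨n, hn, hne⟩ := fus_transitive D hs hc hF hzW hz1
  have hm0 : n⁻¹ ∈ Subgroup.normalizer (wSub D hc : Set G) := inv_mem hn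
  have hzs : n⁻¹ * D.el (centre c) * n = s := by rw [← hne]; group
  have hvs : (n⁻¹ * D.el 96 * n) * s = s * (n⁻¹ * D.el 96 * n) := by
    have c : (n⁻¹ * D.el 96 * n) * (n⁻¹ * D.el (centre c) * n) =
        (n⁻¹ * D.el (centre c) * n) * (n⁻¹ * D.el 96 * n) := by
      simpa [mul_assoc] using congrArg (fun x => n⁻¹ * x * n)
        ((comm_iff D (by norm_num) hz).2 hcomm)
    rwa [hzs] at c
  obtain ⟨i, hi, hie⟩ := D.mem.1 hvs
  have ho : orderOf (D.el i) = 2 := by
    rw [hie, ← D.orderOf_el tabA_ok (i := 96) (by norm_num) (by norm_num) h2]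
    have := orderOf_injective (MulAut.conj n⁻¹).toMonoidHom (MulAut.conj n⁻¹).injective (D.el 96)
    simpa using this
  have hi0 : i ≠ 0 := fun e => by rw [e, D.el_zero, orderOf_one] at ho; omega
  have hcl : tabA.cls i ≠ 0 :=
    cls_ne hi hi0 ((D.el_sq tabA_ok hi).1 (ho ▸ pow_orderOf_eq_one _))
  have hiW : inW c i = false := by
    cases h : inW c i with
    | false => rfl
    | true =>
      exfalso
      have hmem : n * (n⁻¹ * D.el 96 * n) * n⁻¹ ∈ wSub D hc :=
        ((Subgroup.mem_normalizer_iff.1 hn) _).1 (hie ▸ ⟨i, hi, h, rfl⟩)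
      rw [show n * (n⁻¹ * D.el 96 * n) * n⁻¹ = D.el 96 by group] at hmem
      obtain ⟨k, hk, hkW, hke⟩ := hmem
      rw [D.el_inj hk (by norm_num) hke] at hkW
      simp [hkW] at hout
  have hax : axisIn c 16 i = true := by
    refine List.all_eq_true.2 fun w hw => ?_
    rw [List.mem_range] at hw
    cases hwW : inW c w with
    | false => rfl
    | true =>
      have hmem : n * D.el w * n⁻¹ ∈ wSub D hc :=
        ((Subgroup.mem_normalizer_iff.1 hn) _).1 ⟨w, hw, hwW, rfl⟩
      obtain ⟨x, hx, hxW, hxe⟩ := hmem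
      have hcase := Tab.all192_get haxis hx
      simp only [hxW, Bool.not_true, Bool.false_or, Bool.or_eq_true] at hcase
      have hcx := tabA_ok.conj_lt (k := 96) (by norm_num) hx
      have hciw := tabA_ok.conj_lt (k := i) hi hw
      have key : D.el (tabA.conj i w) * D.el w =
          n⁻¹ * (D.el (tabA.conj 96 x) * D.el x) * n := by
        rw [← D.el_conj tabA_ok hi hw, ← D.el_conj tabA_ok (by norm_num) hx, hie, hxe]
        group
      rcases hcase with h | h
      · rw [D.el_mul hcx hx, Nat.eq_of_beq_eq_true h, D.el_zero,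
          show n⁻¹ * 1 * n = 1 by group, D.el_mul hciw hw, ← D.el_zero] at key
        simp [D.el_inj (tabA_ok.mul_lt hciw hw) (by norm_num) key]
      · rw [D.el_mul hcx hx, Nat.eq_of_beq_eq_true h, hzs, D.el_mul hciw hw] at key
        have := key.trans D.el_zi.symm
        simp [D.el_inj (tabA_ok.mul_lt hciw hw) (by norm_num) this]
  have hg := Tab.all192_get hgood hi
  simp only [beq_false hcl, hiW, hax, Bool.not_true, Bool.false_or, Bool.and_eq_true] at hg
  obtain ⟨⟨hsix, hnec⟩, hthird⟩ := hg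
  have hsW : n⁻¹ * s * n ∈ wSub D hc := by
    have := ((Subgroup.mem_normalizer_iff.1 hm0) s).1 (s_mem_wSub D hc)
    simpa using this
  obtain ⟨w, hw, hwW, hwe⟩ := hsW
  have hwc : tabA.cls w = c := by
    simp only [inW, Bool.or_eq_true] at hwW
    rcases hwW with (h | h) | h
    · rw [Nat.eq_of_beq_eq_true h, D.el_zero] at hwe
      have : s = 1 := by
        calc s = n * (n⁻¹ * s * n) * n⁻¹ := by group
          _ = 1 := by rw [← hwe]; group
      rw [this, orderOf_one] at hs; omega
    · rw [Nat.eq_of_beq_eq_true h, D.el_zi] at hwe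
      have : D.el (centre c) = D.el 16 := by
        rw [D.el_zi]
        calc D.el (centre c) = n * (n⁻¹ * D.el (centre c) * n) * n⁻¹ := by group
          _ = n * (n⁻¹ * s * n) * n⁻¹ := by rw [hzs, ← hwe]
          _ = s := by group
      have := D.el_inj hz (by norm_num) this
      rcases hc with rfl | rfl | rfl <;> simp [centre] at this
    · exact Nat.eq_of_beq_eq_true h
  have hiw : tabA.comm i w = true := by
    refine (comm_iff D hi hw).1 ?_
    rw [hie, hwe]
    simpa [mul_assoc] using congrArg (fun x => n⁻¹ * x * n) (D.el_comm_s (i := 96) (by norm_num))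
  have ht := Tab.all192_get hthird hw
  simp only [hwc, hiw, Bool.not_true, Bool.false_or, Bool.and_eq_true,
    show Nat.beq c c = true by simp] at ht
  obtain ⟨⟨hsix', hnec'⟩, hne'⟩ := ht
  have hsix'' := six_of_beq hsix'
  refine ⟨tabA.cls i, tabA.cls (tabA.mul i w), six_of_beq hsix, hsix'', ne_of_beq hnec,
    ne_of_beq hnec', ne_of_beq hne', ?_, ?_⟩
  · rw [← c5]
    exact fus_congr D (g := n⁻¹) (by norm_num) hi (by rw [c5]; norm_num) hcl
      (by rw [hie, inv_inv])
  · rw [← c6]
    refine fus_congr D (g := n⁻¹) (i := 112) (by norm_num) (tabA_ok.mul_lt hi hw)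
      (by rw [c6]; norm_num) (by rcases hsix'' with h | h | h <;> rw [h] <;> norm_num) ?_
    rw [← D.el_mul hi hw, hie, hwe, ← hm, ← D.el_mul (by norm_num) (by norm_num), D.el_zi]
    group

/-- One fused class: the conjugates of `s` commuting with it fill its subgroup. -/
theorem closed_of_one (hs : orderOf s = 2) {c : ℕ} (hc : Six c) (hF : Fus D c)
    (h : ∀ c', Six c' → Fus D c' → c' = c) : Closed s := by
  refine ⟨wSub D hc, wSub_card D hc, fun w hw => wSub_sq D hc hw, s_mem_wSub D hc,
    fun g hg w hw => wSub_conj D hc hg hw, fun g _ hg => mem_of_centralizes D hc hg, ?_,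
    fun w hw h1 => isConj_of_mem D hs hc hF hw h1⟩
  intro g hg
  obtain ⟨i, hi, hie⟩ := D.mem.1 hg
  have ho : orderOf (D.el i) = 2 := by
    rw [hie, ← hs]
    exact orderOf_injective (MulAut.conj g).toMonoidHom (MulAut.conj g).injective s
  have hi0 : i ≠ 0 := fun e => by rw [e, D.el_zero, orderOf_one] at ho; omega
  have hcl : tabA.cls i ≠ 0 :=
    cls_ne hi hi0 ((D.el_sq tabA_ok hi).1 (ho ▸ pow_orderOf_eq_one _))
  have hfus : Fus D (tabA.cls i) := (fus_iff D hi hcl).2 (hie ▸ isConj_iff.2 ⟨g, rfl⟩)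
  obtain ⟨c', c'', h', h'', hne', hne'', -, e5, e6⟩ := outer_step D hs hc hF
  have h6 := (cls_pos hi hcl).2.2
  have hcls : tabA.cls i = 1 ∨ tabA.cls i = c := by
    by_cases hsix : Six (tabA.cls i)
    · exact Or.inr (h _ hsix hfus)
    · simp only [Six, not_or] at hsix
      rcases (by omega : tabA.cls i = 1 ∨ tabA.cls i = 5 ∨ tabA.cls i = 6) with e | e | e
      · exact Or.inl e
      · exact absurd (h _ h' (e5.1 (e ▸ hfus))) hne'
      · exact absurd (h _ h'' (e6.1 (e ▸ hfus))) hne''
  refine ⟨i, hi, ?_, hie⟩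
  rcases hcls with e | e
  · simp [inW, cls_one hi e]
  · simp [inW, e]

end CfsgLib.Recog.QSThree.Alt
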