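import Cfsg.Agent.Lib.Recog.QSThree.AltRFrame

/-!
# Type A8: the possible actions of a swapping element; not all three classes are fused
-/

set_option autoImplicit false
set_option maxRecDepth 100000

namespace CfsgLib.Recog.QSThree.Alt

open CfsgLib.InvChar.Coset

universe u

variable {G : Type u} [Group G] {s : G} (D : Data tabA s)

/-- The second pair of basis numbers. -/
def base (a : ℕ) : ℕ × ℕ := if a = 5 then (11, 96) else (5, 96)

/-- The action with the given images of the second pair. -/
noncomputable def swapList (a x z : ℕ) : List ℕ :=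
  ext4 [16, a, (base a).1, (base a).2] [tabA.mul 16 a, a, x, z]

/-- Elimination of an action by short words. -/
noncomputable def elim (f : List ℕ) : Bool :=
  bad (comp f f) || ([0, 1, 2, 3].any fun p =>
    bad (comp f (comp (conjList p) f))) ||
  ([0, 1, 2, 3].any fun p => [0, 1, 2, 3].any fun q =>
    bad (comp f (comp (conjList p) (comp f (comp (conjList q) f))))) ||
  rList.any fun i => rList.any fun j => !Nat.beq i j && Nat.beq (app f i) (app f j)

/-- An action is injective. -/
theorem act_inj {g : G} {f : List ℕ} (hg : Act D g f) {i j : ℕ} (hi : i ∈ rList) (hj : j ∈ rList)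
    (h : app f i = app f j) : i = j := by
  refine D.el_inj (rList_get hi).1 (rList_get hj).1 ((MulAut.conj g).injective ?_)
  simp only [MulAut.conj_apply]
  rw [(hg i hi).2, (hg j hj).2, h]

/-- The possible images of the second pair. -/
def survivors (a : ℕ) : List (ℕ × ℕ) :=
  if a = 5 then [(107, 96), (110, 101), (123, 101), (126, 96)]
  else if a = 11 then [(101, 96), (110, 107), (117, 107), (126, 96)]
  else [(101, 96), (107, 110), (117, 110), (123, 96)]

theorem filter_facts : ([5, 11, 14].all fun a => rList.all fun x => rList.all fun z =>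
    elim (swapList a x z) || (survivors a).contains (x, z)) = true := by
  decide +kernel

theorem basis_facts : ([5, 11, 14].all fun a => basisOk [16, a, (base a).1, (base a).2]) = true := by
  decide +kernel

theorem perm_facts : ([0, 1, 2, 3].all fun k =>
    rList.all fun i => rList.contains (tabA.conj k i)) = true := by
  decide +kernel

theorem act_perm {k : ℕ} (hk : k ∈ [0, 1, 2, 3]) : Act D (D.el k) (conjList k) :=
  act_conjList D (by simp at hk; omega) (List.all_eq_true.1 perm_facts k hk)

theorem swap_survives {a : ℕ} (ha : a ∈ [5, 11, 14]) {g : G}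
    (hga : g * D.el a * g⁻¹ = D.el a) (hgs : g * s * g⁻¹ = s * D.el a) :
    ∃ p ∈ survivors a, Act D g (swapList a p.1 p.2) := by
  have hb := List.all_eq_true.1 basis_facts a ha
  simp only [basisOk, Bool.and_eq_true] at hb
  have hm : ∀ i ∈ [16, a, (base a).1, (base a).2], i ∈ rList := fun i hi => by
    simpa using List.all_eq_true.1 hb.1 i hi
  obtain ⟨x, hx, hxe⟩ := swap_maps D ha hga hgs (hm (base a).1 (by simp))
  obtain ⟨z, hz, hze⟩ := swap_maps D ha hga hgs (hm (base a).2 (by simp))
  have ha' : a < 192 := (rList_get (hm a (by simp))).1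
  have hact : Act D g (swapList a x z) := by
    intro i hi
    rw [swapList, ext4, app_map hi]
    have key := sel_maps D (g := g) (b := [16, a, (base a).1, (base a).2])
      (y := [tabA.mul 16 a, a, x, z])
      (fun t => by
        rcases t with _ | _ | _ | _ | t <;> simp
        · exact ha'
        · exact (rList_get (hm _ (by simp))).1
        · exact (rList_get (hm _ (by simp))).1)
      (fun t => by
        rcases t with _ | _ | _ | _ | t <;> simp
        · exact tabA_ok.mul_lt (by norm_num) ha'
        · exact ha'
        · exact (rList_get hx).1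
        · exact (rList_get hz).1)
      (fun t => by
        rcases t with _ | _ | _ | _ | t <;> simp [D.el_zero]
        · rw [D.el_zi, hgs, ← D.el_mul (by norm_num) ha', D.el_zi]
        · exact hga
        · exact hxe
        · exact hze)
      (coord [16, a, (base a).1, (base a).2] i)
    rw [Nat.eq_of_beq_eq_true (List.all_eq_true.1 hb.2 i hi)] at key
    obtain ⟨j, hj, hje⟩ := swap_maps D ha hga hgs hi
    refine ⟨?_, key⟩
    have hlt : sel [tabA.mul 16 a, a, x, z] (coord [16, a, (base a).1, (base a).2] i) < 192 := by
      have : ∀ (L : List ℕ) (q : ℕ), q < 192 → L.foldl (fun acc t => bif Nat.testBit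
          (coord [16, a, (base a).1, (base a).2] i) t then
            tabA.mul acc ([tabA.mul 16 a, a, x, z].getD t 0) else acc) q < 192 := by
        intro L
        induction L with
        | nil => intro q hq; simpa using hq
        | cons t L ih =>
          intro q hq
          simp only [List.foldl_cons]
          refine ih _ ?_
          cases Nat.testBit (coord [16, a, (base a).1, (base a).2] i) t with
          | false => simpa using hq
          | true =>
            refine tabA_ok.mul_lt hq ?_
            rcases t with _ | _ | _ | _ | t <;> simp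
            · exact tabA_ok.mul_lt (by norm_num) ha'
            · exact ha'
            · exact (rList_get hx).1
            · exact (rList_get hz).1
      exact this _ 0 (by norm_num)
    rw [hje] at key
    rwa [← D.el_inj (rList_get hj).1 hlt key]
  refine ⟨(x, z), ?_, hact⟩
  have h := List.all_eq_true.1 (List.all_eq_true.1 (List.all_eq_true.1 filter_facts a ha) x hx) z hz
  rcases Bool.or_eq_true _ _ ▸ h with h | h
  · exfalso
    have hl : (swapList a x z).length = 16 := by simp [swapList, ext4, rList]
    simp only [elim, Bool.or_eq_true] at h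
    rcases h with ((h | h) | h) | h
    · rw [not_bad D (act_comp D hact hact hl)] at h; exact absurd h (by simp)
    · obtain ⟨p, hp, h⟩ := List.any_eq_true.1 h
      rw [not_bad D (act_comp D hact (act_comp D (act_perm D hp) hact hl) (comp_length _ hl))] at h
      exact absurd h (by simp)
    · obtain ⟨p, hp, h⟩ := List.any_eq_true.1 h
      obtain ⟨q, hq, h⟩ := List.any_eq_true.1 h
      have h1 := act_comp D hact (act_comp D (act_perm D hq) hact hl) (comp_length _ hl)
      have l1 := comp_length (swapList a x z) (comp_length (conjList q) hl)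
      rw [not_bad D (act_comp D hact (act_comp D (act_perm D hp) h1 l1) (comp_length _ l1))] at h
      exact absurd h (by simp)
    · obtain ⟨i, hi, h⟩ := List.any_eq_true.1 h
      obtain ⟨j, hj, h⟩ := List.any_eq_true.1 h
      simp only [Bool.and_eq_true] at h
      have := act_inj D hact hi hj (Nat.eq_of_beq_eq_true h.2)
      simp [this] at h
  · simpa using h

/-- The word with the given letters: `0,1,2` the three actions, `3` the number `3`. -/
noncomputable def wordList (f g h : List ℕ) (w : List ℕ) : List ℕ :=
  w.foldr (fun t acc => comp ([f, g, h, conjList 3].getD t []) acc) (conjList 0)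

/-- Words killing all three swaps at once. -/
def killWords : List (List ℕ) :=
  [[0, 1, 0, 2], [0, 1, 2, 0], [0, 1, 2, 1], [0, 2, 0, 1], [0, 3, 1, 0, 2], [0, 3, 1, 2, 0],
    [0, 3, 1, 2, 1], [0, 3, 2, 1, 0], [0, 3, 2, 1, 2], [1, 0, 2, 1], [2, 0, 1, 2]]

theorem kill_facts : ((survivors 5).all fun p => (survivors 11).all fun q => (survivors 14).all
    fun r => killWords.any fun w => bad (wordList (swapList 5 p.1 p.2) (swapList 11 q.1 q.2)
      (swapList 14 r.1 r.2) w)) = true := by
  decide +kernel

theorem act_word {u v w : G} {f g h : List ℕ} (hu : Act D u f) (hv : Act D v g) (hw : Act D w h)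
    (hf : f.length = 16) (hg : g.length = 16) (hh : h.length = 16) :
    ∀ L : List ℕ, (∀ t ∈ L, t < 4) →
      (wordList f g h L).length = 16 ∧ ∃ x, Act D x (wordList f g h L) := by
  intro L
  induction L with
  | nil => exact fun _ => ⟨conjList_length 0, _, act_perm D (by simp)⟩
  | cons t L ih =>
    intro hL
    obtain ⟨hl, x, hx⟩ := ih fun i hi => hL i (List.mem_cons_of_mem _ hi)
    have ht : t < 4 := hL t List.mem_cons_self
    refine ⟨comp_length _ hl, ?_⟩
    interval_cases t
    exacts [⟨_, act_comp D hu hx hl⟩, ⟨_, act_comp D hv hx hl⟩, ⟨_, act_comp D hw hx hl⟩,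
      ⟨_, act_comp D (act_perm D (k := 3) (by simp)) hx hl⟩]

theorem cls_reps : tabA.cls 5 = 2 ∧ tabA.cls 11 = 3 ∧ tabA.cls 14 = 4 := by decide +kernel

/-- At most two classes of size six are fused. -/
theorem not_all_fused (hs : orderOf s = 2) : ¬ (Fus D 2 ∧ Fus D 3 ∧ Fus D 4) := by
  rintro ⟨h2, h3, h4⟩
  obtain ⟨c5, c11, c14⟩ := cls_reps
  obtain ⟨u, hu1, hu2⟩ := exists_swap D hs (a := 5) (by norm_num) (by simp [Six, c5]) (by rwa [c5])
  obtain ⟨v, hv1, hv2⟩ := exists_swap D hs (a := 11) (by norm_num) (by simp [Six, c11]) (by rwa [c11])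
  obtain ⟨w, hw1, hw2⟩ := exists_swap D hs (a := 14) (by norm_num) (by simp [Six, c14]) (by rwa [c14])
  obtain ⟨p, hp, hu⟩ := swap_survives D (a := 5) (by simp) hu1 hu2
  obtain ⟨q, hq, hv⟩ := swap_survives D (a := 11) (by simp) hv1 hv2
  obtain ⟨r, hr, hw⟩ := swap_survives D (a := 14) (by simp) hw1 hw2
  obtain ⟨L, hL, hbad⟩ := List.any_eq_true.1
    (List.all_eq_true.1 (List.all_eq_true.1 (List.all_eq_true.1 kill_facts p hp) q hq) r hr)
  have hL4 : ∀ t ∈ L, t < 4 := by
    have : (killWords.all fun w => w.all fun t => Nat.blt t 4) = true := by decide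
    intro t ht
    simpa [Nat.blt] using List.all_eq_true.1 (List.all_eq_true.1 this L hL) t ht
  obtain ⟨-, x, hx⟩ := act_word D hu hv hw (by simp [swapList, ext4, rList])
    (by simp [swapList, ext4, rList]) (by simp [swapList, ext4, rList]) L hL4
  rw [not_bad D hx] at hbad
  exact absurd hbad (by simp)

end CfsgLib.Recog.QSThree.Alt
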