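import Cfsg.Agent.Lib.InvChar.CosetCert
import Mathlib.Algebra.Group.Subgroup.Basic
import Mathlib.GroupTheory.OrderOfElement
import Mathlib.SetTheory.Cardinal.Finite
import Mathlib.Tactic

/-!
# Involution centralisers `2^(1+4).S₃`: numbered groups

`Tab` is a multiplication table on the numbers below 192, with the classes of involutions;
`Data T s` numbers the centraliser of `s` by the table `T`, with `s` at number 16.
`Closed s` says that the conjugates of `s` in its centraliser are the involutions of a normal,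
self-centralising elementary subgroup of order 8.
-/

set_option autoImplicit false

namespace CfsgLib.Recog.QSThree

open CfsgLib.InvChar.Coset

universe u

/-- A table. -/
structure Tab where
  /-- products -/
  mulT : Tr
  /-- inverses -/
  invT : Tr
  /-- class numbers of involutions, from 1; `0` elsewhere -/
  clsT : Tr
  /-- conjugating numbers -/
  witT : Tr
  /-- class representatives -/
  reps : List ℕ

namespace Tab

variable (T : Tab)

/-- Product of two numbers. -/
noncomputable def mul (i j : ℕ) : ℕ := field T.mulT 128 8 (i * 192 + j)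

/-- Inverse of a number. -/
noncomputable def inv (i : ℕ) : ℕ := field T.invT 128 8 i

/-- Conjugate `k i k⁻¹`. -/
noncomputable def conj (k i : ℕ) : ℕ := T.mul (T.mul k i) (T.inv k)

/-- Class number. -/
noncomputable def cls (i : ℕ) : ℕ := field T.clsT 128 4 i

/-- Conjugating number. -/
noncomputable def wit (i : ℕ) : ℕ := field T.witT 128 8 i

/-- Representative of a class. -/
noncomputable def rep (c : ℕ) : ℕ := T.reps.getD (c - 1) 0

/-- Commutation of numbers. -/
noncomputable def comm (i j : ℕ) : Bool := Nat.beq (T.mul i j) (T.mul j i)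

/-- A test on all numbers below 192. -/
noncomputable def all192 (p : ℕ → Bool) : Bool := (List.range 192).all p

theorem all192_get {p : ℕ → Bool} (h : all192 p = true) {i : ℕ} (hi : i < 192) : p i = true :=
  List.all_eq_true.1 h i (List.mem_range.2 hi)

/-- The checks every table passes. -/
def Ok : Prop :=
  all192 (fun i => all192 fun j => Nat.blt (T.mul i j) 192) = true ∧
  all192 (fun i => Nat.blt (T.inv i) 192 && Nat.beq (T.mul i (T.inv i)) 0 &&
    Nat.beq (T.mul (T.inv i) i) 0 && Nat.beq (T.mul 0 i) i && Nat.beq (T.mul i 0) i &&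
    Nat.blt (T.wit i) 192 && T.comm i 16) = true ∧
  all192 (fun i => bif Nat.beq (T.cls i) 0 then Nat.beq i 0 || !Nat.beq (T.mul i i) 0
    else Nat.beq (T.mul i i) 0 && !Nat.beq i 0 && Nat.ble (T.cls i) T.reps.length &&
      Nat.blt (T.rep (T.cls i)) 192 && Nat.beq (T.conj (T.wit i) (T.rep (T.cls i))) i) = true

noncomputable instance : Decidable T.Ok := by unfold Ok; infer_instance

variable {T}

theorem Ok.mul_lt (hT : T.Ok) {i j : ℕ} (hi : i < 192) (hj : j < 192) : T.mul i j < 192 := by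
  simpa [Nat.blt] using all192_get (all192_get hT.1 hi) hj

theorem Ok.inv_facts (hT : T.Ok) {i : ℕ} (hi : i < 192) :
    T.inv i < 192 ∧ T.mul i (T.inv i) = 0 ∧ T.mul (T.inv i) i = 0 ∧ T.mul 0 i = i ∧
      T.mul i 0 = i ∧ T.wit i < 192 ∧ T.comm i 16 = true := by
  have h := all192_get hT.2.1 hi
  simp only [Bool.and_eq_true] at h
  obtain ⟨⟨⟨⟨⟨⟨h1, h2⟩, h3⟩, h4⟩, h5⟩, h6⟩, h7⟩ := h
  exact ⟨by simpa [Nat.blt] using h1, Nat.eq_of_beq_eq_true h2, Nat.eq_of_beq_eq_true h3,
    Nat.eq_of_beq_eq_true h4, Nat.eq_of_beq_eq_true h5, by simpa [Nat.blt] using h6, h7⟩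

theorem Ok.conj_lt (hT : T.Ok) {k i : ℕ} (hk : k < 192) (hi : i < 192) : T.conj k i < 192 :=
  hT.mul_lt (hT.mul_lt hk hi) (hT.inv_facts hk).1

theorem Ok.cls_facts (hT : T.Ok) {i : ℕ} (hi : i < 192) (h0 : i ≠ 0) (h2 : T.mul i i = 0) :
    1 ≤ T.cls i ∧ T.cls i ≤ T.reps.length ∧ T.rep (T.cls i) < 192 ∧
      T.conj (T.wit i) (T.rep (T.cls i)) = i := by
  have h := all192_get hT.2.2 hi
  rcases Nat.eq_zero_or_pos (T.cls i) with hc | hc
  · simp [hc, h0, h2] at h
  · have hb : Nat.beq (T.cls i) 0 = false := by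
      cases hb : Nat.beq (T.cls i) 0 with
      | false => rfl
      | true => have := Nat.eq_of_beq_eq_true hb; omega
    simp only [hb, cond_false, Bool.and_eq_true] at h
    exact ⟨hc, Nat.le_of_ble_eq_true h.1.1.2, by simpa [Nat.blt] using h.1.2,
      Nat.eq_of_beq_eq_true h.2⟩

end Tab

/-- The centraliser of `s` numbered by the table. -/
structure Data {G : Type u} [Group G] (T : Tab) (s : G) where
  /-- the element with a number -/
  el : ℕ → G
  el_mul : ∀ {i j : ℕ}, i < 192 → j < 192 → el i * el j = el (T.mul i j)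
  el_inj : ∀ {i j : ℕ}, i < 192 → j < 192 → el i = el j → i = j
  mem : ∀ {g : G}, g * s = s * g ↔ ∃ i < 192, el i = g
  el_zero : el 0 = 1
  el_zi : el 16 = s

namespace Data

variable {G : Type u} [Group G] {s : G} {T : Tab} (D : Data T s) (hT : T.Ok)
include D

theorem el_eq_iff {i j : ℕ} (hi : i < 192) (hj : j < 192) : D.el i = D.el j ↔ i = j :=
  ⟨D.el_inj hi hj, fun h => by rw [h]⟩

theorem el_comm_s {i : ℕ} (hi : i < 192) : D.el i * s = s * D.el i := D.mem.2 ⟨i, hi, rfl⟩

include hT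

theorem el_inv {i : ℕ} (hi : i < 192) : (D.el i)⁻¹ = D.el (T.inv i) :=
  inv_eq_of_mul_eq_one_right (by
    rw [D.el_mul hi (hT.inv_facts hi).1, (hT.inv_facts hi).2.1, D.el_zero])

theorem el_conj {k i : ℕ} (hk : k < 192) (hi : i < 192) :
    D.el k * D.el i * (D.el k)⁻¹ = D.el (T.conj k i) := by
  rw [D.el_mul hk hi, D.el_inv hT hk, D.el_mul (hT.mul_lt hk hi) (hT.inv_facts hk).1]
  rfl

theorem el_commute {i j : ℕ} (hi : i < 192) (hj : j < 192) :
    D.el i * D.el j = D.el j * D.el i ↔ T.comm i j = true := by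
  rw [D.el_mul hi hj, D.el_mul hj hi, D.el_eq_iff (hT.mul_lt hi hj) (hT.mul_lt hj hi), Tab.comm]
  exact ⟨fun h => by rw [h]; exact Nat.beq_refl _, Nat.eq_of_beq_eq_true⟩

theorem el_sq {i : ℕ} (hi : i < 192) : D.el i ^ 2 = 1 ↔ T.mul i i = 0 := by
  rw [pow_two, D.el_mul hi hi, ← D.el_zero, D.el_eq_iff (hT.mul_lt hi hi) (by norm_num)]

/-- An involution commuting with `s` is conjugate in the centraliser to a representative. -/
theorem exists_wit {g : G} (hg : orderOf g = 2) (hgs : g * s = s * g) :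
    ∃ i < 192, D.el i = g ∧ 1 ≤ T.cls i ∧ T.cls i ≤ T.reps.length ∧
      D.el (T.wit i) * D.el (T.rep (T.cls i)) * (D.el (T.wit i))⁻¹ = g := by
  obtain ⟨i, hi, rfl⟩ := D.mem.1 hgs
  have hne : i ≠ 0 := fun h => by rw [h, D.el_zero, orderOf_one] at hg; omega
  have hsq : T.mul i i = 0 := (D.el_sq hT hi).1 (hg ▸ pow_orderOf_eq_one _)
  obtain ⟨h1, h2, h3, h4⟩ := hT.cls_facts hi hne hsq
  exact ⟨i, hi, rfl, h1, h2, by rw [D.el_conj hT (hT.inv_facts hi).2.2.2.2.2.1 h3, h4]⟩

theorem orderOf_el {i : ℕ} (hi : i < 192) (h0 : i ≠ 0) (h2 : T.mul i i = 0) :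
    orderOf (D.el i) = 2 :=
  orderOf_eq_prime ((D.el_sq hT hi).2 h2)
    (fun h => h0 (D.el_inj hi (by norm_num) (by rw [h, D.el_zero])))

omit hT

theorem card_centralizer : Nat.card (Subgroup.centralizer ({s} : Set G)) = 192 := by
  have e : Fin 192 ≃ Subgroup.centralizer ({s} : Set G) := Equiv.ofBijective
    (fun i => ⟨D.el i, Subgroup.mem_centralizer_singleton_iff.2 (D.el_comm_s i.2)⟩)
    ⟨fun i j h => Fin.ext (D.el_inj i.2 j.2 (congrArg Subtype.val h)), fun g => by
      obtain ⟨i, hi, hg⟩ := D.mem.1 (Subgroup.mem_centralizer_singleton_iff.1 g.2)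
      exact ⟨⟨i, hi⟩, Subtype.ext hg⟩⟩
  rw [← Nat.card_congr e, Nat.card_fin]

end Data

/-- The conjugates of `s` inside its centraliser fill an elementary subgroup `W` of order 8 which
the centraliser normalises and in which it centralises nothing more. -/
def Closed {G : Type u} [Group G] (s : G) : Prop :=
  ∃ W : Subgroup G, Nat.card W = 8 ∧ (∀ w ∈ W, w ^ 2 = 1) ∧ s ∈ W ∧
    (∀ g : G, g * s = s * g → ∀ w ∈ W, g * w * g⁻¹ ∈ W) ∧
    (∀ g : G, g * s = s * g → (∀ w ∈ W, g * w = w * g) → g ∈ W) ∧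
    (∀ g : G, g * s * g⁻¹ * s = s * (g * s * g⁻¹) → g * s * g⁻¹ ∈ W) ∧
    (∀ w ∈ W, w ≠ 1 → IsConj s w)

end CfsgLib.Recog.QSThree
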