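import Mathlib.Data.Fintype.EquivFin
import Mathlib.GroupTheory.OrderOfElement
import Mathlib.SetTheory.Cardinal.Finite
import Mathlib.Tactic

/-!
# Numbering an extraspecial group `Q₈ ∘ Q₈`

With `x, x', y, y'` as usual, number `a + 2b + 4g + 8h + 16α` stands for
`s^α x^a x'^b y^g y'^h`.
-/

set_option autoImplicit false

namespace CfsgLib.Recog.QSThree

universe u

variable {G : Type u} [Group G]

/-- A power with exponent a bit. -/
def pw (g : G) (b : Bool) : G := cond b g 1

/-- A bit of a number. -/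
def bt (q k : ℕ) : Bool := Nat.beq ((q / 2 ^ k) % 2) 1

/-- Number with given bits. -/
def enc (a b g h α : Bool) : ℕ :=
  (cond a 1 0) + (cond b 2 0) + (cond g 4 0) + (cond h 8 0) + (cond α 16 0)

theorem bt_enc : ∀ a b g h α : Bool, bt (enc a b g h α) 0 = a ∧ bt (enc a b g h α) 1 = b ∧
    bt (enc a b g h α) 2 = g ∧ bt (enc a b g h α) 3 = h ∧ bt (enc a b g h α) 4 = α ∧
    enc a b g h α < 32 := by decide

/-- Multiplication by `s` on the right. -/
def stS (q : ℕ) : ℕ := enc (bt q 0) (bt q 1) (bt q 2) (bt q 3) (!bt q 4)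

/-- Multiplication by `x` on the right. -/
def stX (q : ℕ) : ℕ :=
  enc (!bt q 0) (bt q 1) (bt q 2) (bt q 3) (bt q 4 != (bt q 0 != bt q 1))

/-- Multiplication by `x'` on the right. -/
def stX' (q : ℕ) : ℕ := enc (bt q 0) (!bt q 1) (bt q 2) (bt q 3) (bt q 4 != bt q 1)

/-- Multiplication by `y` on the right. -/
def stY (q : ℕ) : ℕ :=
  enc (bt q 0) (bt q 1) (!bt q 2) (bt q 3) (bt q 4 != (bt q 2 != bt q 3))

/-- Multiplication by `y'` on the right. -/
def stY' (q : ℕ) : ℕ := enc (bt q 0) (bt q 1) (bt q 2) (!bt q 3) (bt q 4 != bt q 3)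

/-- Product of two numbers below 32. -/
def qmul (i j : ℕ) : ℕ :=
  let i4 := cond (bt j 4) (stS i) i
  let i0 := cond (bt j 0) (stX i4) i4
  let i1 := cond (bt j 1) (stX' i0) i0
  let i2 := cond (bt j 2) (stY i1) i1
  cond (bt j 3) (stY' i2) i2

/-- Image of a number under the endomorphism with these values at `x, x', y, y'`. -/
def qimg (ix ix' iy iy' q : ℕ) : ℕ :=
  qmul (qmul (qmul (qmul (cond (bt q 4) 16 0) (cond (bt q 0) ix 0)) (cond (bt q 1) ix' 0))
    (cond (bt q 2) iy 0)) (cond (bt q 3) iy' 0)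

/-- Two generators of a quaternion group with central involution `s`. -/
structure Pair (s x x' : G) : Prop where
  sq : x * x = s
  sq' : x' * x' = s
  comm : x' * x = x * x' * s

/-- Generators of `Q₈ ∘ Q₈`. -/
structure QRel (s x x' y y' : G) : Prop where
  ss : s * s = 1
  sx : x * s = s * x
  sx' : x' * s = s * x'
  sy : y * s = s * y
  sy' : y' * s = s * y'
  px : Pair s x x'
  py : Pair s y y'
  xy : y * x = x * y
  xy' : y' * x = x * y'
  x'y : y * x' = x' * y
  x'y' : y' * x' = x' * y'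

variable {s x x' y y' : G}

/-- The element with a number. -/
def qel (s x x' y y' : G) (q : ℕ) : G :=
  pw s (bt q 4) * pw x (bt q 0) * pw x' (bt q 1) * pw y (bt q 2) * pw y' (bt q 3)

theorem qel_enc (a b g h α : Bool) :
    qel s x x' y y' (enc a b g h α) = pw s α * pw x a * pw x' b * pw y g * pw y' h := by
  obtain ⟨h0, h1, h2, h3, h4, -⟩ := bt_enc a b g h α
  rw [qel, h0, h1, h2, h3, h4]

theorem qel_zero : qel s x x' y y' 0 = 1 := by
  simp [qel, pw, show bt 0 4 = false from rfl, show bt 0 0 = false from rfl,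
    show bt 0 1 = false from rfl, show bt 0 2 = false from rfl, show bt 0 3 = false from rfl]

theorem qel_consts : qel s x x' y y' 1 = x ∧ qel s x x' y y' 2 = x' ∧ qel s x x' y y' 3 = x * x' ∧
    qel s x x' y y' 4 = y ∧ qel s x x' y y' 8 = y' ∧ qel s x x' y y' 12 = y * y' ∧
    qel s x x' y y' 16 = s ∧ qel s x x' y y' 17 = s * x ∧ qel s x x' y y' 19 = s * (x * x') ∧
    qel s x x' y y' 20 = s * y ∧ qel s x x' y y' 28 = s * (y * y') := by
  simp [qel, pw, show ∀ k, k < 5 → bt 1 k = decide (k = 0) from by decide,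
    show ∀ k, k < 5 → bt 2 k = decide (k = 1) from by decide, show ∀ k, k < 5 → bt 4 k = decide (k = 2) from by decide,
    show ∀ k, k < 5 → bt 8 k = decide (k = 3) from by decide, show ∀ k, k < 5 → bt 16 k = decide (k = 4) from by decide,
    show ∀ k, k < 5 → bt 3 k = decide (k = 0 ∨ k = 1) from by decide, show ∀ k, k < 5 → bt 12 k = decide (k = 2 ∨ k = 3) from by decide,
    show ∀ k, k < 5 → bt 17 k = decide (k = 0 ∨ k = 4) from by decide, show ∀ k, k < 5 → bt 19 k = decide (k = 0 ∨ k = 1 ∨ k = 4) from by decide,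
    show ∀ k, k < 5 → bt 20 k = decide (k = 2 ∨ k = 4) from by decide, show ∀ k, k < 5 → bt 28 k = decide (k = 2 ∨ k = 3 ∨ k = 4) from by decide, mul_assoc]

namespace QRel

variable (R : QRel s x x' y y')
include R

local notation "P" => qel s x x' y y'

theorem step_s (q : ℕ) : P (stS q) = P q * s := by
  rw [stS, qel_enc, qel]
  have c0 : ∀ b, pw x b * s = s * pw x b := fun b => by cases b <;> simp [pw, R.sx]
  have c1 : ∀ b, pw x' b * s = s * pw x' b := fun b => by cases b <;> simp [pw, R.sx']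
  have c2 : ∀ b, pw y b * s = s * pw y b := fun b => by cases b <;> simp [pw, R.sy]
  have c3 : ∀ b, pw y' b * s = s * pw y' b := fun b => by cases b <;> simp [pw, R.sy']
  have e : pw s (!bt q 4) = pw s (bt q 4) * s := by cases bt q 4 <;> simp [pw, R.ss]
  rw [e]
  simp only [mul_assoc]
  rw [c3, ← mul_assoc (pw y _) s, c2, mul_assoc, ← mul_assoc (pw x' _) s, c1, mul_assoc,
    ← mul_assoc (pw x _) s, c0, mul_assoc]

theorem absorb (r : Bool) (a b g h α : Bool) :
    pw s α * pw x a * pw x' b * pw y g * pw y' h * pw s r =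
      pw s (α != r) * pw x a * pw x' b * pw y g * pw y' h := by
  have h1 := R.step_s (enc a b g h α)
  obtain ⟨h0, hb, hg, hh, ha, -⟩ := bt_enc a b g h α
  rw [stS, h0, hb, hg, hh, ha, qel_enc, qel_enc] at h1
  cases r
  · cases α <;> simp [pw]
  · rw [show pw s true = s from rfl, ← h1]
    cases α <;> rfl

theorem step_x (q : ℕ) : P (stX q) = P q * x := by
  rw [stX, qel_enc, qel, ← R.absorb]
  have c3 : pw y' (bt q 3) * x = x * pw y' (bt q 3) := by cases bt q 3 <;> simp [pw, R.xy']
  have c2 : pw y (bt q 2) * x = x * pw y (bt q 2) := by cases bt q 2 <;> simp [pw, R.xy]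
  have cs : ∀ b r, pw y b * pw s r = pw s r * pw y b ∧ pw y' b * pw s r = pw s r * pw y' b :=
    fun b r => by cases b <;> cases r <;> simp [pw, R.sy, R.sy']
  have key : pw x (bt q 0) * pw x' (bt q 1) * x =
      pw x (!bt q 0) * pw x' (bt q 1) * pw s (bt q 0 != bt q 1) := by
    cases bt q 0 <;> cases bt q 1 <;> simp only [pw, cond_false, cond_true, Bool.not_false,
      Bool.not_true, one_mul, mul_one]
    · rw [show (false != false) = false from rfl, cond_false, mul_one]
    · rw [show (false != true) = true from rfl, cond_true, R.px.comm]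
    · rw [show (true != false) = true from rfl, cond_true, R.px.sq]
    · rw [show (true != true) = false from rfl, cond_false, mul_one, mul_assoc, R.px.comm,
        ← mul_assoc, ← mul_assoc, R.px.sq, mul_assoc, R.sx', ← mul_assoc, R.ss, one_mul]
  simp only [mul_assoc]
  rw [c3, ← mul_assoc (pw y _) x, c2, (cs _ _).2, ← mul_assoc (pw y _) (pw s _), (cs _ _).1]
  have key' := fun z => congrArg (· * z) key
  simp only [mul_assoc] at key' ⊢
  rw [key']

theorem step_x' (q : ℕ) : P (stX' q) = P q * x' := by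
  rw [stX', qel_enc, qel, ← R.absorb]
  have c3 : pw y' (bt q 3) * x' = x' * pw y' (bt q 3) := by cases bt q 3 <;> simp [pw, R.x'y']
  have c2 : pw y (bt q 2) * x' = x' * pw y (bt q 2) := by cases bt q 2 <;> simp [pw, R.x'y]
  have cs : ∀ b r, pw y b * pw s r = pw s r * pw y b ∧ pw y' b * pw s r = pw s r * pw y' b :=
    fun b r => by cases b <;> cases r <;> simp [pw, R.sy, R.sy']
  have key : pw x' (bt q 1) * x' = pw x' (!bt q 1) * pw s (bt q 1) := by
    cases bt q 1 <;> simp [pw, R.px.sq']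
  simp only [mul_assoc]
  rw [c3, ← mul_assoc (pw y _) x', c2, (cs _ _).2, ← mul_assoc (pw y _) (pw s _), (cs _ _).1]
  simp only [mul_assoc] at key ⊢
  rw [← mul_assoc (pw x' _) x', key]
  simp only [mul_assoc]

theorem step_y (q : ℕ) : P (stY q) = P q * y := by
  rw [stY, qel_enc, qel, ← R.absorb]
  have key : pw y (bt q 2) * pw y' (bt q 3) * y =
      pw y (!bt q 2) * pw y' (bt q 3) * pw s (bt q 2 != bt q 3) := by
    cases bt q 2 <;> cases bt q 3 <;> simp only [pw, cond_false, cond_true, Bool.not_false,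
      Bool.not_true, one_mul, mul_one]
    · rw [show (false != false) = false from rfl, cond_false, mul_one]
    · rw [show (false != true) = true from rfl, cond_true, R.py.comm]
    · rw [show (true != false) = true from rfl, cond_true, R.py.sq]
    · rw [show (true != true) = false from rfl, cond_false, mul_one, mul_assoc, R.py.comm,
        ← mul_assoc, ← mul_assoc, R.py.sq, mul_assoc, R.sy', ← mul_assoc, R.ss, one_mul]
  simp only [mul_assoc] at key ⊢
  rw [key]

theorem step_y' (q : ℕ) : P (stY' q) = P q * y' := by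
  rw [stY', qel_enc, qel, ← R.absorb]
  have key : pw y' (bt q 3) * y' = pw y' (!bt q 3) * pw s (bt q 3) := by
    cases bt q 3 <;> simp [pw, R.py.sq']
  simp only [mul_assoc]
  rw [key]

/-- **The product.** -/
theorem qel_mul (i j : ℕ) : P i * P j = P (qmul i j) := by
  have h : ∀ (f : ℕ → ℕ) (g : G), (∀ q, P (f q) = P q * g) → ∀ b q,
      P (cond b (f q) q) = P q * pw g b := fun f g hf b q => by
    cases b <;> simp [pw, hf]
  simp only [qmul, h _ _ R.step_s, h _ _ R.step_x, h _ _ R.step_x', h _ _ R.step_y,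
    h _ _ R.step_y', mul_assoc]
  simp only [qel, mul_assoc]

/-- **Endomorphisms on numbers.** -/
theorem qel_conj {c : G} (hc : c * s = s * c) {ix ix' iy iy' : ℕ} (h1 : c * x * c⁻¹ = P ix)
    (h2 : c * x' * c⁻¹ = P ix') (h3 : c * y * c⁻¹ = P iy) (h4 : c * y' * c⁻¹ = P iy') (q : ℕ) :
    c * P q * c⁻¹ = P (qimg ix ix' iy iy' q) := by
  have hpw : ∀ (g : G) (i : ℕ), c * g * c⁻¹ = P i → ∀ b, c * pw g b * c⁻¹ = P (cond b i 0) :=
    fun g i hi b => by cases b <;> simp [pw, hi, qel_zero]
  have hs : c * s * c⁻¹ = P 16 := by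
    rw [hc, mul_inv_cancel_right, qel_consts.2.2.2.2.2.2.1]
  rw [qimg, ← R.qel_mul, ← R.qel_mul, ← R.qel_mul, ← R.qel_mul, ← hpw _ _ hs, ← hpw _ _ h1,
    ← hpw _ _ h2, ← hpw _ _ h3, ← hpw _ _ h4, qel]
  group

end QRel

end CfsgLib.Recog.QSThree
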