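import Cfsg.Agent.Lib.Recog.QSThree.Setup
import Cfsg.Agent.Lib.Recog.QSThree.QGroup

/-!
# Choosing the generators of `2^(1+4).S₃`
-/

set_option autoImplicit false

namespace CfsgLib.Recog.QSThree

open Subgroup

universe u

variable {G : Type u} [Group G] {s c t : G} {Q : Subgroup G}

/-- Generators of a quaternion group permuted cyclically by `c`. -/
structure CPair (s c x : G) : Prop where
  pair : Pair s x (c * x * c⁻¹)
  rot : c * (c * x * c⁻¹) * c⁻¹ = x * (c * x * c⁻¹)
  rot' : c * (x * (c * x * c⁻¹)) * c⁻¹ = x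

/-- Checks on numbers below 32. -/
theorem q_chk :
    (List.range 32).all (fun n => (n == 0 || n == 16) ||
      [1, 2, 4, 8].any fun g => qmul n g == stS (qmul g n)) = true ∧
    (List.range 32).all (fun n => (List.range 32).any fun k => qmul k n == 0) = true ∧
    (List.range 32).all (fun k => ((List.range 32).filter fun i => qmul k i == 0).length ≤ 1) = true ∧
    (List.range 32).all (fun n => qmul n n != 16 ||
      [1, 17, 2, 18, 3, 19].contains n || [4, 20, 8, 24, 12, 28].contains n) = true ∧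
    [4, 20, 8, 24, 12, 28].all (fun n => qmul (stS n) 1 == qmul 1 (stS n) &&
      qmul (stS n) 2 == qmul 2 (stS n)) = true ∧
    (List.range 32).all (fun n => qmul n n != 16 || qmul n 1 != qmul 1 n || qmul n 2 != qmul 2 n ||
      [4, 20, 8, 24, 12, 28].contains n) = true := by
  decide +kernel

theorem qmul_lt (i j : ℕ) (hi : i < 32) : qmul i j < 32 := by
  have hs : ∀ (f : ℕ → ℕ), (∀ q, f q < 32) → ∀ (b : Bool) (q : ℕ), q < 32 → cond b (f q) q < 32 :=
    fun f hf b q hq => by cases b <;> simp [hf, hq]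
  have l : ∀ a b g h α, enc a b g h α < 32 := fun a b g h α => (bt_enc a b g h α).2.2.2.2.2
  exact hs stY' (fun q => l _ _ _ _ _) _ _ (hs stY (fun q => l _ _ _ _ _) _ _
    (hs stX' (fun q => l _ _ _ _ _) _ _ (hs stX (fun q => l _ _ _ _ _) _ _
      (hs stS (fun q => l _ _ _ _ _) _ _ hi))))

namespace Setup

variable (S : Setup s Q c t)
include S

theorem inv_eq_of_sq {q : G} (h : q * q = s) : q⁻¹ = q * s :=
  inv_eq_of_mul_eq_one_right (by rw [← mul_assoc, h, S.ss])

theorem conj_c {q : G} (hq : q ∈ Q) : c * q * c⁻¹ ∈ Q := S.norm c S.cs q hq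

theorem conj_c_pow (g : G) : c * (c * (c * g * c⁻¹) * c⁻¹) * c⁻¹ = g := by
  have e : c * (c * (c * g * c⁻¹) * c⁻¹) * c⁻¹ = c * c * c * g * (c * c * c)⁻¹ := by group
  rw [e, S.c3]; group

/-- No element is moved by `c` to its multiple by `s`. -/
theorem fixmod {q : G} (hq : q ∈ Q) : c * q * c⁻¹ ≠ q * s := fun h => by
  have hs : c * s * c⁻¹ = s := by rw [S.cs, mul_inv_cancel_right]
  have e2 : c * (c * q * c⁻¹) * c⁻¹ = q := by
    rw [h, show c * (q * s) * c⁻¹ = c * q * c⁻¹ * (c * s * c⁻¹) by group, h, hs, mul_assoc, S.ss,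
      mul_one]
  have h3 := S.conj_c_pow q
  rw [e2, h] at h3
  exact S.s1 (mul_eq_left.1 h3)

/-- The data of a pair from the rotation. -/
theorem cpair_of {x : G} (hx : x ∈ Q) (h : x * x = s)
    (r1 : c * (c * x * c⁻¹) * c⁻¹ = x * (c * x * c⁻¹))
    (r2 : c * (x * (c * x * c⁻¹)) * c⁻¹ = x) : CPair s c x := by
  have hs : c * s * c⁻¹ = s := by rw [S.cs, mul_inv_cancel_right]
  set x' := c * x * c⁻¹ with hx'
  have h' : x' * x' = s := by
    rw [hx', show c * x * c⁻¹ * (c * x * c⁻¹) = c * (x * x) * c⁻¹ by group, h, hs]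
  have h2 : x * x' * (x * x') = s := by
    rw [← r1, show c * x' * c⁻¹ * (c * x' * c⁻¹) = c * (x' * x') * c⁻¹ by group, h', hs]
  have hxQ' : x' ∈ Q := S.conj_c hx
  refine ⟨⟨h, h', ?_⟩, r1, r2⟩
  calc x' * x = x⁻¹ * (x * x' * (x * x')) * x'⁻¹ := by group
    _ = x * s * s * (x' * s) := by rw [h2, S.inv_eq_of_sq h, S.inv_eq_of_sq h']
    _ = x * x' * s := by rw [mul_assoc x s s, S.ss, mul_one, ← mul_assoc]

/-- An element of square `s` normalised. -/
theorem triple {q : G} (hq : q ∈ Q) (h : q * q = s) :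
    ∃ x, (x = q ∨ x = q * s) ∧ CPair s c x := by
  have hs : c * s * c⁻¹ = s := by rw [S.cs, mul_inv_cancel_right]
  set q' := c * q * c⁻¹ with hq'
  set q'' := c * q' * c⁻¹ with hq''
  have hq'Q : q' ∈ Q := S.conj_c hq
  have hq''Q : q'' ∈ Q := S.conj_c hq'Q
  set P3 := q * q' * q'' with hP
  have hPQ : P3 ∈ Q := mul_mem (mul_mem hq hq'Q) hq''Q
  have hc : c * P3 * c⁻¹ = q' * q'' * q := by
    rw [hP, show c * (q * q' * q'') * c⁻¹ = c * q * c⁻¹ * (c * q' * c⁻¹) * (c * q'' * c⁻¹) by group,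
      ← hq', ← hq'', show c * q'' * c⁻¹ = q by rw [hq'', hq']; exact S.conj_c_pow q]
  have hfix : c * P3 = P3 * c := by
    rcases S.comm _ (mul_mem hq'Q hq''Q) _ hq with e | e
    · rw [e, show q * (q' * q'') = P3 from (mul_assoc _ _ _).symm] at hc
      exact mul_inv_eq_iff_eq_mul.1 hc
    · exfalso
      rw [e, show q * (q' * q'') = P3 from (mul_assoc _ _ _).symm] at hc
      exact S.fixmod hPQ hc
  obtain ⟨x, hx, hP1⟩ : ∃ x, (x = q ∨ x = q * s) ∧
      x * (c * x * c⁻¹) * (c * (c * x * c⁻¹) * c⁻¹) = s := by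
    rcases S.fixc _ hPQ hfix with e | e
    · refine ⟨q * s, Or.inr rfl, ?_⟩
      rw [show c * (q * s) * c⁻¹ = q' * (c * s * c⁻¹) by rw [hq']; group, hs,
        show c * (q' * s) * c⁻¹ = q'' * (c * s * c⁻¹) by rw [hq'']; group, hs]
      have c1 := S.cen _ hq'Q
      have c2 := S.cen _ hq''Q
      calc q * s * (q' * s) * (q'' * s) = q * (s * q') * (s * q'') * s := by group
        _ = q * q' * q'' * (s * s * s) := by rw [← c1, ← c2]; simp only [mul_assoc]; rw [← mul_assoc s q'', ← c2]; simp only [mul_assoc]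
        _ = s := by rw [show q * q' * q'' = 1 from e, S.ss, one_mul, one_mul]
    · exact ⟨q, Or.inl rfl, e⟩
  have hxQ : x ∈ Q := by rcases hx with rfl | rfl; exacts [hq, mul_mem hq S.sQ]
  have hxx : x * x = s := by
    rcases hx with rfl | rfl
    · exact h
    · rw [mul_assoc, ← mul_assoc s, ← S.cen q hq, mul_assoc q s, S.ss, mul_one, h]
  set x' := c * x * c⁻¹ with hx'
  set x'' := c * x' * c⁻¹ with hx''
  have h'' : x'' * x'' = s := by
    rw [hx'', hx', show c * (c * x * c⁻¹) * c⁻¹ * (c * (c * x * c⁻¹) * c⁻¹) =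
      c * (c * (x * x) * c⁻¹) * c⁻¹ by group, hxx, hs, hs]
  have r1 : x'' = x * x' := by
    have e : x * x' = s * x''⁻¹ := eq_mul_inv_of_mul_eq hP1
    rw [e, S.inv_eq_of_sq h'', ← mul_assoc, ← S.cen _ (S.conj_c (S.conj_c hxQ)), mul_assoc, S.ss,
      mul_one]
  refine ⟨x, hx, S.cpair_of hxQ hxx r1 ?_⟩
  rw [← r1, hx'', hx']
  exact S.conj_c_pow x

omit S in
theorem comm_prod {g a b : G} (h1 : g * a = a * g) (h2 : g * b = b * g) :
    g * (a * b) = a * b * g := by rw [← mul_assoc, h1, mul_assoc, h2, mul_assoc]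

/-- A partner commuting with a given pair. -/
theorem exists_second {x : G} (hx : x ∈ Q) (hp : CPair s c x) :
    ∃ y ∈ Q, y * y = s ∧ y * x = x * y ∧ y * (c * x * c⁻¹) = c * x * c⁻¹ * y := by
  classical
  set x' := c * x * c⁻¹ with hx'
  have hx'Q : x' ∈ Q := S.conj_c hx
  by_contra hno
  push Not at hno
  let R : G → Prop := fun r => r ∈ Q ∧ r * x = x * r ∧ r * x' = x' * r
  have hR1 : ∀ r, R r → r * r = 1 := fun r hr =>
    (S.sq r hr.1).resolve_right fun h => hno r hr.1 h hr.2.1 hr.2.2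
  have hRc : ∀ r u, R r → R u → r * u = u * r := fun r u hr hu => by
    have hru : R (r * u) := ⟨mul_mem hr.1 hu.1, by rw [mul_assoc, hu.2.1, ← mul_assoc, hr.2.1, mul_assoc],
      by rw [mul_assoc, hu.2.2, ← mul_assoc, hr.2.2, mul_assoc]⟩
    have e1 := hR1 _ hru
    calc r * u = (r * r) * (r * u) * (u * u) := by rw [hR1 r hr, hR1 u hu, one_mul, mul_one]
      _ = r * (r * r * (u * u)) * u := by simp only [mul_assoc]
      _ = _ := by
        have : (r * u)⁻¹ = r * u := inv_eq_of_mul_eq_one_right e1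
        rw [hR1 r hr, hR1 u hu, mul_one, mul_one, ← this, mul_inv_rev,
          inv_eq_of_mul_eq_one_right (hR1 u hu), inv_eq_of_mul_eq_one_right (hR1 r hr)]
  -- decomposition
  let m : Fin 4 → G := ![1, x, x', x * x']
  have hm : ∀ i, m i ∈ Q := fun i => by fin_cases i <;> simp [m, one_mem, hx, hx'Q, mul_mem]
  have dec : ∀ q ∈ Q, ∃ r i, R r ∧ q = r * m i := fun q hq => by
    have key : ∀ i, (∀ b ∈ [x, x'], q * b = b * q → m i * b = b * m i) →
        (∀ b ∈ [x, x'], q * b = b * q * s → m i * b = b * m i * s) →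
        R (q * (m i)⁻¹) := by
      intro i h1 h2
      have hb : ∀ b ∈ [x, x'], b ∈ Q → q * (m i)⁻¹ * b = b * (q * (m i)⁻¹) := by
        intro b hb hbQ
        have goal : ∀ e : G, (e * s = s * e) → q * b = b * q * e → m i * b = b * m i * e →
            (∀ g ∈ Q, g * e = e * g) → q * (m i)⁻¹ * b = b * (q * (m i)⁻¹) := by
          intro e he hqe hme hce
          have hce' : e * (m i)⁻¹ = (m i)⁻¹ * e :=
            (Commute.inv_right (hce _ (hm i)).symm).eq
          have hmb : (m i)⁻¹ * b = b * (m i)⁻¹ * e⁻¹ := by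
            rw [eq_mul_inv_iff_mul_eq, eq_mul_inv_iff_mul_eq, mul_assoc, mul_assoc,
              inv_mul_eq_iff_eq_mul, hme, mul_assoc, hce _ (hm i)]
          calc q * (m i)⁻¹ * b = q * b * ((m i)⁻¹ * e⁻¹) := by rw [mul_assoc, hmb]; group
            _ = b * q * (e * (m i)⁻¹ * e⁻¹) := by rw [hqe]; group
            _ = _ := by rw [hce']; group
        rcases S.comm q hq b hbQ with e | e
        · exact goal 1 (by simp) (by simpa using e) (by simpa using h1 b hb e) (fun g _ => by simp)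
        · exact goal s rfl e (h2 b hb e) S.cen
      exact ⟨mul_mem hq (inv_mem (hm i)), hb x (by simp) hx, hb x' (by simp) hx'Q⟩
    have cx : x * x' = x' * x * s := by
      rw [hp.pair.comm, mul_assoc, S.ss, mul_one]
    have cxx : x * x' * x = x * (x * x') * s := by
      rw [mul_assoc x x' x, hp.pair.comm, ← mul_assoc x (x * x') s]
    have cxx' : x * x' * x' = x' * (x * x') * s := by
      conv_lhs => rw [cx]
      rw [mul_assoc (x' * x) s x', ← S.cen x' hx'Q, ← mul_assoc (x' * x) x' s, mul_assoc x' x x']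
    have nc : ∀ {g b : G}, g * b = b * g * s → g * b ≠ b * g := fun h h' => by
      rw [h'] at h; exact S.s1 (left_eq_mul.1 h)
    have contra : ∀ {b : G}, q * b = b * q → q * b = b * q * s → False := fun h h' =>
      nc h' h
    rcases S.comm q hq x hx with ex | ex <;> rcases S.comm q hq x' hx'Q with ex' | ex'
    · refine ⟨_, 0, key 0 ?_ ?_, (inv_mul_cancel_right _ _).symm⟩ <;> intro b hb hb' <;>
        simp only [List.mem_cons, List.not_mem_nil, or_false] at hb
      · rcases hb with rfl | rfl <;> simp [m]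
      · rcases hb with rfl | rfl
        exacts [(contra ex hb').elim, (contra ex' hb').elim]
    · refine ⟨_, 1, key 1 ?_ ?_, (inv_mul_cancel_right _ _).symm⟩ <;> intro b hb hb' <;>
        simp only [List.mem_cons, List.not_mem_nil, or_false] at hb
      · rcases hb with rfl | rfl
        exacts [rfl, (contra hb' ex').elim]
      · rcases hb with rfl | rfl
        exacts [(contra ex hb').elim, cx]
    · refine ⟨_, 2, key 2 ?_ ?_, (inv_mul_cancel_right _ _).symm⟩ <;> intro b hb hb' <;>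
        simp only [List.mem_cons, List.not_mem_nil, or_false] at hb
      · rcases hb with rfl | rfl
        exacts [(contra hb' ex).elim, rfl]
      · rcases hb with rfl | rfl
        exacts [hp.pair.comm, (contra ex' hb').elim]
    · refine ⟨_, 3, key 3 ?_ ?_, (inv_mul_cancel_right _ _).symm⟩ <;> intro b hb hb' <;>
        simp only [List.mem_cons, List.not_mem_nil, or_false] at hb
      · rcases hb with rfl | rfl
        exacts [(contra hb' ex).elim, (contra hb' ex').elim]
      · rcases hb with rfl | rfl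
        exacts [cxx, cxx']
  have hR0 : ∀ r, R r → r = 1 ∨ r = s := fun r hr => S.center r hr.1 fun b hb => by
    obtain ⟨u, i, hu, rfl⟩ := dec b hb
    refine comm_prod (hRc r u hr hu) ?_
    fin_cases i <;> simp [m, hr.2.1, hr.2.2, comm_prod hr.2.1 hr.2.2]
  have hle : Nat.card ↥Q ≤ Nat.card (Bool × Fin 4) := by
    refine Nat.card_le_card_of_surjective
      (fun p : Bool × Fin 4 => (⟨pw s p.1 * m p.2, mul_mem (by cases p.1 <;> simp [pw, S.sQ, one_mem])
        (hm _)⟩ : ↥Q)) fun q => ?_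
    obtain ⟨r, i, hr, e⟩ := dec q.1 q.2
    rcases hR0 r hr with h | h
    · exact ⟨(false, i), Subtype.ext (by simp [pw, e, h])⟩
    · exact ⟨(true, i), Subtype.ext (by simp [pw, e, h])⟩
  rw [S.card] at hle
  norm_num at hle

theorem exists_first : ∃ x ∈ Q, CPair s c x := by
  classical
  obtain ⟨q, hq, h⟩ : ∃ q ∈ Q, q * q = s := by
    by_contra hno
    push Not at hno
    have h1 : ∀ a ∈ Q, a * a = 1 := fun a ha => (S.sq a ha).resolve_right (hno a ha)
    have hc : ∀ a ∈ Q, ∀ b ∈ Q, a * b = b * a := fun a ha b hb => by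
      have e := inv_eq_of_mul_eq_one_right (h1 _ (mul_mem ha hb))
      rw [mul_inv_rev, inv_eq_of_mul_eq_one_right (h1 a ha),
        inv_eq_of_mul_eq_one_right (h1 b hb)] at e
      exact e.symm
    have hle : Nat.card ↥Q ≤ Nat.card Bool := Nat.card_le_card_of_surjective
      (fun b => (⟨pw s b, by cases b <;> simp [pw, S.sQ, one_mem]⟩ : ↥Q)) fun q => by
        rcases S.center q.1 q.2 (hc q.1 q.2) with h | h
        · exact ⟨false, Subtype.ext (by simp [pw, h])⟩
        · exact ⟨true, Subtype.ext (by simp [pw, h])⟩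
    rw [S.card] at hle
    simp at hle
  obtain ⟨x, hx, hp⟩ := S.triple hq h
  exact ⟨x, by rcases hx with rfl | rfl; exacts [hq, mul_mem hq S.sQ], hp⟩

theorem qrel {x y : G} (hx : x ∈ Q) (hy : y ∈ Q) (hp : CPair s c x) (hq : CPair s c y)
    (h1 : y * x = x * y) (h2 : y * (c * x * c⁻¹) = c * x * c⁻¹ * y) :
    QRel s x (c * x * c⁻¹) y (c * y * c⁻¹) where
  ss := S.ss
  sx := S.cen x hx
  sx' := S.cen _ (S.conj_c hx)
  sy := S.cen y hy
  sy' := S.cen _ (S.conj_c hy)
  px := hp.pair
  py := hq.pair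
  xy := h1
  x'y := h2
  x'y' := by
    calc c * y * c⁻¹ * (c * x * c⁻¹) = c * (y * x) * c⁻¹ := by group
      _ = _ := by rw [h1]; group
  xy' := by
    calc c * y * c⁻¹ * x = c * y * c⁻¹ * (c * (x * (c * x * c⁻¹)) * c⁻¹) := by rw [hp.rot']
      _ = c * (y * (x * (c * x * c⁻¹))) * c⁻¹ := by group
      _ = c * (x * (c * x * c⁻¹) * y) * c⁻¹ := by rw [comm_prod h1 h2]
      _ = c * (x * (c * x * c⁻¹)) * c⁻¹ * (c * y * c⁻¹) := by group
      _ = x * (c * y * c⁻¹) := by rw [hp.rot']

end Setup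

end CfsgLib.Recog.QSThree
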